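import Cfsg.Agent.Lib.Solv.MinNonCA.OddAbelian

/-!
Nonsolvable groups which are not CA groups but all of whose proper subgroups are: witnesses.
-/

set_option autoImplicit false

open scoped Pointwise commutatorElement

namespace Cfsg.Agent.MinNonCA

open Subgroup

variable {G : Type*} [Group G]

/-- The hypothesis of the classification. -/
structure Hyp (G : Type*) [Group G] : Prop where
  nsol : ¬ Group.IsSolvable G
  sub_ca : ∀ H : Subgroup G, H ≠ ⊤ → IsCA H
  not_ca : ¬ IsCA G

/-- A noncentral element with nonabelian centraliser. -/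
def Wit (z : G) : Prop :=
  z ∉ center G ∧ ∃ a b : G, Commute a z ∧ Commute b z ∧ ¬ Commute a b

theorem mem_C {z g : G} : g ∈ centralizer ({z} : Set G) ↔ Commute g z :=
  mem_centralizer_singleton_iff

/-- Proper subgroups are CA, in terms of elements of the whole group. -/
theorem Hyp.ca_on (h : Hyp G) {H : Subgroup G} (hH : H ≠ ⊤) {x : G} (hx : x ∈ H) {y : G} (hy : y ∈ H)
    (hxy : ¬ Commute x y) {a b : G} (ha : a ∈ H) (hb : b ∈ H) (hax : Commute a x) (hbx : Commute b x) :
    Commute a b := by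
  have hxc : (⟨x, hx⟩ : H) ∉ center H := fun hc =>
    hxy (congrArg Subtype.val (mem_center_iff.1 hc ⟨y, hy⟩)).symm
  exact congrArg Subtype.val (h.sub_ca H hH ⟨x, hx⟩ hxc ⟨a, ha⟩ ⟨b, hb⟩
    (Subtype.ext hax.eq) (Subtype.ext hbx.eq)).eq

/-- An element of a proper subgroup with nonabelian centraliser there is central there. -/
theorem Hyp.star (h : Hyp G) {H : Subgroup G} (hH : H ≠ ⊤) {z : G} (hz : z ∈ H) {a b : G} (ha : a ∈ H)
    (hb : b ∈ H) (haz : Commute a z) (hbz : Commute b z) (hab : ¬ Commute a b) :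
    H ≤ centralizer ({z} : Set G) := fun y hy => mem_C.2 <| by
  by_contra hyz
  exact hab (h.ca_on hH hz hy (fun c => hyz c.symm) ha hb haz hbz)

theorem Hyp.exists_wit (h : Hyp G) : ∃ z : G, Wit z := by
  by_contra hn
  push Not at hn
  exact h.not_ca fun x hx a b ha hb => by
    by_contra hab
    exact hn x ⟨hx, a, b, ha, hb, hab⟩

theorem C_eq_top {z : G} (h : centralizer ({z} : Set G) = ⊤) : z ∈ center G :=
  mem_center_iff.2 fun g => (mem_C.1 (h ▸ mem_top g)).eq

theorem Wit.ne_top {z : G} (hz : Wit z) : centralizer ({z} : Set G) ≠ ⊤ := fun h => hz.1 (C_eq_top h)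

theorem Hyp.maximal (h : Hyp G) {z : G} (hz : Wit z) {H : Subgroup G}
    (hH : centralizer ({z} : Set G) ≤ H) : H = centralizer ({z} : Set G) ∨ H = ⊤ := by
  by_cases hT : H = ⊤
  · exact Or.inr hT
  obtain ⟨-, a, b, ha, hb, hab⟩ := hz
  exact Or.inl (le_antisymm (h.star hT (hH (mem_C.2 (Commute.refl z))) (hH (mem_C.2 ha))
    (hH (mem_C.2 hb)) ha hb hab) hH)

theorem Wit.of_le {z w : G} (hz : Wit z) (hw : w ∉ center G) (hle : ∀ g, Commute g z → Commute g w) :
    Wit w := by
  obtain ⟨-, a, b, ha, hb, hab⟩ := hz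
  exact ⟨hw, a, b, hle a ha, hle b hb, hab⟩

theorem Wit.conj {z : G} (hz : Wit z) (g : G) : Wit (g * z * g⁻¹) := by
  obtain ⟨hc, a, b, ha, hb, hab⟩ := hz
  refine ⟨fun h => hc ?_, g * a * g⁻¹, g * b * g⁻¹, (Commute.conj_iff g).2 ha,
    (Commute.conj_iff g).2 hb, fun h => hab ((Commute.conj_iff g).1 h)⟩
  simpa [mul_assoc] using (inferInstance : (center G).Normal).conj_mem _ h g⁻¹

variable [Finite G]

/-- A normal nonsolvable subgroup has a proper two-local supplement, nonabelian inside it. -/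
theorem exists_two_local (hG : ¬ Group.IsSolvable G) (D : Subgroup G) [D.Normal]
    (hD : ¬ Group.IsSolvable D) :
    ∃ N : Subgroup G, N ≠ ⊤ ∧ N ⊔ D = ⊤ ∧ (∀ g, (∀ d ∈ D, Commute g d) → g ∈ N) ∧
      ∃ a b : G, a ∈ N ∧ b ∈ N ∧ a ∈ D ∧ b ∈ D ∧ ¬ Commute a b := by
  have _ := hG
  obtain ⟨S⟩ : Nonempty (Sylow 2 D) := inferInstance
  set P := (S : Subgroup D).map D.subtype with hP
  refine ⟨normalizer (P : Set G), fun hN => hD ?_, Sylow.normalizer_sup_eq_top S, fun g hg => ?_, ?_⟩
  · haveI : (S : Subgroup D).Normal := ⟨fun x hx d => by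
      have hd : (d : G) ∈ normalizer (P : Set G) := hN ▸ mem_top _
      obtain ⟨y, hy, hyx⟩ := (mem_normalizer_iff.1 hd (x : G)).1 ⟨x, hx, rfl⟩
      rwa [show d * x * d⁻¹ = y from Subtype.ext hyx.symm]⟩
    exact solvable_of_normal_two S
  · refine mem_normalizer_iff.2 fun x => ?_
    constructor
    · rintro ⟨y, hy, rfl⟩
      exact ⟨y, hy, by show (y : G) = g * (y : G) * g⁻¹; rw [(hg _ y.2).eq, mul_inv_cancel_right]⟩
    · rintro ⟨y, hy, hyx⟩
      refine ⟨y, hy, ?_⟩
      have : x = g⁻¹ * (y : G) * g := by rw [show (y : G) = g * x * g⁻¹ from hyx]; group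
      rw [this, mul_assoc, ← (hg _ y.2).eq, inv_mul_cancel_left]; rfl
  · by_contra hn
    push Not at hn
    refine hD (solvable_of_comm_normalizer S fun a ha b hb => Subtype.ext ?_)
    have up : ∀ c ∈ normalizer ((S : Subgroup D) : Set D), (c : G) ∈ normalizer (P : Set G) := fun c hc => by
      refine mem_normalizer_iff.2 fun x => ?_
      constructor
      · rintro ⟨y, hy, rfl⟩
        exact ⟨c * y * c⁻¹, (mem_normalizer_iff.1 hc y).1 hy, rfl⟩
      · rintro ⟨y, hy, hyx⟩
        refine ⟨c⁻¹ * y * c, ?_, ?_⟩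
        · refine (mem_normalizer_iff.1 hc _).2 ?_
          rw [show c * (c⁻¹ * y * c) * c⁻¹ = y by group]; exact hy
        · show (c : G)⁻¹ * (y : G) * c = x
          rw [show (y : G) = (c : G) * x * (c : G)⁻¹ from hyx]; group
    exact (hn a b (up a ha) (up b hb) a.2 b.2).eq

theorem Hyp.not_centralize (h : Hyp G) {D : Subgroup G} [D.Normal] (hD : ¬ Group.IsSolvable D) {z : G}
    (hz : Wit z) : ¬ D ≤ centralizer ({z} : Set G) := fun hle => by
  obtain ⟨N, hN, hsup, hcen, a, b, ha, hb, haD, hbD, hab⟩ := exists_two_local h.nsol D hD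
  have hzN : z ∈ N := hcen z fun d hd => (mem_C.1 (hle hd)).symm
  have hNle := h.star hN hzN ha hb (mem_C.1 (hle haD)) (mem_C.1 (hle hbD)) hab
  exact hz.ne_top (top_le_iff.1 (hsup ▸ sup_le hNle hle))

theorem Hyp.centralizer_central (h : Hyp G) {D : Subgroup G} [D.Normal] (hD : ¬ Group.IsSolvable D) {g : G}
    (hg : ∀ d ∈ D, Commute g d) : g ∈ center G := by
  by_contra hc
  obtain ⟨a, ha, b, hb, hab⟩ : ∃ a ∈ D, ∃ b ∈ D, ¬ Commute a b := by
    by_contra hn
    push Not at hn
    exact hD (sv_of_comm hn)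
  exact h.not_centralize hD ⟨hc, a, b, (hg a ha).symm, (hg b hb).symm, hab⟩
    fun d hd => mem_C.2 (hg d hd).symm

theorem Hyp.not_normal (h : Hyp G) {z : G} (hz : Wit z) : ¬ (centralizer ({z} : Set G)).Normal := by
  intro hn
  set M := centralizer ({z} : Set G) with hM
  by_cases hs : Group.IsSolvable M
  · apply h.nsol
    haveI := hs
    haveI : Group.IsSolvable (G ⧸ M) := by
      by_cases ht : ∀ x : G ⧸ M, x = 1
      · exact isSolvable_of_comm fun a b => by rw [ht a, ht b]
      push Not at ht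
      obtain ⟨x, hx⟩ := ht
      obtain h1 | h1 := h.maximal hz (H := (zpowers x).comap (QuotientGroup.mk' M))
        (fun m hm => by
          rw [mem_comap, QuotientGroup.mk'_apply, (QuotientGroup.eq_one_iff m).2 hm]; exact one_mem _)
      · exfalso
        obtain ⟨g, rfl⟩ := QuotientGroup.mk_surjective x
        have : g ∈ (zpowers (g : G ⧸ M)).comap (QuotientGroup.mk' M) := mem_comap.2 (mem_zpowers _)
        rw [h1] at this
        exact hx ((QuotientGroup.eq_one_iff g).2 this)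
      · refine isSolvable_of_comm fun a b => ?_
        obtain ⟨a, rfl⟩ := QuotientGroup.mk_surjective a
        obtain ⟨b, rfl⟩ := QuotientGroup.mk_surjective b
        obtain ⟨i, hi⟩ := mem_zpowers_iff.1 (mem_comap.1 (h1 ▸ mem_top a))
        obtain ⟨j, hj⟩ := mem_zpowers_iff.1 (mem_comap.1 (h1 ▸ mem_top b))
        rw [QuotientGroup.mk'_apply] at hi hj
        rw [← hi, ← hj, ← zpow_add, ← zpow_add, add_comm]
    exact solvable_of_ker_le_range M.subtype (QuotientGroup.mk' M) (by simp)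
  · exact h.not_centralize hs hz le_rfl

/-- An element moving a witness by a central element fixes it. -/
theorem Hyp.mem_of_central_move (h : Hyp G) {z : G} (hz : Wit z) {g : G}
    (hg : z⁻¹ * (g * z * g⁻¹) ∈ center G) : Commute g z := by
  set K := (centralizer ({QuotientGroup.mk z} : Set (G ⧸ center G))).comap (QuotientGroup.mk' (center G))
  have mK : ∀ {x : G}, x ∈ K ↔ z⁻¹ * (x * z * x⁻¹) ∈ center G := fun {x} => by
    rw [mem_comap, QuotientGroup.mk'_apply, mem_centralizer_singleton_iff, ← QuotientGroup.eq_one_iff]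
    simp only [QuotientGroup.mk_mul, QuotientGroup.mk_inv]
    rw [inv_mul_eq_one, eq_comm (a := (z : G ⧸ center G)), mul_inv_eq_iff_eq_mul]
  have hle : centralizer ({z} : Set G) ≤ K := fun x hx => mK.2 (by
    rw [(mem_C.1 hx).eq, mul_inv_cancel_right, inv_mul_cancel]; exact one_mem _)
  obtain h1 | h1 := h.maximal hz hle
  · exact mem_C.1 (h1 ▸ mK.2 hg)
  · exfalso
    refine h.not_normal hz ⟨fun x hx k => mem_C.2 ?_⟩
    have hk := mK.1 (h1 ▸ mem_top k⁻¹)
    rw [inv_inv] at hk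
    set ζ := z⁻¹ * (k⁻¹ * z * k)
    have e : k⁻¹ * z * k = z * ζ := by simp [ζ, mul_assoc]
    have hxz : Commute x (k⁻¹ * z * k) := by
      rw [e]; exact (mem_C.1 hx).mul_right (mem_center_iff.1 hk x)
    have := (Commute.conj_iff k).2 hxz
    rwa [show k * (k⁻¹ * z * k) * k⁻¹ = z by group] at this

/-- Witnesses of prime power order, prime modulo the centre. -/
structure PWit (p : ℕ) (z : G) : Prop where
  wit : Wit z
  isP : ∃ k, z ^ p ^ k = 1
  pow : z ^ p ∈ center G

theorem Hyp.exists_pwit (_h : Hyp G) {w : G} (hw : Wit w) :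
    ∃ (p : ℕ) (n : ℕ), p.Prime ∧ PWit p (w ^ n) := by
  have hex : ∃ m, 0 < m ∧ w ^ m ∈ center G :=
    ⟨orderOf w, orderOf_pos w, by rw [pow_orderOf_eq_one]; exact one_mem _⟩
  classical
  set m := Nat.find hex with hm
  obtain ⟨hm0, hmc⟩ := Nat.find_spec hex
  have hm1 : m ≠ 1 := fun e => hw.1 (by simpa [← hm, e] using hmc)
  set p := m.minFac with hp
  have hpp : p.Prime := Nat.minFac_prime hm1
  set u := w ^ (m / p) with hu
  have hmp : m / p * p = m := Nat.div_mul_cancel (Nat.minFac_dvd m)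
  have hup : u ^ p ∈ center G := by rw [hu, ← pow_mul, hmp]; exact hmc
  have huc : u ∉ center G := fun hc => by
    have h0 : 0 < m / p := Nat.div_pos (Nat.le_of_dvd hm0 (Nat.minFac_dvd m)) hpp.pos
    exact Nat.find_min hex (Nat.div_lt_self hm0 hpp.one_lt) ⟨h0, hc⟩
  obtain ⟨a, r, hr, hord⟩ := Nat.exists_eq_pow_mul_and_not_dvd (orderOf_pos u).ne' p hpp.ne_one
  refine ⟨p, m / p * r, hpp, ?_, ⟨a, ?_⟩, ?_⟩
  · refine hw.of_le (fun hc => huc ?_) fun g hg => hg.pow_right _
    have hcop : Nat.Coprime p r := hpp.coprime_iff_not_dvd.2 hr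
    have key := Nat.gcd_eq_gcd_ab p r
    rw [hcop.gcd_eq_one] at key
    rw [pow_mul, ← hu] at hc
    rw [← zpow_one u, show (1 : ℤ) = p * Nat.gcdA p r + r * Nat.gcdB p r by exact_mod_cast key,
      zpow_add, zpow_mul, zpow_mul, zpow_natCast, zpow_natCast]
    exact mul_mem (zpow_mem hup _) (zpow_mem hc _)
  · rw [pow_mul, ← hu, ← pow_mul, mul_comm r, ← hord, pow_orderOf_eq_one]
  · rw [pow_mul, ← hu, ← pow_mul, mul_comm r, pow_mul]
    exact pow_mem hup r

end Cfsg.Agent.MinNonCA
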