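import Cfsg.Agent.Lib.Solv.MinNonCA.TwoSylow

/-!
The central quotient of a quasisimple group whose proper subgroups are CA is a two-dimensional projective
special linear group.
-/

set_option autoImplicit false

open scoped Pointwise commutatorElement

namespace Cfsg.Agent.MinNonCA

open Subgroup

variable {X : Type*} [Group X]

/-- Elements of coprime orders commuting modulo the centre commute. -/
theorem coprime_commute {w x : X} {m n : ℕ} (hm : w ^ m = 1) (hn : x ^ n = 1) (hco : Nat.Coprime m n)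
    (hc : w * x * w⁻¹ * x⁻¹ ∈ center X) : Commute w x := by
  set ζ := w * x * w⁻¹ * x⁻¹ with hζ
  have hz := mem_center_iff.1 hc
  have e1 : w * x * w⁻¹ = ζ * x := by rw [hζ]; group
  have h1 : ζ ^ n = 1 := by
    have h : (w * x * w⁻¹) ^ n = 1 := by rw [conj_pow, hn]; group
    rw [e1, Commute.mul_pow (show Commute ζ x from (hz x).symm), hn, mul_one] at h
    exact h
  have h2 : ζ ^ m = 1 := by
    have e : ∀ k : ℕ, w ^ k * x * (w ^ k)⁻¹ = ζ ^ k * x := fun k => by
      induction k with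
      | zero => simp
      | succ k ih =>
        calc w ^ (k + 1) * x * (w ^ (k + 1))⁻¹ = w * (w ^ k * x * (w ^ k)⁻¹) * w⁻¹ := by
              rw [pow_succ']; group
          _ = w * ζ ^ k * x * w⁻¹ := by rw [ih]; group
          _ = ζ ^ k * (w * x * w⁻¹) := by rw [mem_center_iff.1 (pow_mem hc k) w]; group
          _ = ζ ^ k * (ζ * x) := by rw [e1]
          _ = ζ ^ (k + 1) * x := by rw [pow_succ]; exact (mul_assoc _ _ _).symm
    have := e m
    rw [hm, one_mul, inv_one, mul_one] at this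
    exact mul_eq_right.1 this.symm
  have h3 : ζ = 1 := (pow_eq_one_iff_of_coprime hco).1 ⟨h2, h1⟩
  exact mul_inv_eq_iff_eq_mul.1 (by rw [e1, h3, one_mul] : w * x * w⁻¹ = x)

variable [Finite X]

/-- In the dihedral configuration lifts of two commuting involutions do not commute. -/
theorem QS.no_commuting_lifts (h : QS X) {S : Sylow 2 X} (hd : DihShape S) {v₁ v₂ : X}
    (h₁ : v₁ * v₁ ∈ center X) (h₂ : v₂ * v₂ ∈ center X) (n₁ : v₁ ∉ center X) (n₂ : v₂ ∉ center X)
    (n₁₂ : v₁⁻¹ * v₂ ∉ center X) : ¬ Commute v₁ v₂ := by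
  intro hcm
  obtain ⟨t, n, ht, htc, -, ⟨s₀, hs₀, hs₀t⟩, Ac, runique, -, index2, -⟩ := hd
  set π := QuotientGroup.mk' (center X) with hπ
  have hone : ∀ {x : X}, π x = 1 ↔ x ∈ center X := fun {x} => QuotientGroup.eq_one_iff x
  have hS : ∃ a ∈ (S : Subgroup X), ∃ b ∈ (S : Subgroup X), ¬ Commute a b := ⟨s₀, hs₀, t, ht, hs₀t⟩
  have hST : (S : Subgroup X) ≠ ⊤ := fun e => h.nsol (sv_iff_top.1 (e ▸ sv_of_twoGroup S.2))
  -- two-element lifts
  obtain ⟨w₁, e₁, k₁, hk₁⟩ := exists_two_lift π (by rw [← map_mul]; exact hone.2 h₁ : π v₁ * π v₁ = 1)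
  obtain ⟨w₂, e₂, k₂, hk₂⟩ := exists_two_lift π (by rw [← map_mul]; exact hone.2 h₂ : π v₂ * π v₂ = 1)
  have hw : Commute w₁ w₂ := by
    have c₁ : v₁⁻¹ * w₁ ∈ center X := QuotientGroup.eq.1 e₁.symm
    have c₂ : v₂⁻¹ * w₂ ∈ center X := QuotientGroup.eq.1 e₂.symm
    rw [show w₁ = v₁ * (v₁⁻¹ * w₁) by group, show w₂ = v₂ * (v₂⁻¹ * w₂) by group]
    exact (hcm.mul_right (mem_center_iff.1 c₂ v₁)).mul_left ((mem_center_iff.1 c₁ _).symm)
  have hnorm : zpowers w₂ ≤ normalizer (zpowers w₁ : Set X) := by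
    refine zpowers_le.2 (centralizer_le_normalizer _ ?_)
    refine mem_centralizer_iff.2 fun x hx => ?_
    obtain ⟨i, rfl⟩ := mem_zpowers_iff.1 hx
    exact (hw.zpow_left i).eq
  obtain ⟨T, hT⟩ := (IsPGroup.to_sup_of_normal_left' (zpowers_isTwo hk₁) (zpowers_isTwo hk₂) hnorm).exists_le_sylow
  obtain ⟨g, hg⟩ := MulAction.exists_smul_eq X T S
  have hmem : ∀ x ∈ (T : Subgroup X), g * x * g⁻¹ ∈ (S : Subgroup X) := fun x hx => by
    rw [← hg]; exact ⟨x, hx, rfl⟩
  set a := g * w₁ * g⁻¹ with ha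
  set b := g * w₂ * g⁻¹ with hb
  have haS : a ∈ (S : Subgroup X) := hmem _ (hT (mem_sup_left (mem_zpowers _)))
  have hbS : b ∈ (S : Subgroup X) := hmem _ (hT (mem_sup_right (mem_zpowers _)))
  have hab : Commute a b := (Commute.conj_iff g).2 hw
  have pa : π a = π g * π v₁ * (π g)⁻¹ := by rw [ha, map_mul, map_mul, map_inv, e₁]
  have pb : π b = π g * π v₂ * (π g)⁻¹ := by rw [hb, map_mul, map_mul, map_inv, e₂]
  have ha2 : a * a ∈ center X := hone.1 (by
    rw [map_mul, pa, show π g * π v₁ * (π g)⁻¹ * (π g * π v₁ * (π g)⁻¹) = π g * (π v₁ * π v₁) * (π g)⁻¹ by group,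
      ← map_mul π v₁, hone.2 h₁]; group)
  have hb2 : b * b ∈ center X := hone.1 (by
    rw [map_mul, pb, show π g * π v₂ * (π g)⁻¹ * (π g * π v₂ * (π g)⁻¹) = π g * (π v₂ * π v₂) * (π g)⁻¹ by group,
      ← map_mul π v₂, hone.2 h₂]; group)
  have hac : a ∉ center X := fun hc => n₁ (hone.1 (by
    have := hone.2 hc
    rw [pa] at this
    calc π v₁ = (π g)⁻¹ * (π g * π v₁ * (π g)⁻¹) * π g := by group
      _ = 1 := by rw [this]; group))
  have hbc : b ∉ center X := fun hc => n₂ (hone.1 (by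
    have := hone.2 hc
    rw [pb] at this
    calc π v₂ = (π g)⁻¹ * (π g * π v₂ * (π g)⁻¹) * π g := by group
      _ = 1 := by rw [this]; group))
  have habc : a⁻¹ * b ∉ center X := fun hc => n₁₂ (hone.1 (by
    have := hone.2 hc
    rw [map_mul, map_inv, pa, pb] at this
    calc π (v₁⁻¹ * v₂) = (π g)⁻¹ * ((π g * π v₁ * (π g)⁻¹)⁻¹ * (π g * π v₂ * (π g)⁻¹)) * π g := by
          rw [map_mul, map_inv]; group
      _ = 1 := by rw [this]; group))
  -- an element of the abelian part commuting with one outside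
  have mixed : ∀ x ∈ (S : Subgroup X), ∀ y ∈ (S : Subgroup X), Commute x t → x ∉ center X →
      ¬ Commute y t → ¬ Commute x y := fun x hx y hy hxt hxc hyt hxy => by
    obtain ⟨r, hr, hrx⟩ : ∃ r ∈ (S : Subgroup X), ¬ Commute r x := by
      by_contra hn
      push Not at hn
      exact hxc (h.center_sylow S hS hx hn)
    exact hyt (h.ca_on hST hx hr (fun c => hrx c.symm) hy ht hxy.symm hxt.symm)
  by_cases hat : Commute a t
  · by_cases hbt : Commute b t
    · exact habc (runique a haS b hbS hat ha2 hac hbt hb2 hbc)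
    · exact mixed a haS b hbS hat hac hbt hab
  · by_cases hbt : Commute b t
    · exact mixed b hbS a haS hbt hbc hat hab.symm
    · refine mixed (a * b) (mul_mem haS hbS) b hbS (index2 a haS hat b hbS hbt) (fun hc => habc ?_) hbt
        (hab.mul_left (Commute.refl b))
      rw [show a⁻¹ * b = (a * a)⁻¹ * (a * b) by group]
      exact mul_mem (inv_mem ha2) hc

/-- The alternating group of degree seven does not occur. -/
theorem QS.not_alt_seven (h : QS X) {S : Sylow 2 X} (hd : DihShape S)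
    (e : X ⧸ center X ≃* alternatingGroup (Fin 7)) : False := by
  set φ : X →* alternatingGroup (Fin 7) := e.toMonoidHom.comp (QuotientGroup.mk' (center X)) with hφ
  have hsurj : Function.Surjective φ := e.surjective.comp (QuotientGroup.mk'_surjective _)
  have hone : ∀ {x : X}, φ x = 1 ↔ x ∈ center X := fun {x} => by
    rw [hφ, MonoidHom.comp_apply]
    exact (map_eq_one_iff _ e.injective).trans (QuotientGroup.eq_one_iff x)
  let σ : alternatingGroup (Fin 7) :=
    ⟨Equiv.swap 4 5 * Equiv.swap 5 6, Equiv.Perm.mem_alternatingGroup.2 (by decide)⟩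
  let τ : alternatingGroup (Fin 7) :=
    ⟨Equiv.swap 0 1 * Equiv.swap 4 5, Equiv.Perm.mem_alternatingGroup.2 (by decide)⟩
  let ρ : alternatingGroup (Fin 7) :=
    ⟨Equiv.swap 0 4 * Equiv.swap 1 2, Equiv.Perm.mem_alternatingGroup.2 (by decide)⟩
  let u₁ : alternatingGroup (Fin 7) :=
    ⟨Equiv.swap 0 1 * Equiv.swap 2 3, Equiv.Perm.mem_alternatingGroup.2 (by decide)⟩
  let u₂ : alternatingGroup (Fin 7) :=
    ⟨Equiv.swap 0 2 * Equiv.swap 1 3, Equiv.Perm.mem_alternatingGroup.2 (by decide)⟩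
  have f1 : σ ^ 3 = 1 := by decide
  have f2 : u₁ * u₁ = 1 := by decide
  have f3 : u₂ * u₂ = 1 := by decide
  have f4 : u₁ * σ * u₁⁻¹ * σ⁻¹ = 1 := by decide
  have f5 : u₂ * σ * u₂⁻¹ * σ⁻¹ = 1 := by decide
  have f6 : τ * σ * τ⁻¹ = σ⁻¹ := by decide
  have f7 : σ * τ ≠ τ * σ := by decide
  have f8 : ρ * σ * ρ⁻¹ * σ ≠ σ * (ρ * σ * ρ⁻¹) := by decide
  have f9 : u₁⁻¹ * u₂ ≠ 1 := by decide
  have f10 : u₁ ≠ 1 ∧ u₂ ≠ 1 := by decide
  set N := normalizer (zpowers σ : Set (alternatingGroup (Fin 7))) with hN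
  set H := N.comap φ with hH
  have hHne : H ≠ ⊤ := fun ht => by
    obtain ⟨r, hr⟩ := hsurj ρ
    have hm : ρ ∈ N := hr ▸ mem_comap.1 (show r ∈ N.comap φ by rw [← hH, ht]; exact mem_top r)
    obtain ⟨i, hi⟩ := mem_zpowers_iff.1 ((mem_normalizer_iff.1 hm σ).1 (mem_zpowers σ))
    exact f8 (by rw [← hi]; exact ((Commute.refl σ).zpow_left i).eq)
  have memH : ∀ {g : X}, φ g * σ * (φ g)⁻¹ = σ ∨ φ g * σ * (φ g)⁻¹ = σ⁻¹ → g ∈ H := fun {g} hg => by
    refine mem_comap.2 (mem_normalizer_iff.2 fun y => ?_)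
    have hle : ∀ y ∈ zpowers σ, φ g * y * (φ g)⁻¹ ∈ zpowers σ := fun y hy => by
      obtain ⟨i, rfl⟩ := mem_zpowers_iff.1 hy
      rw [← conj_zpow]
      rcases hg with hg | hg <;> rw [hg]
      · exact zpow_mem (mem_zpowers σ) i
      · exact zpow_mem (inv_mem (mem_zpowers σ)) i
    have heq : (zpowers σ).map (MulAut.conj (φ g)).toMonoidHom = zpowers σ :=
      eq_of_le_of_card_ge (fun y hy => by obtain ⟨w, hw, rfl⟩ := hy; exact hle w hw)
        (card_map_of_injective (MulAut.conj (φ g)).injective).ge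
    refine ⟨hle y, fun hy => ?_⟩
    obtain ⟨b, hb, hb'⟩ := heq.symm ▸ hy
    rwa [← (MulAut.conj (φ g)).injective hb']
  obtain ⟨x₀, hx₀⟩ := hsurj σ
  obtain ⟨a, r, hr, hord⟩ := Nat.exists_eq_pow_mul_and_not_dvd (orderOf_pos x₀).ne' 3 (by norm_num)
  set x := x₀ ^ (r * r) with hx
  have hxσ : φ x = σ := by
    rw [hx, map_pow, hx₀, ← Nat.mod_add_div (r * r) 3, pow_add, pow_mul, f1, one_pow, mul_one]
    have : r * r % 3 = 1 := by
      have h3 : r % 3 = 1 ∨ r % 3 = 2 := by omega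
      rw [Nat.mul_mod]; rcases h3 with h3 | h3 <;> rw [h3]
    rw [this, pow_one]
  have hxp : x ^ 3 ^ a = 1 := by
    rw [hx, ← pow_mul, show r * r * 3 ^ a = 3 ^ a * r * r by ring, ← hord, pow_mul, pow_orderOf_eq_one,
      one_pow]
  have mk : ∀ u : alternatingGroup (Fin 7), u * u = 1 → u * σ * u⁻¹ * σ⁻¹ = 1 →
      ∃ w : X, φ w = u ∧ w ∈ H ∧ Commute w x := fun u hu hus => by
    obtain ⟨w₀, hw₀⟩ := hsurj u
    obtain ⟨w, hw, k, hk⟩ := exists_two_lift φ (x := w₀) (by rw [hw₀]; exact hu)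
    rw [hw₀] at hw
    refine ⟨w, hw, memH (Or.inl ?_), coprime_commute hk hxp ?_ (hone.1 ?_)⟩
    · rw [hw]; exact mul_inv_eq_one.1 hus
    · exact Nat.Coprime.pow _ _ (by norm_num)
    · simp only [map_mul, map_inv, hw, hxσ]; exact hus
  obtain ⟨w₁, hw₁, hw₁H, hw₁x⟩ := mk u₁ f2 f4
  obtain ⟨w₂, hw₂, hw₂H, hw₂x⟩ := mk u₂ f3 f5
  obtain ⟨τ', hτ'⟩ := hsurj τ
  refine h.no_commuting_lifts hd (v₁ := w₁) (v₂ := w₂) (hone.1 ?_) (hone.1 ?_) (fun hc => f10.1 ?_)
    (fun hc => f10.2 ?_) (fun hc => f9 ?_) ?_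
  · rw [map_mul, hw₁]; exact f2
  · rw [map_mul, hw₂]; exact f3
  · rw [← hw₁]; exact hone.2 hc
  · rw [← hw₂]; exact hone.2 hc
  · rw [← hw₁, ← hw₂, ← map_inv, ← map_mul]; exact hone.2 hc
  · refine h.ca_on hHne (memH (g := x) (Or.inl (by rw [hxσ]; group))) (memH (g := τ') (Or.inr (by rw [hτ']; exact f6)))
      (fun hc => f7 ?_) hw₁H hw₂H hw₁x hw₂x
    rw [← hxσ, ← hτ', ← map_mul, ← map_mul, hc.eq]

/-- The central quotient is a two-dimensional projective special linear group. -/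
theorem QS.classify (h : QS X) : ∃ (F : Type) (_ : Field F) (_ : Fintype F), 4 ≤ Fintype.card F ∧
    Nonempty (X ⧸ center X ≃* Matrix.ProjectiveSpecialLinearGroup (Fin 2) F) := by
  haveI := h.simple
  set π := QuotientGroup.mk' (center X) with hπ
  have hone : ∀ {x : X}, π x = 1 ↔ x ∈ center X := fun {x} => QuotientGroup.eq_one_iff x
  have hYns : ¬ Group.IsSolvable (X ⧸ center X) := fun hs => h.not_comm (IsSimpleGroup.comm_iff_isSolvable.2 hs)
  have heven : Even (Nat.card (X ⧸ center X)) := Nat.not_odd_iff_even.1 fun ho => hYns (odd_solvable ho)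
  have hcore := oddCore_eq_bot heven
  obtain ⟨S⟩ : Nonempty (Sylow 2 X) := inferInstance
  by_cases hS : ∃ a ∈ (S : Subgroup X), ∃ b ∈ (S : Subgroup X), ⁅a, b⁆ ∉ center X
  · have hd := h.dihShape S hS
    obtain ⟨t, n, -, -, hn, -, -, -, -, -, ⟨e⟩⟩ := id hd
    haveI : Group.IsPerfect (X ⧸ center X) := ⟨by
      have hn' : (commutator (X ⧸ center X)).Normal := inferInstance
      rcases hn'.eq_bot_or_eq_top with hb | ht
      · exact absurd (fun a b => commutatorElement_eq_one_iff_mul_comm.1 (mem_bot.1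
          (hb ▸ commutator_mem_commutator (mem_top a) (mem_top b)))) h.not_comm
      · exact ht⟩
    rcases S0483.result (S.mapSurjective (f := π) (QuotientGroup.mk'_surjective _)) n hn ⟨e⟩ with
      ⟨F, iF, iF', -, h3, ⟨f⟩⟩ | ⟨⟨f⟩⟩
    · exact ⟨F, iF, iF', h3, ⟨(((QuotientGroup.quotientMulEquivOfEq hcore).trans
        QuotientGroup.quotientBot).symm).trans f⟩⟩
    · exact (h.not_alt_seven hd ((((QuotientGroup.quotientMulEquivOfEq hcore).trans
        QuotientGroup.quotientBot).symm).trans f)).elim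
  push Not at hS
  have hScomm : ∀ a ∈ (S : Subgroup X), ∀ b ∈ (S : Subgroup X), π a * π b = π b * π a := fun a ha b hb =>
    commutatorElement_eq_one_iff_mul_comm.1 (by rw [← map_commutatorElement]; exact hone.2 (hS a ha b hb))
  have hP : IsMulCommutative ↥((S.mapSurjective (f := π) (QuotientGroup.mk'_surjective _) :
      Sylow 2 (X ⧸ center X)) : Subgroup (X ⧸ center X)) := ⟨⟨by
    rintro ⟨_, a, ha, rfl⟩ ⟨_, b, hb, rfl⟩
    exact Subtype.ext (hScomm a ha b hb)⟩⟩
  have hinvol : ∀ t : X ⧸ center X, orderOf t = 2 →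
      Group.IsSolvable ↥(centralizer ({t} : Set (X ⧸ center X))) := by
    intro t' ht'
    obtain ⟨t₀, rfl⟩ := QuotientGroup.mk'_surjective (center X) t'
    obtain ⟨t, et, k, hk⟩ := exists_two_lift π (x := t₀) (by rw [← sq, ← ht']; exact pow_orderOf_eq_one _)
    rw [← et] at ht' ⊢
    have htc : t ∉ center X := fun hc => by rw [hone.2 hc, orderOf_one] at ht'; norm_num at ht'
    have ht2 : t * t ∈ center X := hone.1 (by rw [map_mul, ← sq, ← ht']; exact pow_orderOf_eq_one _)
    set H := (centralizer ({π t} : Set (X ⧸ center X))).comap π with hH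
    have memH : ∀ {y : X}, y ∈ H ↔ π y * π t = π t * π y := fun {y} => by
      rw [hH, mem_comap]; exact mem_centralizer_singleton_iff
    have hHne : H ≠ ⊤ := fun e => htc (hone.1 (mem_bot.1 (h.center_quotient ▸ mem_center_iff.2 fun g => by
      obtain ⟨g, rfl⟩ := QuotientGroup.mk'_surjective (center X) g
      exact memH.1 (e ▸ mem_top g))))
    suffices hs : Group.IsSolvable H by
      have := sv_map π hs
      rwa [hH, map_comap_eq_self_of_surjective (QuotientGroup.mk'_surjective _)] at this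
    have htH : t ∈ H := memH.2 rfl
    have moved : ∀ d ∈ H, d * t * d⁻¹ * t⁻¹ ∈ center X := fun d hd => hone.1 (by
      simp only [map_mul, map_inv, memH.1 hd]; group)
    by_cases hty : ∃ y ∈ H, ¬ Commute t y
    · obtain ⟨y, hy, hty⟩ := hty
      have hx : (⟨t, htH⟩ : H) ∉ center H := fun hc =>
        hty (congrArg Subtype.val (mem_center_iff.1 hc ⟨y, hy⟩)).symm
      rw [← sv_iff_top (G := H)]
      exact sv_of_moved_central (h.sub_ca H hHne) hx fun d _ => mem_center_iff.2 fun w =>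
        Subtype.ext (mem_center_iff.1 (moved d d.2) w)
    push Not at hty
    by_contra hns
    -- a Sylow subgroup of the centraliser
    obtain ⟨T, hT⟩ := (zpowers_isTwo hk).exists_le_sylow
    have htT : t ∈ (T : Subgroup X) := hT (mem_zpowers t)
    have hTH : (T : Subgroup X) ≤ H := fun y hy => by
      obtain ⟨g, hg⟩ := MulAction.exists_smul_eq X S T
      rw [← hg] at hy htT
      obtain ⟨a, ha, rfl⟩ := hy
      obtain ⟨b, hb, hb'⟩ := htT
      refine memH.2 ?_
      rw [← show g * b * g⁻¹ = t from hb']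
      show π (g * a * g⁻¹) * π (g * b * g⁻¹) = π (g * b * g⁻¹) * π (g * a * g⁻¹)
      simp only [map_mul, map_inv]
      calc π g * π a * (π g)⁻¹ * (π g * π b * (π g)⁻¹) = π g * (π a * π b) * (π g)⁻¹ := by group
        _ = π g * (π b * π a) * (π g)⁻¹ := by rw [hScomm a ha b hb]
        _ = _ := by group
    have hTt : ∀ y ∈ (T : Subgroup X), Commute y t := fun y hy => (hty y (hTH hy)).symm
    by_cases hTab : ∃ a ∈ (T : Subgroup X), ∃ b ∈ (T : Subgroup X), ¬ Commute a b
    · exact htc (h.center_sylow T hTab htT hTt)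
    push Not at hTab
    refine h.false_of_weakly_closed T htT ht2 htc fun g hg => ?_
    obtain ⟨m, hm, e⟩ := T.conj_eq_normalizer_conj_of_mem_centralizer t g⁻¹
      (mem_centralizer_iff.2 fun y hy => hTt y hy)
      (mem_centralizer_iff.2 fun y hy => by rw [inv_inv]; exact hTab y hy _ hg)
    let T' : Sylow 2 H := T.subtype hTH
    obtain ⟨a, ha, b, hb, hab⟩ : ∃ a ∈ normalizer ((T' : Subgroup H) : Set H),
        ∃ b ∈ normalizer ((T' : Subgroup H) : Set H), ¬ Commute a b := by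
      by_contra hn
      push Not at hn
      exact hns (solvable_of_comm_normalizer T' hn)
    have up : ∀ c ∈ normalizer ((T' : Subgroup H) : Set H), (c : X) ∈ normalizer ((T : Subgroup X) : Set X) :=
      fun c hc => mem_normalizer_iff.2 fun y => by
        constructor
        · intro hy
          exact (mem_normalizer_iff.1 hc ⟨y, hTH hy⟩).1 hy
        · intro hy
          have hy' : y ∈ H := by
            have := H.mul_mem (H.mul_mem (H.inv_mem c.2) (hTH hy)) c.2
            simpa [mul_assoc] using this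
          exact (mem_normalizer_iff.1 hc ⟨y, hy'⟩).2 hy
    have := h.star (h.normalizer_ne_top (sv_of_twoGroup T.2) htT htc) (le_normalizer htT) (up a ha) (up b hb)
      (hty a a.2).symm (hty b b.2).symm (fun c => hab (Subtype.ext c.eq)) hm
    rw [inv_inv] at e
    rw [e, mul_assoc, ← this.eq, inv_mul_cancel_left]
  rcases S3188.result _ hP hinvol with hs | ⟨F, iF, iF', hq, N, hN, ⟨f⟩, -⟩
  · exact absurd hs hYns
  let E := (QuotientGroup.quotientMulEquivOfEq hcore).trans QuotientGroup.quotientBot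
  have hNn : (N.map E.toMonoidHom).Normal := hN.map _ E.surjective
  refine ⟨F, iF, iF', ?_, ?_⟩
  · rcases hq with ⟨-, h5⟩ | ⟨n, hn, hq⟩
    · omega
    · rw [hq]; exact le_trans (by norm_num) (Nat.pow_le_pow_right two_pos hn)
  · rcases hNn.eq_bot_or_eq_top with hb | ht
    · exfalso
      rw [(map_eq_bot_iff_of_injective (H := N) (f := E.toMonoidHom) E.injective)] at hb
      have : Nontrivial ↥N := f.toEquiv.nontrivial
      exact (nontrivial_iff_ne_bot N).1 this hb
    · refine ⟨(((N.equivMapOfInjective E.toMonoidHom E.injective).trans ((MulEquiv.subgroupCongr ht).trans topEquiv)).symm).trans f⟩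

end Cfsg.Agent.MinNonCA
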