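import Cfsg.Agent.Lib.Solv.MinNonCA.PSL
import Cfsg.Agent.Lib.Classical.Dickson.Tools

/-!
The projective special linear group over the field of nine elements.
-/

set_option autoImplicit false

open scoped Pointwise

namespace Cfsg.Agent.MinNonCA.Nine

open Matrix Cfsg.Agent.Small Subgroup

variable {F : Type} [Field F] [Fintype F]

local notation "SL2" => Matrix.SpecialLinearGroup (Fin 2) F
local notation "P2" => Matrix.ProjectiveSpecialLinearGroup (Fin 2) F

theorem finite_P2 : Finite P2 := Finite.of_surjective _ PSL2.pr_surjective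

theorem charThree (hF : Fintype.card F = 9) : CharP F 3 := by
  obtain ⟨p, hp⟩ := CharP.exists F
  haveI : Fact p.Prime := ⟨CharP.char_is_prime F p⟩
  obtain ⟨n, -, hn⟩ := FiniteField.card F p
  have hdvd : p ∣ 3 ^ 2 := by
    rw [show (3 : ℕ) ^ 2 = p ^ (n : ℕ) by rw [← hn, hF]; norm_num]
    exact dvd_pow_self p n.ne_zero
  rwa [(Nat.prime_dvd_prime_iff_eq Fact.out Nat.prime_three).1 ((Fact.out : p.Prime).dvd_of_dvd_pow hdvd)] at hp

theorem two_ne_zero' (hF : Fintype.card F = 9) : (2 : F) ≠ 0 := fun h => by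
  haveI := charThree hF
  have h1 : ((2 : ℕ) : F) = 0 := by exact_mod_cast h
  rw [CharP.cast_eq_zero_iff F 3] at h1
  norm_num at h1

theorem card_P2 (hF : Fintype.card F = 9) : Nat.card P2 = 360 := by
  have h := Classical.Dickson.card_psl F
  rw [hF, show Nat.gcd 2 (9 - 1) = 2 from rfl] at h
  norm_num at h ⊢
  omega

theorem exists_i (hF : Fintype.card F = 9) : ∃ i : F, i * i = -1 := by
  obtain ⟨i, hi⟩ := FiniteField.isSquare_neg_one_iff.2 (show Fintype.card F % 4 ≠ 3 by omega)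
  exact ⟨i, hi.symm⟩

theorem isPGroup_U (hF : Fintype.card F = 9) : IsPGroup 3 (PSL2.U : Subgroup P2) :=
  PSL2.isPGroup_U (f := 2) (by rw [hF]; norm_num)

/-- Elements of order three are conjugate into the root group. -/
theorem three_conj (hF : Fintype.card F = 9) {y : P2} (hy : y ^ 3 = 1) (hy1 : y ≠ 1) :
    ∃ g : P2, ∃ t : F, t ≠ 0 ∧ g * PSL2.pr (PSL2.uS t) * g⁻¹ = y := by
  haveI := finite_P2 (F := F)
  haveI := Fact.mk Nat.prime_three
  let S : Sylow 3 P2 :=
    { toSubgroup := PSL2.U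
      isPGroup' := isPGroup_U hF
      is_maximal' := fun hQ hle => PSL2.U_maximal hQ hle }
  have hZ : IsPGroup 3 (zpowers y) := fun ⟨w, hw⟩ => by
    obtain ⟨i, rfl⟩ := mem_zpowers_iff.1 hw
    refine ⟨1, Subtype.ext ?_⟩
    show (y ^ i) ^ 3 ^ 1 = 1
    rw [pow_one, ← zpow_natCast, ← _root_.zpow_mul, mul_comm, _root_.zpow_mul, zpow_natCast, hy, _root_.one_zpow]
  obtain ⟨T, hT⟩ := hZ.exists_le_sylow
  obtain ⟨g, hg⟩ := MulAction.exists_smul_eq P2 S T
  have hyT := hT (mem_zpowers y)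
  rw [← hg] at hyT
  obtain ⟨u, hu, e⟩ := hyT
  obtain ⟨t, rfl⟩ := (PSL2.mem_U u).1 hu
  exact ⟨g, t, fun ht => hy1 (by
    have e' : g * PSL2.pr (PSL2.uS t) * g⁻¹ = y := e
    rw [← e', ht]
    have h1 : PSL2.pr (PSL2.uS (0 : F)) = 1 := map_one PSL2.uP
    rw [h1]; group), e⟩

theorem pr_uS_comm (s t : F) : Commute (PSL2.pr (PSL2.uS s)) (PSL2.pr (PSL2.uS t)) := by
  show _ * _ = _ * _
  rw [← map_mul, ← map_mul, ← PSL2.uS_add, ← PSL2.uS_add, add_comm]

theorem pr_uS_cube (hF : Fintype.card F = 9) (t : F) : PSL2.pr (PSL2.uS t) ^ 3 = 1 := by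
  haveI := charThree hF
  rw [← map_pow, pow_succ, pow_two, ← PSL2.uS_add, ← PSL2.uS_add,
    show t + t + t = (3 : ℕ) * t by push_cast; ring, CharP.cast_eq_zero, zero_mul]
  exact map_one PSL2.uP

/-- The centraliser of an element of order three is elementary abelian. -/
theorem three_cent (hF : Fintype.card F = 9) {x : P2} (hx : x ^ 3 = 1) (hx1 : x ≠ 1) {a b : P2}
    (ha : Commute a x) (hb : Commute b x) : Commute a b ∧ a ^ 3 = 1 := by
  obtain ⟨g, t, ht, rfl⟩ := three_conj hF hx hx1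
  have h : ∀ {a : P2}, Commute a (g * PSL2.pr (PSL2.uS t) * g⁻¹) →
      ∃ s : F, g * PSL2.pr (PSL2.uS s) * g⁻¹ = a := fun {a} ha => by
    have h1 := (Commute.conj_iff g⁻¹).2 ha
    rw [inv_inv, show g⁻¹ * (g * PSL2.pr (PSL2.uS t) * g⁻¹) * g = PSL2.pr (PSL2.uS t) by group] at h1
    obtain ⟨s, hs⟩ := (PSL2.mem_U _).1 (PSL2.mem_U_of_commute ht h1)
    exact ⟨s, by rw [hs]; group⟩
  obtain ⟨s, rfl⟩ := h ha
  obtain ⟨r, rfl⟩ := h hb
  exact ⟨(Commute.conj_iff g).2 (pr_uS_comm s r), by rw [conj_pow, pr_uS_cube hF]; group⟩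

/-- An automorphism of order three fixing an element of order three fixes its centraliser. -/
theorem no_auto (hF : Fintype.card F = 9) (ψ : MulAut P2) {e u : P2} (he3 : e ^ 3 = 1) (he1 : e ≠ 1)
    (hcm : Commute u e) (hψe : ψ e = e) (hψ3 : ψ ^ 3 = 1) : ψ u = u := by
  haveI := charThree hF
  obtain ⟨g, x, hx, rfl⟩ := three_conj hF he3 he1
  set φ : MulAut P2 := MulAut.conj g⁻¹ * ψ * (MulAut.conj g⁻¹)⁻¹ with hφ
  have happ : ∀ v : P2, φ v = g⁻¹ * ψ (g * v * g⁻¹) * g := fun v => by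
    simp [hφ, MulAut.conj_apply, MulAut.conj_inv_apply]
  have hφx : φ (PSL2.pr (PSL2.uS x)) = PSL2.pr (PSL2.uS x) := by rw [happ, hψe]; group
  have hφ3 : φ ^ 3 = 1 := by rw [hφ, conj_pow, hψ3]; group
  have hU : ∀ t : F, ∃ s : F, φ (PSL2.pr (PSL2.uS t)) = PSL2.pr (PSL2.uS s) := fun t => by
    have h1 := (pr_uS_comm t x).map φ.toMonoidHom
    simp only [MulEquiv.coe_toMonoidHom, hφx] at h1
    obtain ⟨s, hs⟩ := (PSL2.mem_U _).1 (PSL2.mem_U_of_commute hx h1)
    exact ⟨s, hs.symm⟩
  obtain ⟨i, hi⟩ := exists_i hF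
  have hi0 : i ≠ 0 := fun h => by rw [h, mul_zero] at hi; exact one_ne_zero (neg_eq_zero.1 hi.symm)
  obtain ⟨w, hw⟩ : IsSquare i := by
    refine (FiniteField.isSquare_iff ?_ hi0).2 ?_
    · intro h
      have h9 := FiniteField.even_card_of_char_two h
      omega
    · rw [hF, show i ^ (9 / 2) = (i * i) * (i * i) by norm_num; ring, hi]; ring
  have hw0 : w ≠ 0 := fun h => hi0 (by rw [hw, h, mul_zero])
  set s := PSL2.pr (PSL2.hS (Units.mk0 w hw0)) with hs
  have hsu : ∀ t : F, s * PSL2.pr (PSL2.uS t) = PSL2.pr (PSL2.uS (i * t)) * s := fun t => by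
    rw [hs, ← map_mul, ← map_mul, PSL2.hS_uS, Units.val_mk0, show w ^ 2 = i by rw [hw]; ring]
  obtain ⟨A, hA⟩ := PSL2.pr_surjective (φ s)
  obtain ⟨y, hy⟩ := hU (i * x)
  have e1 : PSL2.pr A * PSL2.pr (PSL2.uS x) = PSL2.pr (PSL2.uS y) * PSL2.pr A := by
    have := congrArg φ (hsu x)
    rwa [map_mul, map_mul, hφx, hy, ← hA] at this
  have hA0 := PSL2.triangular_of_conj hx e1
  set a := A.1 0 0 with ha
  have e2 : ∀ t, PSL2.pr A * PSL2.pr (PSL2.uS t) = PSL2.pr (PSL2.uS (a ^ 2 * t)) * PSL2.pr A := fun t => by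
    rw [← map_mul, ← map_mul, PSL2.triangular_mul_uS A hA0 t]
  have hy2 : y = a ^ 2 * x := PSL2.pr_uS_inj (mul_right_cancel ((e1.symm).trans (e2 x)))
  have e3 : φ (PSL2.pr (PSL2.uS (-x))) = PSL2.pr (PSL2.uS (-x)) := by
    have hn : PSL2.pr (PSL2.uS (-x)) = (PSL2.pr (PSL2.uS x))⁻¹ := by
      refine eq_inv_of_mul_eq_one_left ?_
      rw [← map_mul, ← PSL2.uS_add, neg_add_cancel]
      exact map_one PSL2.uP
    rw [hn, map_inv, hφx]
  have hy4 : a ^ 2 * y = -x := by
    have h1 : s * s * PSL2.pr (PSL2.uS x) = PSL2.pr (PSL2.uS (-x)) * (s * s) := by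
      rw [mul_assoc, hsu, ← mul_assoc, hsu, mul_assoc, ← mul_assoc i, hi, neg_one_mul]
    have h2 := congrArg φ h1
    simp only [map_mul, hφx, e3, ← hA] at h2
    have h3 : PSL2.pr A * PSL2.pr A * PSL2.pr (PSL2.uS x) =
        PSL2.pr (PSL2.uS (a ^ 2 * y)) * (PSL2.pr A * PSL2.pr A) := by
      rw [mul_assoc, e1, ← mul_assoc, e2, mul_assoc]
    exact PSL2.pr_uS_inj (mul_right_cancel (h3.symm.trans h2))
  have hpm : y = i * x ∨ y = -(i * x) := by
    have h : (a ^ 2 - i) * (a ^ 2 + i) * x = 0 := by linear_combination hy4 - a ^ 2 * hy2 - x * hi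
    rcases mul_eq_zero.1 h with h | h
    · rcases mul_eq_zero.1 h with h | h
      · left; rw [hy2, sub_eq_zero.1 h]
      · right; rw [hy2, eq_neg_of_add_eq_zero_left h]; ring
    · exact absurd h hx
  have hfixi : φ (PSL2.pr (PSL2.uS (i * x))) = PSL2.pr (PSL2.uS (i * x)) := by
    rcases hpm with h | h
    · rw [hy, h]
    · exfalso
      have h1 : φ (PSL2.pr (PSL2.uS (-(i * x)))) = PSL2.pr (PSL2.uS (i * x)) := by
        have hn : ∀ t : F, PSL2.pr (PSL2.uS (-t)) = (PSL2.pr (PSL2.uS t))⁻¹ := fun t => by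
          refine eq_inv_of_mul_eq_one_left ?_
          rw [← map_mul, ← PSL2.uS_add, neg_add_cancel]
          exact map_one PSL2.uP
        rw [hn (i * x), map_inv, hy, h, hn (i * x), inv_inv]
      have h3 : (φ ^ 3) (PSL2.pr (PSL2.uS (i * x))) = PSL2.pr (PSL2.uS (-(i * x))) := by
        show φ (φ (φ (PSL2.pr (PSL2.uS (i * x))))) = _
        rw [hy, h, h1, hy, h]
      rw [hφ3, MulAut.one_apply] at h3
      have h4 := PSL2.pr_uS_inj h3
      have h5 : (2 : F) * (i * x) = 0 := by linear_combination h4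
      exact mul_ne_zero (two_ne_zero' hF) (mul_ne_zero hi0 hx) h5
  let K : AddSubgroup F :=
    { carrier := {t | φ (PSL2.pr (PSL2.uS t)) = PSL2.pr (PSL2.uS t)}
      add_mem' := fun {a b} ha hb => by
        show φ _ = _
        rw [PSL2.uS_add, map_mul, map_mul, ha, hb]
      zero_mem' := by
        show φ _ = _
        rw [show PSL2.pr (PSL2.uS (0 : F)) = 1 from map_one PSL2.uP, map_one]
      neg_mem' := fun {a} ha => by
        show φ _ = _
        have hn : PSL2.pr (PSL2.uS (-a)) = (PSL2.pr (PSL2.uS a))⁻¹ := by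
          refine eq_inv_of_mul_eq_one_left ?_
          rw [← map_mul, ← PSL2.uS_add, neg_add_cancel]
          exact map_one PSL2.uP
        rw [hn, map_inv, show φ (PSL2.pr (PSL2.uS a)) = PSL2.pr (PSL2.uS a) from ha] }
  have hK : K = ⊤ := by
    classical
    have hxK : x ∈ K := hφx
    have hiK : i * x ∈ K := hfixi
    have h4 : ({0, x, -x, i * x} : Finset F) ⊆ Finset.univ.filter (fun t => t ∈ K) := by
      intro t ht
      simp only [Finset.mem_insert, Finset.mem_singleton] at ht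
      refine Finset.mem_filter.2 ⟨Finset.mem_univ _, ?_⟩
      rcases ht with rfl | rfl | rfl | rfl
      · exact K.zero_mem
      · exact hxK
      · exact K.neg_mem hxK
      · exact hiK
    have hc : ({0, x, -x, i * x} : Finset F).card = 4 := by
      have n1 : (0 : F) ≠ x := fun h => hx h.symm
      have n2 : (0 : F) ≠ -x := fun h => hx (neg_eq_zero.1 h.symm)
      have n3 : (0 : F) ≠ i * x := fun h => mul_ne_zero hi0 hx h.symm
      have n4 : x ≠ -x := fun h => mul_ne_zero (two_ne_zero' hF) hx (by linear_combination h)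
      have n5 : x ≠ i * x := fun h => by
        have h1 : i = 1 := mul_right_cancel₀ hx (by rw [one_mul]; exact h.symm)
        rw [h1] at hi; exact two_ne_zero' hF (by linear_combination hi)
      have n6 : -x ≠ i * x := fun h => by
        have h1 : i = -1 := mul_right_cancel₀ hx (by rw [neg_one_mul]; exact h.symm)
        rw [h1] at hi; exact two_ne_zero' hF (by linear_combination hi)
      simp [n1, n2, n3, n4, n5, n6]
    have hcard : 4 ≤ Nat.card K := by
      rw [← hc, Nat.card_eq_fintype_card, Fintype.card_subtype]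
      exact Finset.card_le_card h4
    have hdvd : Nat.card K ∣ 9 := hF ▸ Nat.card_eq_fintype_card (α := F) ▸ K.card_addSubgroup_dvd_card
    have h9 : Nat.card K = 9 := by
      have := Nat.le_of_dvd (by norm_num) hdvd
      interval_cases h : Nat.card K <;> omega
    exact AddSubgroup.eq_top_of_card_eq K (by rw [h9, Nat.card_eq_fintype_card, hF])
  have hu := (Commute.conj_iff g⁻¹).2 hcm
  rw [inv_inv, show g⁻¹ * (g * PSL2.pr (PSL2.uS x) * g⁻¹) * g = PSL2.pr (PSL2.uS x) by group] at hu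
  obtain ⟨t, ht⟩ := (PSL2.mem_U _).1 (PSL2.mem_U_of_commute hx hu)
  have hfix : φ (g⁻¹ * u * g) = g⁻¹ * u * g := by
    rw [← ht]; exact (hK ▸ AddSubgroup.mem_top t : t ∈ K)
  rw [happ, show g * (g⁻¹ * u * g) * g⁻¹ = u by group] at hfix
  exact mul_left_cancel (mul_right_cancel hfix)

omit [Fintype F] in
/-- The square of a traceless matrix of determinant one. -/
theorem sq_of_trace_zero {p q r : F} (h : p * -p - q * r = 1) :
    !![p, q; r, -p] * !![p, q; r, -p] = (-1 : F) • (1 : Matrix (Fin 2) (Fin 2) F) := by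
  ext i j
  fin_cases i <;> fin_cases j <;> simp <;>
    first | linear_combination h | linear_combination -h | ring

set_option maxHeartbeats 800000 in
-- long matrix computation
/-- The centraliser of an involution has a cyclic part, everything outside being involutions. -/
theorem two_cent (hF : Fintype.card F = 9) {t : P2} (ht : t * t = 1) (ht1 : t ≠ 1) :
    ∃ K : Subgroup P2, IsCyclic K ∧ (∀ y ∈ K, y ^ 8 = 1) ∧ t ∈ K ∧
      ∀ y : P2, Commute y t → y ∈ K ∨ y * y = 1 := by
  have h2 := two_ne_zero' hF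
  obtain ⟨i, hi⟩ := exists_i hF
  obtain ⟨A, rfl⟩ := PSL2.pr_surjective t
  have hd := PSL2.det_two A
  have hAA : ∃ ε : F, ε * ε = 1 ∧ (A * A).1 = ε • (1 : SL2).1 := (PSL2.pr_eq_iff _ _).1 (by
    rw [map_mul, ht, map_one])
  obtain ⟨ε, hε, hsq⟩ := hAA
  have q00 := congrFun (congrFun hsq 0) 0
  have q01 := congrFun (congrFun hsq 0) 1
  have q10 := congrFun (congrFun hsq 1) 0
  have q11 := congrFun (congrFun hsq 1) 1
  simp [PSL2.val_mul, Matrix.mul_apply, Fin.sum_univ_two] at q00 q01 q10 q11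
  set w := A.1 0 0
  set u := A.1 0 1
  set v := A.1 1 0
  have htr : A.1 1 1 = -w := by
    by_contra hne
    have hT : w + A.1 1 1 ≠ 0 := fun h => hne (by linear_combination h)
    have hu : u = 0 := by
      rcases mul_eq_zero.1 (show u * (w + A.1 1 1) = 0 by linear_combination q01) with h | h
      · exact h
      · exact absurd h hT
    have hv : v = 0 := by
      rcases mul_eq_zero.1 (show v * (w + A.1 1 1) = 0 by linear_combination q10) with h | h
      · exact h
      · exact absurd h hT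
    have hw : A.1 1 1 = w := by
      rcases mul_eq_zero.1 (show (A.1 1 1 - w) * (w + A.1 1 1) = 0 by linear_combination q11 - q00) with h | h
      · exact sub_eq_zero.1 h
      · exact absurd h hT
    refine ht1 ?_
    rw [← map_one (PSL2.pr : SL2 →* P2)]
    refine (PSL2.pr_eq_iff _ _).2 ⟨w, by rw [hu, hv, hw] at hd; linear_combination hd, ?_⟩
    ext a b
    fin_cases a <;> fin_cases b <;>
      simp [show A.1 0 1 = 0 from hu, show A.1 1 0 = 0 from hv, show A.1 1 1 = w from hw, w]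
  rw [htr] at hd
  set C := centralizer ({A} : Set SL2) with hC
  have ent : ∀ B ∈ C, B.1 0 1 * v = u * B.1 1 0 ∧ u * (B.1 0 0 - B.1 1 1) = 2 * w * B.1 0 1 ∧
      2 * w * B.1 1 0 = v * (B.1 0 0 - B.1 1 1) := fun B hB => by
    have hBA : B * A = A * B := mem_centralizer_singleton_iff.1 hB
    have e : B.1 * A.1 = A.1 * B.1 := congrArg (fun M : SL2 => M.1) hBA
    have e00 := congrFun (congrFun e 0) 0
    have e01 := congrFun (congrFun e 0) 1
    have e10 := congrFun (congrFun e 1) 0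
    simp [Matrix.mul_apply, Fin.sum_univ_two, htr] at e00 e01 e10
    exact ⟨by linear_combination e00, by linear_combination e01, by linear_combination e10⟩
  -- coordinates in the algebra generated by `A`
  let X : SL2 → F := fun B => (B.1 0 0 + B.1 1 1) / 2
  let Y : SL2 → F := fun B => -(w * B.1 0 0 + u * B.1 1 0 + v * B.1 0 1 - w * B.1 1 1) / 2
  have hX2 : ∀ B : SL2, 2 * X B = B.1 0 0 + B.1 1 1 := fun B => mul_div_cancel₀ _ h2
  have hY2 : ∀ B : SL2, 2 * Y B = -(w * B.1 0 0 + u * B.1 1 0 + v * B.1 0 1 - w * B.1 1 1) :=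
    fun B => mul_div_cancel₀ _ h2
  have rep : ∀ B ∈ C, B.1 0 0 = X B + w * Y B ∧ B.1 0 1 = u * Y B ∧ B.1 1 0 = v * Y B ∧
      B.1 1 1 = X B - w * Y B := fun B hB => by
    obtain ⟨e1, e2, e3⟩ := ent B hB
    have x2 := hX2 B
    have y2 := hY2 B
    refine ⟨mul_left_cancel₀ h2 ?_, mul_left_cancel₀ h2 ?_, mul_left_cancel₀ h2 ?_, mul_left_cancel₀ h2 ?_⟩
    · linear_combination -(B.1 0 0 - B.1 1 1) * hd - v * e2 - w * e1 - x2 - w * y2
    · linear_combination -2 * B.1 0 1 * hd + w * e2 - u * e1 - u * y2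
    · linear_combination -2 * B.1 1 0 * hd - w * e3 + v * e1 - v * y2
    · linear_combination (B.1 0 0 - B.1 1 1) * hd + v * e2 + w * e1 - x2 + w * y2
  let f : C →* F :=
    { toFun := fun B => X B.1 + i * Y B.1
      map_one' := by
        have x2 := hX2 1
        have y2 := hY2 1
        simp at x2 y2
        have hX : X 1 = 1 := mul_left_cancel₀ h2 (by linear_combination x2)
        have hY : Y 1 = 0 := y2.resolve_left h2
        show X 1 + i * Y 1 = 1
        rw [hX, hY, mul_zero, add_zero]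
      map_mul' := fun B B' => by
        obtain ⟨a1, a2, a3, a4⟩ := rep B.1 B.2
        obtain ⟨b1, b2, b3, b4⟩ := rep B'.1 B'.2
        have x2 := hX2 (B.1 * B'.1)
        have y2 := hY2 (B.1 * B'.1)
        simp only [PSL2.val_mul, Matrix.mul_apply, Fin.sum_univ_two] at x2 y2
        rw [a1, a2, a3, a4, b1, b2, b3, b4] at x2 y2
        have hX : X (B.1 * B'.1) = X B.1 * X B'.1 - Y B.1 * Y B'.1 :=
          mul_left_cancel₀ h2 (by linear_combination x2 - 2 * Y B.1 * Y B'.1 * hd)
        have hY : Y (B.1 * B'.1) = X B.1 * Y B'.1 + Y B.1 * X B'.1 :=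
          mul_left_cancel₀ h2 (by linear_combination y2 + 2 * (X B.1 * Y B'.1 + Y B.1 * X B'.1) * hd)
        show X (B.1 * B'.1) + i * Y (B.1 * B'.1) = (X B.1 + i * Y B.1) * (X B'.1 + i * Y B'.1)
        linear_combination hX + i * hY - Y B.1 * Y B'.1 * hi }
  have hfinj : Function.Injective f := by
    intro B B' h
    obtain ⟨a1, a2, a3, a4⟩ := rep B.1 B.2
    obtain ⟨b1, b2, b3, b4⟩ := rep B'.1 B'.2
    have hd1 := PSL2.det_two B.1
    have hd2 := PSL2.det_two B'.1
    rw [a1, a2, a3, a4] at hd1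
    rw [b1, b2, b3, b4] at hd2
    have p1 : (X B.1 + i * Y B.1) * (X B.1 - i * Y B.1) = 1 := by
      linear_combination hd1 - (Y B.1) ^ 2 * hd - (Y B.1) ^ 2 * hi
    have p2 : (X B'.1 + i * Y B'.1) * (X B'.1 - i * Y B'.1) = 1 := by
      linear_combination hd2 - (Y B'.1) ^ 2 * hd - (Y B'.1) ^ 2 * hi
    have hp : X B.1 + i * Y B.1 = X B'.1 + i * Y B'.1 := h
    have hm : X B.1 - i * Y B.1 = X B'.1 - i * Y B'.1 := by
      rw [← hp] at p2
      exact mul_left_cancel₀ (left_ne_zero_of_mul_eq_one p1) (p1.trans p2.symm)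
    have hX : X B.1 = X B'.1 := mul_left_cancel₀ h2 (by linear_combination hp + hm)
    have hY : Y B.1 = Y B'.1 := by
      have hi0 : i ≠ 0 := fun h => by rw [h, mul_zero] at hi; exact one_ne_zero (neg_eq_zero.1 hi.symm)
      exact mul_left_cancel₀ hi0 (by linear_combination hp - hX)
    apply Subtype.ext
    apply Subtype.ext
    show (B.1 : SL2).1 = (B'.1 : SL2).1
    rw [Matrix.eta_fin_two (B.1 : SL2).1, Matrix.eta_fin_two (B'.1 : SL2).1, a1, a2, a3, a4, b1, b2, b3,
      b4, hX, hY]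
  haveI hcyc : IsCyclic C := isCyclic_of_subgroup_isDomain f hfinj
  refine ⟨C.map PSL2.pr, isCyclic_of_surjective (PSL2.pr.subgroupMap C) (PSL2.pr.subgroupMap_surjective C),
    ?_, mem_map_of_mem _ (mem_centralizer_singleton_iff.2 rfl), fun y hy => ?_⟩
  · rintro _ ⟨B, hB, rfl⟩
    rw [← map_pow]
    have hne : f ⟨B, hB⟩ ≠ 0 := fun h0 => by
      have h1 : f (⟨B, hB⟩ * ⟨B, hB⟩⁻¹) = 0 := by rw [map_mul, h0, zero_mul]
      rw [mul_inv_cancel, map_one] at h1
      exact one_ne_zero h1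
    have h8 : (f ⟨B, hB⟩) ^ 8 = 1 := by
      have h := FiniteField.pow_card_sub_one_eq_one _ hne
      rwa [hF] at h
    have hB8 : B ^ 8 = 1 := congrArg Subtype.val
      (hfinj (by rw [map_pow, h8, map_one]) : (⟨B, hB⟩ : C) ^ 8 = 1)
    rw [hB8, map_one]
  · obtain ⟨B, rfl⟩ := PSL2.pr_surjective y
    have hy' : PSL2.pr (B * A) = PSL2.pr (A * B) := by rw [map_mul, map_mul]; exact hy
    obtain ⟨η, hη, he⟩ := (PSL2.pr_eq_iff _ _).1 hy'
    have hη' : η = 1 ∨ η = -1 := by
      have : (η - 1) * (η + 1) = 0 := by linear_combination hη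
      rcases mul_eq_zero.1 this with h | h
      · exact Or.inl (sub_eq_zero.1 h)
      · exact Or.inr (eq_neg_of_add_eq_zero_left h)
    rcases hη' with rfl | rfl
    · left
      refine mem_map_of_mem _ (mem_centralizer_singleton_iff.2 (Subtype.ext ?_))
      rw [he, one_smul]
    · right
      rw [PSL2.val_mul, PSL2.val_mul] at he
      have e00 := congrFun (congrFun he 0) 0
      have e01 := congrFun (congrFun he 0) 1
      have e10 := congrFun (congrFun he 1) 0
      have e11 := congrFun (congrFun he 1) 1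
      simp [Matrix.mul_apply, Fin.sum_univ_two, htr] at e00 e01 e10 e11
      have hT : B.1 0 0 + B.1 1 1 = 0 := by
        by_contra hT
        have hu : u = 0 := (mul_eq_zero.1 (show u * (B.1 0 0 + B.1 1 1) = 0 by linear_combination e01)).resolve_right hT
        have hv : v = 0 := (mul_eq_zero.1 (show v * (B.1 0 0 + B.1 1 1) = 0 by linear_combination e10)).resolve_right hT
        have hw : w = 0 := by
          rcases mul_eq_zero.1 (show (2 * w) * (B.1 0 0 + B.1 1 1) = 0 by linear_combination e00 - e11) with h | h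
          · exact (mul_eq_zero.1 h).resolve_left h2
          · exact absurd h hT
        rw [hu, hw] at hd
        simp at hd
      rw [← map_mul, ← map_one (PSL2.pr : SL2 →* P2)]
      refine (PSL2.pr_eq_iff _ _).2 ⟨-1, by ring, ?_⟩
      have hdB := PSL2.det_two B
      have h11 : B.1 1 1 = -B.1 0 0 := eq_neg_of_add_eq_zero_right hT
      rw [h11] at hdB
      rw [PSL2.val_mul, Matrix.SpecialLinearGroup.coe_one, Matrix.eta_fin_two B.1, h11]
      exact sq_of_trace_zero hdB

/-- The centraliser of an element of order five is cyclic. -/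
theorem five_cent (hF : Fintype.card F = 9) {x : P2} (hx : x ^ 5 = 1) (hx1 : x ≠ 1) :
    IsCyclic (centralizer ({x} : Set P2)) := by
  haveI := finite_P2 (F := F)
  haveI := Fact.mk (show Nat.Prime 5 by norm_num)
  set C := centralizer ({x} : Set P2)
  have noq : ∀ q : ℕ, q.Prime → q ∣ Nat.card C → q = 5 := fun q hq hqd => by
    haveI := Fact.mk hq
    obtain ⟨⟨y, hyC⟩, hy⟩ := exists_prime_orderOf_dvd_card' (G := C) q hqd
    rw [← Subgroup.orderOf_coe] at hy
    have hyx : Commute y x := mem_centralizer_singleton_iff.1 hyC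
    have hy1 : y ≠ 1 := fun h => hq.ne_one (by rw [← hy]; exact orderOf_eq_one_iff.2 h)
    have hq5 : q = 2 ∨ q = 3 ∨ q = 5 := by
      have h360 : q ∣ 2 ^ 3 * 3 ^ 2 * 5 := by
        have h := orderOf_dvd_natCard y
        rw [hy, card_P2 hF] at h
        exact h
      rcases hq.dvd_mul.1 h360 with h | h
      · rcases hq.dvd_mul.1 h with h | h
        · exact Or.inl ((Nat.prime_dvd_prime_iff_eq hq Nat.prime_two).1 (hq.dvd_of_dvd_pow h))
        · exact Or.inr (Or.inl ((Nat.prime_dvd_prime_iff_eq hq Nat.prime_three).1 (hq.dvd_of_dvd_pow h)))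
      · exact Or.inr (Or.inr ((Nat.prime_dvd_prime_iff_eq hq (by norm_num)).1 h))
    rcases hq5 with h | h | h
    · exfalso
      have hy2 : y * y = 1 := by
        have h' := pow_orderOf_eq_one y
        rw [hy, h] at h'
        rwa [sq] at h'
      obtain ⟨K, -, hK8, -, hK⟩ := two_cent hF hy2 hy1
      rcases hK x hyx.symm with h' | h'
      · exact hx1 ((pow_eq_one_iff_of_coprime (show Nat.Coprime 5 8 by norm_num)).1 ⟨hx, hK8 x h'⟩)
      · exact hx1 ((pow_eq_one_iff_of_coprime (show Nat.Coprime 5 2 by norm_num)).1 ⟨hx, by rw [sq]; exact h'⟩)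
    · exfalso
      have hy3 : y ^ 3 = 1 := by
        have h' := pow_orderOf_eq_one y
        rwa [hy, h] at h'
      exact hx1 ((pow_eq_one_iff_of_coprime (show Nat.Coprime 5 3 by norm_num)).1
        ⟨hx, (three_cent hF hy3 hy1 hyx.symm hyx.symm).2⟩)
    · exact h
  have hdvd : Nat.card C ∣ 360 := card_P2 hF ▸ C.card_subgroup_dvd_card
  have h5 : Nat.card C = 5 := by
    have hpow : ∀ q : ℕ, q.Prime → q ∣ Nat.card C → q = 5 := noq
    have hmem : x ∈ C := mem_centralizer_singleton_iff.2 rfl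
    have hxo : orderOf x = 5 := orderOf_eq_prime hx hx1
    have hle : 5 ∣ Nat.card C := hxo ▸ Subgroup.orderOf_dvd_natCard C hmem
    have h2 : ¬ 2 ∣ Nat.card C := fun h => by simpa using hpow 2 Nat.prime_two h
    have h3 : ¬ 3 ∣ Nat.card C := fun h => by simpa using hpow 3 Nat.prime_three h
    have hc : Nat.Coprime (Nat.card C) 72 := by
      rw [show (72 : ℕ) = 2 ^ 3 * 3 ^ 2 by norm_num]
      exact Nat.Coprime.mul_right (((Nat.Prime.coprime_iff_not_dvd Nat.prime_two).2 h2).symm.pow_right 3)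
        (((Nat.Prime.coprime_iff_not_dvd Nat.prime_three).2 h3).symm.pow_right 2)
    have := hc.dvd_of_dvd_mul_left (show Nat.card C ∣ 72 * 5 from hdvd)
    exact Nat.dvd_antisymm this hle
  exact isCyclic_of_prime_card h5

end Cfsg.Agent.MinNonCA.Nine
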