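import Cfsg.Agent.Lib.Solv.MinNonCA.Classify
import Cfsg.Agent.Lib.Solv.MinNonCA.Nine
import Cfsg.Agent.Lib.Small.SchurSLFinal
import Cfsg.Agent.Lib.Classical.PThree.Sub.Dickson

/-!
Covers of two-dimensional projective special linear groups.
-/

set_option autoImplicit false

open scoped Pointwise

namespace Cfsg.Agent.MinNonCA

open Subgroup

universe v

/-- A simple group of order sixty is the two-dimensional projective group of the prime field of five elements. -/
theorem iso_psl_five {Y : Type v} [Group Y] [Finite Y] [IsSimpleGroup Y] (h : Nat.card Y = 60) :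
    Nonempty (Y ≃* Matrix.ProjectiveSpecialLinearGroup (Fin 2) (ZMod 5)) := by
  obtain ⟨e⟩ := Cfsg.Agent.Lie.simple_sixty (G := Y) h
  obtain ⟨f⟩ := Cfsg.Agent.PThree.Sub.a5_psl_five
  exact ⟨e.trans f⟩

/-- The order of the projective group over four elements. -/
theorem card_psl_four (F : Type) [Field F] [Fintype F] (h : Fintype.card F = 4) :
    Nat.card (Matrix.ProjectiveSpecialLinearGroup (Fin 2) F) = 60 := by
  have hc := Classical.Dickson.card_psl F
  rw [h, show Nat.gcd 2 (4 - 1) = 1 from rfl] at hc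
  norm_num at hc ⊢
  omega

variable {X : Type*} [Group X] [Finite X]

/-- The central quotient, avoiding the field of four elements. -/
theorem QS.classify_five (h : QS X) : ∃ (F : Type) (_ : Field F) (_ : Fintype F), 5 ≤ Fintype.card F ∧
    Nonempty (X ⧸ center X ≃* Matrix.ProjectiveSpecialLinearGroup (Fin 2) F) := by
  obtain ⟨F, iF, iF', hq, ⟨e⟩⟩ := h.classify
  by_cases h4 : Fintype.card F = 4
  · haveI := h.simple
    haveI : Fact (Nat.Prime 5) := ⟨by norm_num⟩
    obtain ⟨f⟩ := iso_psl_five (Y := X ⧸ center X) (by rw [Nat.card_congr e.toEquiv, card_psl_four F h4])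
    exact ⟨ZMod 5, inferInstance, inferInstance, by rw [ZMod.card], ⟨f⟩⟩
  · exact ⟨F, iF, iF', by omega, ⟨e⟩⟩

omit [Finite X] in
/-- Elements with images in a cyclic subgroup of the central quotient commute. -/
theorem commute_of_cyclic_image {Y : Type*} [Group Y] {φ : X →* Y} (hker : φ.ker ≤ center X)
    (hsurj : Function.Surjective φ) {K : Subgroup Y} (hK : IsCyclic K) {a b : X} (ha : φ a ∈ K)
    (hb : φ b ∈ K) : Commute a b := by
  obtain ⟨⟨k, hk⟩, hgen⟩ := hK.exists_generator
  obtain ⟨w, rfl⟩ := hsurj k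
  have key : ∀ {a : X}, φ a ∈ K → ∃ i : ℤ, ∃ ζ ∈ center X, a = w ^ i * ζ := fun {a} ha => by
    obtain ⟨i, hi⟩ := mem_zpowers_iff.1 (hgen ⟨φ a, ha⟩)
    have hi' : φ w ^ i = φ a := congrArg Subtype.val hi
    exact ⟨i, (w ^ i)⁻¹ * a, hker (by
      rw [MonoidHom.mem_ker, map_mul, map_inv, map_zpow, hi', inv_mul_cancel]), by group⟩
  obtain ⟨i, ζ, hζ, rfl⟩ := key ha
  obtain ⟨j, η, hη, rfl⟩ := key hb
  have h1 : Commute (w ^ i) (w ^ j * η) :=
    ((Commute.refl w).zpow_zpow i j).mul_right (mem_center_iff.1 hη _)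
  exact h1.mul_left ((mem_center_iff.1 hζ _).symm)

open Cfsg.Agent.Small in
omit [Finite X] in
/-- Outside the field of nine elements the special linear group is the covering group. -/
theorem QS.cover (h : QS X) {F : Type} [Field F] [Fintype F]
    (e : X ⧸ center X ≃* Matrix.ProjectiveSpecialLinearGroup (Fin 2) F) (h5 : 5 ≤ Fintype.card F)
    (h9 : Fintype.card F ≠ 9) :
    ∃ η : Matrix.SpecialLinearGroup (Fin 2) F →* X, Function.Surjective η ∧
      ∀ a, η a ∈ center X ↔ a ∈ center (Matrix.SpecialLinearGroup (Fin 2) F) := by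
  set σ : X →* Matrix.ProjectiveSpecialLinearGroup (Fin 2) F :=
    e.toMonoidHom.comp (QuotientGroup.mk' (center X)) with hσ
  have hone : ∀ {x : X}, σ x = 1 ↔ x ∈ center X := fun {x} => by
    rw [hσ, MonoidHom.comp_apply]
    exact (map_eq_one_iff _ e.injective).trans (QuotientGroup.eq_one_iff x)
  have hker : σ.ker ≤ center X := fun x hx => hone.1 hx
  have hs : Function.Surjective σ := e.surjective.comp (QuotientGroup.mk'_surjective _)
  let C : SchurLifts.Central X (Matrix.ProjectiveSpecialLinearGroup (Fin 2) F) := ⟨σ, hs, hker⟩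
  obtain ⟨η, hη⟩ := SchurSLFinal.exists_hom (K := F) 2 (Or.inl ⟨rfl, by omega, h9⟩) C PSL2.pr
  have hle := SchurSLFinal.commutator_le_range C PSL2.pr PSL2.pr_surjective η hη
  rw [h.perfect] at hle
  refine ⟨η, MonoidHom.range_eq_top.1 (top_le_iff.1 hle), fun a => ?_⟩
  rw [← hone, show σ (η a) = PSL2.pr a from DFunLike.congr_fun hη a]
  exact QuotientGroup.eq_one_iff a

/-- Central elements have order at most two outside the field of nine elements. -/
theorem QS.center_sq (h : QS X) {F : Type} [Field F] [Fintype F]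
    (e : X ⧸ center X ≃* Matrix.ProjectiveSpecialLinearGroup (Fin 2) F) (h5 : 5 ≤ Fintype.card F)
    (h9 : Fintype.card F ≠ 9) {ζ : X} (hζ : ζ ∈ center X) : ζ * ζ = 1 := by
  obtain ⟨η, hs, hc⟩ := h.cover e h5 h9
  obtain ⟨a, rfl⟩ := hs ζ
  obtain ⟨r, hr, ha⟩ := Matrix.SpecialLinearGroup.mem_center_iff.1 ((hc a).1 hζ)
  have : a * a = 1 := Subtype.ext (by
    rw [Small.PSL2.val_mul, ← ha, ← map_mul, ← sq]
    rw [Fintype.card_fin] at hr
    rw [hr, map_one]; rfl)
  rw [← map_mul, this, map_one]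

end Cfsg.Agent.MinNonCA
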