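import Cfsg.Agent.Lib.Solv.MinNonCA.Cover
import Cfsg.Agent.Lib.Solv.MinNonCA.Nine

/-!
CA subgroups of two-dimensional projective groups, and their Sylow two-subgroups.
-/

set_option autoImplicit false

open scoped Pointwise

namespace Cfsg.Agent.MinNonCA

open Subgroup Cfsg.Agent.Small

universe v

/-- Being CA is invariant under isomorphism. -/
theorem IsCA.of_equiv {A B : Type*} [Group A] [Group B] (e : A ≃* B) (h : IsCA B) : IsCA A := by
  intro x hx a b ha hb
  refine e.injective ?_
  rw [map_mul, map_mul]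
  refine h (e x) (fun hc => hx (mem_center_iff.2 fun y => e.injective ?_)) _ _
    (ha.map e.toMonoidHom) (hb.map e.toMonoidHom)
  rw [map_mul, map_mul]
  exact mem_center_iff.1 hc (e y)

theorem IsCA.of_comm {A : Type*} [Group A] (h : ∀ a b : A, Commute a b) : IsCA A :=
  fun _ _ a b _ _ => h a b

theorem IsCA.of_isCyclic {A : Type*} [Group A] (h : IsCyclic A) : IsCA A := IsCA.of_comm fun a b => by
  obtain ⟨g, hg⟩ := h.exists_generator
  obtain ⟨i, rfl⟩ := mem_zpowers_iff.1 (hg a)
  obtain ⟨j, rfl⟩ := mem_zpowers_iff.1 (hg b)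
  exact (Commute.refl g).zpow_zpow i j

/-- A group of order twelve is CA. -/
theorem isCA_twelve {A : Type*} [Group A] [Finite A] (h : Nat.card A = 12) : IsCA A := by
  intro x hx a b ha hb
  set C := centralizer ({x} : Set A) with hC
  have hCT : C ≠ ⊤ := fun e => hx (C_eq_top e)
  have hC6 : Nat.card C ≤ 6 := by
    have h1 := C.card_mul_index
    have h2 : C.index ≠ 1 := fun e => hCT (index_eq_one.1 e)
    have h3 : C.index ≠ 0 := index_ne_zero_of_finite
    rw [h] at h1
    nlinarith [Nat.mul_le_mul_left (Nat.card C) (show 2 ≤ C.index by omega)]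
  have hxC : (⟨x, mem_C.2 (Commute.refl x)⟩ : C) ∈ center C :=
    mem_center_iff.2 fun g => Subtype.ext (mem_C.1 g.2).eq
  have hZ : 2 ≤ Nat.card (center C) := by
    by_contra hlt
    have h1 : center C = ⊥ := card_eq_one.1 (by have := Nat.card_pos (α := center C); omega)
    rw [h1, mem_bot] at hxC
    exact hx ((show x = 1 from congrArg Subtype.val hxC) ▸ one_mem _)
  have hQ : Nat.card (C ⧸ center C) ≤ 3 := by
    have h1 := card_eq_card_quotient_mul_card_subgroup (center C)
    nlinarith [Nat.mul_le_mul_left (Nat.card (C ⧸ center C)) hZ]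
  haveI : IsCyclic (C ⧸ center C) := by
    by_cases h1 : Nat.card (C ⧸ center C) = 1
    · haveI := (Nat.card_eq_one_iff_unique.1 h1).1
      infer_instance
    · have h0 := Nat.card_pos (α := C ⧸ center C)
      have hp : (Nat.card (C ⧸ center C)).Prime := by
        interval_cases hn : Nat.card (C ⧸ center C) <;> first | omega | norm_num
      haveI := Fact.mk hp
      exact isCyclic_of_prime_card rfl
  exact congrArg Subtype.val (commutative_of_cyclic_center_quotient (QuotientGroup.mk' (center C))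
    (by rw [QuotientGroup.ker_mk']) (⟨a, mem_C.2 ha⟩ : C) ⟨b, mem_C.2 hb⟩)

/-- A dihedral group is CA. -/
theorem isCA_dihedral (n : ℕ) : IsCA (DihedralGroup n) := by
  intro x hx a b ha hb
  obtain ⟨y, hy⟩ : ∃ y, ¬ Commute x y := by
    by_contra hn
    push Not at hn
    exact hx (mem_center_iff.2 fun y => (hn y).eq.symm)
  cases x <;> cases a <;> cases b <;> cases y <;>
    simp only [Commute, SemiconjBy, DihedralGroup.r_mul_r, DihedralGroup.r_mul_sr, DihedralGroup.sr_mul_r,
      DihedralGroup.sr_mul_sr, DihedralGroup.r.injEq, DihedralGroup.sr.injEq] at * <;>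
    first
      | linear_combination ha - hb
      | linear_combination hb - ha
      | linear_combination ha + hb
      | linear_combination -ha - hb
      | linear_combination ha
      | linear_combination hb
      | linear_combination -ha
      | linear_combination -hb
      | ring1
      | (exfalso; apply hy; linear_combination ha)
      | (exfalso; apply hy; linear_combination -ha)
      | (exfalso; apply hy; linear_combination hb)
      | (exfalso; apply hy; linear_combination -hb)
      | (exfalso; apply hy; ring1)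

variable {F : Type*} [Field F] [Fintype F]

local notation "SL2" => Matrix.SpecialLinearGroup (Fin 2) F
local notation "P2" => Matrix.ProjectiveSpecialLinearGroup (Fin 2) F

theorem pr_eq_one_of_scalar {A : SL2} (h01 : A.1 0 1 = 0) (h10 : A.1 1 0 = 0) (heq : A.1 0 0 = A.1 1 1) :
    PSL2.pr A = 1 := by
  rw [← map_one (PSL2.pr (F := F)), PSL2.pr_eq_iff]
  have hd := PSL2.det_two A
  rw [h01, h10, ← heq, mul_zero, sub_zero] at hd
  refine ⟨A.1 0 0, hd, ?_⟩
  ext i j
  fin_cases i <;> fin_cases j <;> simp [h01, h10, heq]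

/-- Subgroups of the image of the upper triangular group are CA. -/
theorem isCA_borel {H : Subgroup P2} (hH : H ≤ Classical.Dickson.borelP F) : IsCA H := by
  rintro ⟨x, hx⟩ hxc ⟨a, ha⟩ ⟨b, hb⟩ hax hbx
  obtain ⟨X, hX, rfl⟩ := hH hx
  obtain ⟨A, hA, rfl⟩ := hH ha
  obtain ⟨B, hB, rfl⟩ := hH hb
  have key : ∀ C : SL2, C.1 1 0 = 0 → PSL2.pr C * PSL2.pr X = PSL2.pr X * PSL2.pr C → C.1 * X.1 = X.1 * C.1 := by
    intro C hC he
    rw [← map_mul, ← map_mul, PSL2.pr_eq_iff] at he
    obtain ⟨ε, -, he⟩ := he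
    rw [PSL2.val_mul, PSL2.val_mul] at he
    have e00 := congrFun (congrFun he 0) 0
    have hx' : X.1 1 0 = 0 := hX
    simp [Matrix.mul_apply, Fin.sum_univ_two, hC, hx'] at e00
    have hdC := PSL2.det_two C
    have hdX := PSL2.det_two X
    rw [hC, mul_zero, sub_zero] at hdC
    rw [hx', mul_zero, sub_zero] at hdX
    have hε : ε = 1 := by linear_combination (-(C.1 1 1 * X.1 1 1)) * e00 + (1 - ε) * X.1 0 0 * X.1 1 1 * hdC + (1 - ε) * hdX
    rw [he, hε, one_smul]
  have hne : X.1 0 1 ≠ 0 ∨ X.1 1 0 ≠ 0 ∨ X.1 0 0 ≠ X.1 1 1 := by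
    by_contra hn
    push Not at hn
    exact hxc ((show (⟨PSL2.pr X, hx⟩ : H) = 1 from Subtype.ext (pr_eq_one_of_scalar hn.1 hn.2.1 hn.2.2)) ▸
      one_mem _)
  have hAB : A * B = B * A := Subtype.ext (commute_of_nonscalar hne (key A hA (congrArg Subtype.val hax.eq))
    (key B hB (congrArg Subtype.val hbx.eq)))
  exact Subtype.ext (show PSL2.pr A * PSL2.pr B = PSL2.pr B * PSL2.pr A by rw [← map_mul, ← map_mul, hAB])

/-- The projective group in characteristic two is CA. -/
theorem isCA_psl_char_two (h : (2 : F) = 0) : IsCA P2 := by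
  have hinj : Function.Injective (PSL2.pr : SL2 → P2) := fun A B hAB => by
    obtain ⟨ε, hε, he⟩ := (PSL2.pr_eq_iff A B).1 hAB
    have : ε = 1 := by
      have : (ε - 1) * (ε - 1) = 0 := by linear_combination hε + (1 - ε) * h
      rcases mul_eq_zero.1 this with h1 | h1 <;> exact sub_eq_zero.1 h1
    rw [this, one_smul] at he
    exact Subtype.ext he
  exact IsCA.of_equiv (MulEquiv.ofBijective PSL2.pr ⟨hinj, PSL2.pr_surjective⟩).symm sl_isCA

/-- A simple group of order sixty is CA. -/
theorem isCA_sixty {Y : Type v} [Group Y] [Finite Y] [IsSimpleGroup Y] (h : Nat.card Y = 60) : IsCA Y := by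
  letI : Fintype (GaloisField 2 2) := Fintype.ofFinite _
  have hc : Fintype.card (GaloisField 2 2) = 4 := by
    rw [← Nat.card_eq_fintype_card, GaloisField.card 2 2 two_ne_zero]; norm_num
  haveI := Nine.finite_P2 (F := GaloisField 2 2)
  haveI : IsSimpleGroup (Matrix.ProjectiveSpecialLinearGroup (Fin 2) (GaloisField 2 2)) :=
    Matrix.ProjectiveSpecialLinearGroup.rank_two_simple (by rw [Nat.card_eq_fintype_card, hc])
  obtain ⟨e₁⟩ := iso_psl_five h
  obtain ⟨e₂⟩ := iso_psl_five (card_psl_four (GaloisField 2 2) hc)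
  refine IsCA.of_equiv (e₁.trans e₂.symm) (isCA_psl_char_two ?_)
  exact_mod_cast CharP.cast_eq_zero (GaloisField 2 2) 2

/-- A noncommuting pair in a two-subgroup is present in every Sylow two-subgroup. -/
theorem sylow_nonabelian {Y : Type*} [Group Y] [Finite Y] (f : DihedralGroup 4 →* Y) {x y : DihedralGroup 4}
    (h : ¬ Commute (f x) (f y)) (S : Sylow 2 Y) :
    ∃ a ∈ (S : Subgroup Y), ∃ b ∈ (S : Subgroup Y), ¬ Commute a b := by
  have h2 : IsPGroup 2 f.range :=
    (IsPGroup.of_card (p := 2) (n := 3) (by rw [DihedralGroup.nat_card]; norm_num)).of_surjective f.rangeRestrict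
      f.rangeRestrict_surjective
  obtain ⟨P, hP⟩ := h2.exists_le_sylow
  obtain ⟨g, hg⟩ := MulAction.exists_smul_eq Y P S
  refine ⟨g * f x * g⁻¹, ?_, g * f y * g⁻¹, ?_, fun c => h ((Commute.conj_iff g).1 c)⟩ <;> rw [← hg]
  · exact ⟨f x, hP ⟨x, rfl⟩, rfl⟩
  · exact ⟨f y, hP ⟨y, rfl⟩, rfl⟩

/-- A dihedral group whose parameter is divisible by four contains the dihedral group of order eight. -/
theorem exists_dihedral_four {k : ℕ} (hk : 4 ∣ k) (h0 : k ≠ 0) :
    ∃ (f : DihedralGroup 4 →* DihedralGroup k), ¬ Commute (f (DihedralGroup.r 1)) (f (DihedralGroup.sr 0)) := by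
  obtain ⟨m, rfl⟩ := hk
  set c : ℤ →+ ZMod (4 * m) := AddMonoidHom.mk' (fun i => (i : ZMod (4 * m)) * (m : ZMod (4 * m)))
    fun a b => by push_cast; ring with hc
  have hc4 : c (4 : ℕ) = 0 := by
    rw [hc]
    show ((4 : ℕ) : ℤ) * (m : ZMod (4 * m)) = 0
    rw [Int.cast_natCast, ← Nat.cast_mul, ZMod.natCast_self]
  set ψ : ZMod 4 →+ ZMod (4 * m) := ZMod.lift 4 ⟨c, hc4⟩ with hψ
  let φ : DihedralGroup 4 → DihedralGroup (4 * m)
    | .r i => .r (ψ i)
    | .sr i => .sr (ψ i)
  refine ⟨MonoidHom.mk' φ fun a b => ?_, fun h => ?_⟩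
  · cases a <;> cases b <;> simp [φ, map_add, map_sub]
  · have h' := h.eq
    simp only [MonoidHom.mk'_apply, φ, map_zero, DihedralGroup.r_mul_sr, DihedralGroup.sr_mul_r,
      DihedralGroup.sr.injEq] at h'
    have e1 : ψ 1 = (m : ZMod (4 * m)) := by
      rw [hψ, show (1 : ZMod 4) = ((1 : ℤ) : ZMod 4) by norm_num, ZMod.lift_coe]
      show ((1 : ℤ) : ZMod (4 * m)) * _ = _
      push_cast; ring
    rw [e1] at h'
    have h2 : ((2 * m : ℕ) : ZMod (4 * m)) = 0 := by push_cast; linear_combination -h'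
    rw [ZMod.natCast_eq_zero_iff] at h2
    have := Nat.le_of_dvd (by omega) h2
    omega

/-- When sixteen divides `q² - 1` the Sylow two-subgroups of the projective group are nonabelian. -/
theorem psl_sylow_nonabelian (h2 : (2 : F) ≠ 0) (h7 : 7 ≤ Fintype.card F) (h16 : 16 ∣ Fintype.card F ^ 2 - 1)
    [Finite P2] (S : Sylow 2 P2) : ∃ a ∈ (S : Subgroup P2), ∃ b ∈ (S : Subgroup P2), ¬ Commute a b := by
  have hg := Classical.Dickson.two_dvd_pred h2
  set q := Fintype.card F with hq
  have hodd : q % 2 = 1 := by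
    have : 2 ∣ q - 1 := hg ▸ Nat.gcd_dvd_right 2 (q - 1)
    omega
  obtain ⟨r, hr⟩ : ∃ r, q = 2 * r + 1 := ⟨q / 2, by omega⟩
  have h8 : 4 ∣ r ∨ 4 ∣ r + 1 := by
    have e : q ^ 2 - 1 = 4 * (r * (r + 1)) := by
      rw [hr]
      have : (2 * r + 1) ^ 2 = 4 * (r * (r + 1)) + 1 := by ring
      omega
    rw [e] at h16
    obtain ⟨t, ht⟩ := h16
    have h4 : 4 ∣ r * (r + 1) := ⟨t, by omega⟩
    rcases Nat.even_or_odd r with he | ho
    · exact Or.inl ((Nat.Coprime.dvd_mul_right (show Nat.Coprime 4 (r + 1) from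
        (Nat.Coprime.pow_left 2 (Nat.coprime_two_left.2 he.add_one)))).1 h4)
    · exact Or.inr ((Nat.Coprime.dvd_mul_left (show Nat.Coprime 4 r from
        (Nat.Coprime.pow_left 2 (Nat.coprime_two_left.2 ho)))).1 h4)
  obtain ⟨k, hk, hk0, H, e⟩ : ∃ k, 4 ∣ k ∧ k ≠ 0 ∧ ∃ H : Subgroup P2, Nonempty (H ≃* DihedralGroup k) := by
    rcases h8 with h8 | h8
    · obtain ⟨H, -, e⟩ := Classical.Dickson.exists_dihedral_minus (F := F) (by omega) (by omega)
      rw [hg] at e
      exact ⟨(q - 1) / 2, by rwa [show (q - 1) / 2 = r by omega], by omega, H, e⟩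
    · obtain ⟨H, -, e⟩ := Classical.Dickson.exists_dihedral_plus (F := F) (by omega)
      rw [hg] at e
      exact ⟨(q + 1) / 2, by rwa [show (q + 1) / 2 = r + 1 by omega], by omega, H, e⟩
  obtain ⟨e⟩ := e
  obtain ⟨f, hf⟩ := exists_dihedral_four hk hk0
  refine sylow_nonabelian ((H.subtype.comp e.symm.toMonoidHom).comp f) (x := DihedralGroup.r 1) (y := DihedralGroup.sr 0) (fun c => hf ?_) S
  refine e.symm.injective (H.subtype_injective ?_)
  simp only [map_mul]
  exact c.eq

end Cfsg.Agent.MinNonCA
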