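import Cfsg.Agent.Lib.Solv.MinNonCA.Main
import Cfsg.Agent.Lib.Solv.MinNonCA.Small

/-!
The minimal nonsolvable non-CA groups are two-dimensional projective special linear groups.
-/

set_option autoImplicit false

open scoped Pointwise commutatorElement

namespace Cfsg.Agent.MinNonCA

open Subgroup Cfsg.Agent.Small

/-- The condition on the order of the field. -/
def GoodOrder (q : ℕ) : Prop :=
  (q.Prime ∧ 5 < q ∧ ¬ 16 ∣ q ^ 2 - 1) ∨ ∃ p : ℕ, p.Prime ∧ p ≠ 2 ∧ (q = 3 ^ p ∨ q = 5 ^ p)

variable {G : Type*} [Group G] [Finite G]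

open Nine in
/-- The field of nine elements does not occur. -/
theorem QS.not_nine (h : QS G) {w : G} (hw : Wit w) (hG : Hyp G) {F : Type} [Field F] [Fintype F]
    (e : G ⧸ center G ≃* Matrix.ProjectiveSpecialLinearGroup (Fin 2) F) (h9 : Fintype.card F = 9) : False := by
  obtain ⟨p, n, hp, ⟨hzc, a, b, ha, hb, hab⟩, -, hzp⟩ := hG.exists_pwit hw
  haveI := Fact.mk hp
  haveI := finite_P2 (F := F)
  set z := w ^ n
  set π : G →* Matrix.ProjectiveSpecialLinearGroup (Fin 2) F :=
    e.toMonoidHom.comp (QuotientGroup.mk' (center G)) with hπ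
  have hone : ∀ {x : G}, π x = 1 ↔ x ∈ center G := fun {x} => by
    rw [hπ, MonoidHom.comp_apply]
    exact (map_eq_one_iff _ e.injective).trans (QuotientGroup.eq_one_iff x)
  have hs : Function.Surjective π := e.surjective.comp (QuotientGroup.mk'_surjective _)
  have hker : π.ker ≤ center G := fun x hx => hone.1 hx
  have hz1 : π z ≠ 1 := fun h1 => hzc (hone.1 h1)
  have hzp' : π z ^ p = 1 := by rw [← map_pow]; exact hone.2 hzp
  have ca : Commute (π a) (π z) := ha.map π
  have cb : Commute (π b) (π z) := hb.map π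
  have hdvd : p ∣ 2 ^ 3 * 3 ^ 2 * 5 := by
    have := orderOf_dvd_natCard (π z)
    rwa [orderOf_eq_prime hzp' hz1, card_P2 h9] at this
  rcases hp.dvd_mul.1 hdvd with h' | h'
  · rcases hp.dvd_mul.1 h' with h'' | h''
    · -- the prime two
      have p2 : p = 2 := (Nat.prime_dvd_prime_iff_eq hp Nat.prime_two).1 (hp.dvd_of_dvd_pow h'')
      subst p2
      obtain ⟨S⟩ : Nonempty (Sylow 2 G) := inferInstance
      have hd : DihShape S := by
        obtain ⟨x, hx, y, hy, hxy⟩ := psl_sylow_nonabelian (two_ne_zero' h9) (by omega)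
          (by rw [h9]; norm_num) (S.mapSurjective hs)
        obtain ⟨x, hx', rfl⟩ := hx
        obtain ⟨y, hy', rfl⟩ := hy
        refine h.dihShape S ⟨x, hx', y, hy', fun hc => hxy ?_⟩
        have h1 := hone.2 hc
        rw [map_commutatorElement] at h1
        exact commutatorElement_eq_one_iff_commute.1 h1
      have hz2 : z * z ∈ center G := by rw [← sq]; exact hzp
      obtain ⟨K, hK, -, hzK, hall⟩ := two_cent h9 (show π z * π z = 1 by rw [← sq]; exact hzp') hz1
      have step : ∀ v : G, Commute v z → π v ∈ K := fun v hv => by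
        by_contra hvK
        have hv2 : π (v * v) = 1 := by rw [map_mul]; exact (hall _ (hv.map π)).resolve_left hvK
        have hvc : v ∉ center G := fun hc => hvK (by rw [hone.2 hc]; exact K.one_mem)
        refine h.no_commuting_lifts hd hz2 (hone.1 hv2) hzc hvc (fun hc => hvK ?_) hv.symm
        have h1 := hone.2 hc
        rw [map_mul, map_inv, inv_mul_eq_one] at h1
        rwa [← h1]
      exact hab (commute_of_cyclic_image hker hs hK (step a ha) (step b hb))
    · -- the prime three
      have p3 : p = 3 := (Nat.prime_dvd_prime_iff_eq hp Nat.prime_three).1 (hp.dvd_of_dvd_pow h'')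
      subst p3
      obtain ⟨g, t, ht, hgt⟩ := three_conj h9 hzp' hz1
      set C := centralizer ({π z} : Set (Matrix.ProjectiveSpecialLinearGroup (Fin 2) F)) with hC
      have hC9 : Nat.card C ≤ 9 := by
        have hsub : ∀ y : C, ∃ s : F, g * PSL2.pr (PSL2.uS s) * g⁻¹ = (y : _) := fun y => by
          have h1 := (Commute.conj_iff g⁻¹).2 (show Commute y.1 (g * PSL2.pr (PSL2.uS t) * g⁻¹) by
            rw [hgt]; exact mem_centralizer_singleton_iff.1 y.2)
          rw [inv_inv, show g⁻¹ * (g * PSL2.pr (PSL2.uS t) * g⁻¹) * g = PSL2.pr (PSL2.uS t) by group] at h1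
          obtain ⟨s, hs⟩ := (PSL2.mem_U _).1 (PSL2.mem_U_of_commute ht h1)
          exact ⟨s, by rw [hs]; group⟩
        choose f hf using hsub
        have := Nat.card_le_card_of_injective f fun y y' hy => Subtype.ext (by rw [← hf y, ← hf y', hy])
        rwa [Nat.card_eq_fintype_card (α := F), h9] at this
      have hzZ : zpowers (π z) ≤ C := zpowers_le.2 (mem_centralizer_singleton_iff.2 rfl)
      by_cases hall : ∀ v : G, Commute v z → π v ∈ zpowers (π z)
      · exact hab (commute_of_cyclic_image hker hs inferInstance (hall a ha) (hall b hb))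
      push Not at hall
      obtain ⟨v, hv, hvz⟩ := hall
      set L := closure ({z, v} : Set G) ⊔ center G with hL
      have hLc : ∀ x ∈ L, ∀ y ∈ L, Commute x y := by
        have hgen : ∀ x ∈ closure ({z, v} : Set G), ∀ y ∈ closure ({z, v} : Set G), Commute x y := by
          intro x hx y hy
          induction hx, hy using closure_induction₂ with
          | mem x y hx hy =>
            simp only [Set.mem_insert_iff, Set.mem_singleton_iff] at hx hy
            rcases hx with rfl | rfl <;> rcases hy with rfl | rfl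
            exacts [Commute.refl _, hv.symm, hv, Commute.refl _]
          | one_left y _ => exact Commute.one_left y
          | one_right x _ => exact Commute.one_right x
          | mul_left x y w _ _ _ h1 h2 => exact h1.mul_left h2
          | mul_right y w x _ _ _ h1 h2 => exact h1.mul_right h2
          | inv_left x y _ _ h1 => exact h1.inv_left
          | inv_right x y _ _ h1 => exact h1.inv_right
        intro x hx y hy
        have hx' : x ∈ ((closure ({z, v} : Set G) ⊔ center G : Subgroup G) : Set G) := hx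
        have hy' : y ∈ ((closure ({z, v} : Set G) ⊔ center G : Subgroup G) : Set G) := hy
        rw [mul_normal] at hx' hy'
        obtain ⟨x₁, hx₁, x₂, hx₂, rfl⟩ := hx'
        obtain ⟨y₁, hy₁, y₂, hy₂, rfl⟩ := hy'
        have hr : Commute x₁ (y₁ * y₂) := (hgen x₁ hx₁ y₁ hy₁).mul_right (mem_center_iff.1 hy₂ x₁)
        exact hr.mul_left ((mem_center_iff.1 hx₂ _).symm)
      have hLC : L.map π = C := by
        have hle : L.map π ≤ C := by
          rintro _ ⟨x, hx, rfl⟩
          exact mem_centralizer_singleton_iff.2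
            ((hLc x hx z (mem_sup_left (subset_closure (by simp)))).map π).eq
        refine eq_of_le_of_card_ge hle ?_
        have hlt : zpowers (π z) < L.map π := by
          refine lt_of_le_of_ne (zpowers_le.2 (mem_map_of_mem π (mem_sup_left (subset_closure (by simp))))) ?_
          intro heq
          exact hvz (heq ▸ mem_map_of_mem π (mem_sup_left (subset_closure (by simp))))
        have h3 : Nat.card (zpowers (π z)) = 3 := by rw [Nat.card_zpowers, orderOf_eq_prime hzp' hz1]
        have h3L : 3 ∣ Nat.card (L.map π) := h3 ▸ card_dvd_of_le hlt.le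
        have hLC' := card_dvd_of_le hle
        have hL3 : 3 < Nat.card (L.map π) := by
          rw [← h3]
          refine lt_of_le_of_ne (card_le_of_le hlt.le) fun hcard => hlt.ne ?_
          exact eq_of_le_of_card_ge hlt.le hcard.ge
        obtain ⟨i, hi⟩ := h3L
        obtain ⟨j, hj⟩ := hLC'
        have hC0 := Nat.card_pos (α := C)
        rcases Nat.lt_or_ge j 2 with hj2 | hj2
        · interval_cases j <;> omega
        · have := Nat.mul_le_mul_left (Nat.card (L.map π)) hj2
          omega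
      have up : ∀ x : G, Commute x z → x ∈ L := fun x hx => by
        obtain ⟨l, hl, hle⟩ := (hLC.symm ▸ mem_centralizer_singleton_iff.2 (hx.map π).eq : π x ∈ L.map π)
        have h1 : l⁻¹ * x ∈ L := mem_sup_right (hone.1 (by rw [map_mul, map_inv, hle, inv_mul_cancel]))
        simpa using L.mul_mem hl h1
      exact hab (hLc a (up a ha) b (up b hb))
  · -- the prime five
    have p5 : p = 5 := (Nat.prime_dvd_prime_iff_eq hp (by norm_num)).1 h'
    subst p5
    exact hab (commute_of_cyclic_image hker hs (five_cent h9 hzp' hz1)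
      (mem_centralizer_singleton_iff.2 ca.eq) (mem_centralizer_singleton_iff.2 cb.eq))

/-- The groups are projective special linear groups over fields of good order. -/
theorem Hyp.classify (hG : Hyp G) : ∃ (F : Type) (_ : Field F) (_ : Fintype F),
    Nonempty (G ≃* Matrix.ProjectiveSpecialLinearGroup (Fin 2) F) ∧ GoodOrder (Fintype.card F) := by
  have h := hG.qs
  obtain ⟨w, hw⟩ := hG.exists_wit
  obtain ⟨F, iF, iF', h5, ⟨e⟩⟩ := h.classify_five
  have h9 : Fintype.card F ≠ 9 := h.not_nine hw hG e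
  obtain ⟨η, hs, hc⟩ := h.cover e h5 h9
  obtain ⟨b, hb, hb1⟩ : ∃ b, η b = 1 ∧ b ≠ 1 := by
    by_contra hn
    push Not at hn
    exact hG.not_ca (IsCA.of_equiv (MulEquiv.ofBijective η
      ⟨(injective_iff_map_eq_one η).2 hn, hs⟩).symm sl_isCA)
  have sq : ∀ {a : Matrix.SpecialLinearGroup (Fin 2) F}, a ∈ center (Matrix.SpecialLinearGroup (Fin 2) F) →
      a = 1 ∨ (a.1 = (-1 : F) • (1 : Matrix (Fin 2) (Fin 2) F)) := by
    intro a ha
    obtain ⟨r, hr, hra⟩ := Matrix.SpecialLinearGroup.mem_center_iff.1 ha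
    rw [Fintype.card_fin] at hr
    have : (r - 1) * (r + 1) = 0 := by linear_combination hr
    rcases mul_eq_zero.1 this with h1 | h1
    · left
      refine Subtype.ext ?_
      rw [← hra, sub_eq_zero.1 h1, map_one]; rfl
    · right
      rw [← hra, eq_neg_of_add_eq_zero_left h1]
      ext i j
      simp [Matrix.scalar, Matrix.one_apply, Matrix.diagonal_apply]
  have hbval := (sq ((hc b).1 (hb ▸ one_mem _))).resolve_left hb1
  have h2 : (2 : F) ≠ 0 := fun h2 => hb1 (Subtype.ext (by
    rw [hbval, show (-1 : F) = 1 by linear_combination -h2, one_smul]; rfl))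
  have hZ : center G = ⊥ := by
    rw [eq_bot_iff]
    intro ζ hζ
    obtain ⟨a, rfl⟩ := hs ζ
    rcases sq ((hc a).1 hζ) with rfl | ha
    · exact mem_bot.2 (map_one η)
    · exact mem_bot.2 ((show a = b from Subtype.ext (ha.trans hbval.symm)) ▸ hb)
  set π : G →* Matrix.ProjectiveSpecialLinearGroup (Fin 2) F :=
    e.toMonoidHom.comp (QuotientGroup.mk' (center G)) with hπ
  have hbij : Function.Bijective π := by
    refine ⟨(injective_iff_map_eq_one π).2 fun x hx => ?_, e.surjective.comp (QuotientGroup.mk'_surjective _)⟩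
    have h1 : x ∈ center G := (QuotientGroup.eq_one_iff x).1 ((map_eq_one_iff _ e.injective).1 hx)
    rwa [hZ, mem_bot] at h1
  let E : G ≃* Matrix.ProjectiveSpecialLinearGroup (Fin 2) F := MulEquiv.ofBijective π hbij
  refine ⟨F, iF, iF', ⟨E⟩, ?_⟩
  haveI := Nine.finite_P2 (F := F)
  have hg := Classical.Dickson.two_dvd_pred h2
  have hcard := Classical.Dickson.card_psl F
  rw [hg] at hcard
  set q := Fintype.card F with hq
  have hodd : q % 2 = 1 := by
    have : 2 ∣ q - 1 := hg ▸ Nat.gcd_dvd_right 2 (q - 1)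
    omega
  have h7 : 7 ≤ q := by
    by_contra hlt
    have hq5 : q = 5 := by omega
    haveI := h.simple
    refine hG.not_ca (IsCA.of_equiv (E.trans e.symm) (isCA_sixty ?_))
    rw [Nat.card_congr e.toEquiv]
    rw [hq5] at hcard
    norm_num at hcard ⊢
    omega
  have h16 : ¬ 16 ∣ q ^ 2 - 1 := fun h16 => by
    obtain ⟨S⟩ : Nonempty (Sylow 2 G) := inferInstance
    obtain ⟨x, hx, y, hy, hxy⟩ := psl_sylow_nonabelian h2 h7 h16 (S.mapSurjective (f := π) hbij.2)
    obtain ⟨x, hx', rfl⟩ := hx
    obtain ⟨y, hy', rfl⟩ := hy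
    have hxy' : ¬ Commute x y := fun c => hxy (c.map π)
    haveI : Nontrivial S := by
      refine ⟨⟨x, hx'⟩, 1, fun e => hxy' ?_⟩
      rw [show x = 1 from congrArg Subtype.val e]
      exact Commute.one_left y
    haveI : Nontrivial (center S) := S.2.center_nontrivial
    obtain ⟨⟨z, hz⟩, hz1⟩ := exists_ne (1 : center S)
    refine hz1 (Subtype.ext (Subtype.ext ?_))
    have hzc := h.center_sylow S ⟨x, hx', y, hy', hxy'⟩ z.2
      (fun s hs => congrArg Subtype.val (mem_center_iff.1 hz ⟨s, hs⟩))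
    rw [hZ, mem_bot] at hzc
    exact hzc
  obtain ⟨ℓ, hℓ⟩ := CharP.exists F
  haveI : Fact ℓ.Prime := ⟨CharP.char_is_prime F ℓ⟩
  obtain ⟨⟨n, hn0⟩, -, hn⟩ := FiniteField.card F ℓ
  simp only [← hq, PNat.mk_coe] at hn
  have hℓ3 : 3 ≤ ℓ := by
    have := (Fact.out : ℓ.Prime).two_le
    by_contra hlt
    have : ℓ = 2 := by omega
    rw [hn, this, Nat.pow_mod] at hodd
    simp [Nat.zero_pow (by omega : 0 < n)] at hodd
  by_cases hn1 : n = 1
  · rw [hn1, pow_one] at hn
    exact Or.inl ⟨hn ▸ Fact.out, by omega, h16⟩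
  right
  obtain ⟨r, hr, hrn⟩ := Nat.exists_prime_and_dvd hn1
  obtain ⟨d, hd⟩ := hrn
  have hd0 : d ≠ 0 := by rintro rfl; simp at hd; omega
  have hsmall : ℓ ^ d < 7 := by
    by_contra hbig
    letI : Fintype (GaloisField ℓ d) := Fintype.ofFinite _
    have hK : Fintype.card (GaloisField ℓ d) = ℓ ^ d := by rw [← Nat.card_eq_fintype_card, GaloisField.card ℓ d hd0]
    have hKq : ℓ ^ d < q := by
      rw [hn, hd]
      exact Nat.pow_lt_pow_right (by omega) (by nlinarith [hr.two_le, Nat.pos_of_ne_zero hd0])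
    obtain ⟨ι⟩ := Classical.Dickson.exists_embedding (F := F) (K := GaloisField ℓ d) r hr.one_lt.le
      (by rw [hK, ← pow_mul, mul_comm, ← hd, ← hq, hn])
    obtain ⟨H, ⟨f⟩⟩ := Classical.Dickson.exists_psl ι
    haveI := Nine.finite_P2 (F := GaloisField ℓ d)
    have h2K : (2 : GaloisField ℓ d) ≠ 0 := fun h0 => by
      have h1 : ((2 : ℕ) : GaloisField ℓ d) = 0 := by exact_mod_cast h0
      rw [CharP.cast_eq_zero_iff (GaloisField ℓ d) ℓ] at h1
      have := Nat.le_of_dvd two_pos h1
      omega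
    have hne : H.comap E.toMonoidHom ≠ ⊤ := fun ht => by
      have hT : H = ⊤ := by
        rw [← map_comap_eq_self_of_surjective (f := E.toMonoidHom) E.surjective H, ht,
          map_top_of_surjective _ E.surjective]
      subst hT
      have h1 := Classical.Dickson.card_psl (GaloisField ℓ d)
      rw [Classical.Dickson.two_dvd_pred h2K, ← Nat.card_congr f.toEquiv, card_top, hcard, hK] at h1
      have hlt : (ℓ ^ d) * ((ℓ ^ d) ^ 2 - 1) < q * (q ^ 2 - 1) := by
        refine Nat.mul_lt_mul_of_lt_of_le hKq (Nat.sub_le_sub_right (Nat.pow_le_pow_left hKq.le 2) 1) ?_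
        have : 1 < q ^ 2 := Nat.one_lt_pow two_ne_zero (by omega)
        omega
      omega
    refine psl_not_isCA h2K (by omega) (IsCA.of_equiv (f.symm.trans ?_) (hG.sub_ca _ hne))
    exact (MulEquiv.subgroupCongr (map_comap_eq_self_of_surjective (f := E.toMonoidHom) E.surjective H).symm).trans
      ((H.comap E.toMonoidHom).equivMapOfInjective E.toMonoidHom E.injective).symm
  have hd1 : d = 1 := by
    by_contra hd1
    have : ℓ ^ 2 ≤ ℓ ^ d := Nat.pow_le_pow_right (by omega) (by omega)
    nlinarith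
  rw [hd1, mul_one] at hd
  rw [hd1, pow_one] at hsmall
  have hℓ' : ℓ = 3 ∨ ℓ = 5 := by
    have hp : ℓ.Prime := Fact.out
    interval_cases ℓ <;> first | omega | norm_num at hp
  subst hd
  refine ⟨n, hr, fun h2 => ?_, by rcases hℓ' with rfl | rfl <;> [left; right] <;> exact hn⟩
  subst h2
  rcases hℓ' with rfl | rfl
  · exact h9 (by rw [hn]; norm_num)
  · exact h16 (by rw [hn]; norm_num)

section converse

variable {F : Type*} [Field F] [Fintype F]

local notation "P2" => Matrix.ProjectiveSpecialLinearGroup (Fin 2) F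

theorem GoodOrder.facts {q : ℕ} (h : GoodOrder q) : 7 ≤ q ∧ q % 2 = 1 ∧ ¬ 16 ∣ q ^ 2 - 1 := by
  rcases h with ⟨hp, h5, h16⟩ | ⟨p, hp, hp2, h⟩
  · have := hp.eq_two_or_odd
    have h6 : q ≠ 6 := fun e => by rw [e] at hp; norm_num at hp
    exact ⟨by omega, by omega, h16⟩
  obtain ⟨j, hj⟩ := hp.odd_of_ne_two hp2
  have h3 : 3 ≤ p := by have := hp.two_le; omega
  obtain ⟨b, hb, rfl⟩ : ∃ b, (b = 3 ∨ b = 5) ∧ q = b ^ p := by
    rcases h with rfl | rfl <;> exact ⟨_, by norm_num, rfl⟩
  refine ⟨?_, ?_, ?_⟩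
  · calc 7 ≤ 3 ^ 3 := by norm_num
      _ ≤ b ^ 3 := Nat.pow_le_pow_left (by omega) 3
      _ ≤ b ^ p := Nat.pow_le_pow_right (by omega) h3
  · rw [Nat.pow_mod]; rcases hb with rfl | rfl <;> norm_num
  · intro hdvd
    have hm : (b ^ p) ^ 2 % 16 = 9 := by
      rw [← pow_mul, mul_comm, pow_mul, hj, pow_succ, pow_mul, Nat.mul_mod, Nat.pow_mod]
      rcases hb with rfl | rfl <;> norm_num
    have : 0 < (b ^ p) ^ 2 := Nat.pow_pos (Nat.pow_pos (by omega))
    omega

theorem GoodOrder.subfield (h : GoodOrder (Fintype.card F)) {k m : ℕ} (hm : 1 ≤ m) (hk : 2 ≤ k)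
    (hkm : k ^ m = Fintype.card F) : k = Fintype.card F ∨ k = 3 ∨ k = 5 := by
  rcases h with ⟨hp, -, -⟩ | ⟨p, hp, -, h⟩
  · left
    rw [← hkm] at hp
    have : m = 1 := Nat.Prime.eq_one_of_pow hp
    rw [← hkm, this, pow_one]
  · obtain ⟨b, hb, hbp, hq⟩ : ∃ b, (b = 3 ∨ b = 5) ∧ b.Prime ∧ Fintype.card F = b ^ p := by
      rcases h with h | h
      · exact ⟨3, Or.inl rfl, by norm_num, h⟩
      · exact ⟨5, Or.inr rfl, by norm_num, h⟩
    obtain ⟨j, -, hj⟩ := (Nat.dvd_prime_pow hbp).1 (show k ∣ b ^ p by rw [← hq, ← hkm]; exact dvd_pow_self k (by omega))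
    rw [hj, ← pow_mul, hq] at hkm
    have hjm := Nat.pow_right_injective hbp.two_le hkm
    rcases hp.eq_one_or_self_of_dvd j ⟨m, hjm.symm⟩ with e | e
    · rw [e, pow_one] at hj
      rw [hj]; exact Or.inr hb
    · exact Or.inl (by rw [hj, e, hq])

/-- Proper subgroups of the groups in the list are CA. -/
theorem GoodOrder.sub_ca (h : GoodOrder (Fintype.card F)) {H : Subgroup P2} (hH : H ≠ ⊤) : IsCA H := by
  obtain ⟨h7, hodd, h16⟩ := h.facts
  have h2 : (2 : F) ≠ 0 := fun h0 => by
    have := SL2C.two_dvd_iff.mpr h0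
    omega
  haveI : Finite P2 := Finite.of_surjective _ PSL2.pr_surjective
  have hcard := Classical.Dickson.card_psl F
  rw [Classical.Dickson.two_dvd_pred h2] at hcard
  have h8 : ¬ 8 ∣ Nat.card H := fun h8 => by
    have hd : 16 ∣ Fintype.card F * (Fintype.card F ^ 2 - 1) :=
      hcard ▸ mul_dvd_mul (dvd_trans h8 (card_subgroup_dvd_card H)) (dvd_refl 2)
    have hcop : Nat.Coprime (2 ^ 4) (Fintype.card F) :=
      Nat.Coprime.pow_left 4 (Nat.coprime_two_left.2 (Nat.odd_iff.2 hodd))
    exact h16 (hcop.dvd_of_dvd_mul_left (by simpa using hd))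
  rcases Classical.Dickson.cases_on H with ⟨k, -, hk⟩ | ⟨g, hg, -⟩ | ⟨-, ⟨f⟩⟩ | ⟨-, ⟨f⟩⟩ | ⟨-, ⟨f⟩⟩ | ⟨K, m, hm, hKm, hK⟩
  · rcases hk with ⟨hc, -⟩ | ⟨-, ⟨f⟩⟩
    · exact IsCA.of_isCyclic hc
    · exact IsCA.of_equiv f (isCA_dihedral k)
  · exact IsCA.of_equiv (H.equivMapOfInjective (PSL2.conjP g).toMonoidHom (PSL2.conjP g).injective)
      (isCA_borel hg)
  · refine isCA_twelve ?_
    rw [Nat.card_congr f.toEquiv, nat_card_alternatingGroup]
    norm_num [Nat.factorial]
  · refine absurd ?_ h8
    rw [Nat.card_congr f.toEquiv, Nat.card_perm, Nat.card_fin]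
    norm_num [Nat.factorial]
  · refine IsCA.of_equiv f (isCA_sixty ?_)
    exact PThree.Sub.card_alt_five
  · haveI : Fintype K := Fintype.ofFinite K
    have hk2 : 2 ≤ Nat.card K := by rw [Nat.card_eq_fintype_card]; exact Fintype.one_lt_card
    have hkodd : Nat.card K % 2 = 1 := by
      rcases Nat.mod_two_eq_zero_or_one (Nat.card K) with e | e
      · rw [← hKm, Nat.pow_mod, e, Nat.zero_pow (by omega)] at hodd; simp at hodd
      · exact e
    rcases hK with ⟨-, hc⟩ | ⟨-, ⟨f⟩, hc⟩
    · refine absurd ?_ h8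
      rw [hc]
      obtain ⟨r, hr⟩ : ∃ r, Nat.card K = 2 * r + 1 := ⟨Nat.card K / 2, by omega⟩
      obtain ⟨s, hs⟩ := (Nat.even_mul_succ_self r).two_dvd
      refine Dvd.dvd.mul_left ⟨s, ?_⟩ _
      rw [hr]
      have : (2 * r + 1) ^ 2 = 4 * (r * (r + 1)) + 1 := by ring
      omega
    · rcases h.subfield hm hk2 hKm with e | e | e
      · refine absurd (eq_top_of_card_eq H ?_) hH
        rw [e] at hc
        omega
      · refine isCA_twelve ?_
        rw [e] at hc
        norm_num at hc
        omega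
      · haveI : IsSimpleGroup (Matrix.ProjectiveSpecialLinearGroup (Fin 2) K) :=
          Matrix.ProjectiveSpecialLinearGroup.rank_two_simple (by omega)
        haveI : Finite (Matrix.ProjectiveSpecialLinearGroup (Fin 2) K) := Finite.of_equiv H f.toEquiv
        refine IsCA.of_equiv f (isCA_sixty ?_)
        rw [← Nat.card_congr f.toEquiv]
        rw [e] at hc
        norm_num at hc
        omega

/-- The groups in the list satisfy the hypothesis. -/
theorem GoodOrder.hyp (h : GoodOrder (Fintype.card F)) : Hyp P2 := by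
  obtain ⟨h7, hodd, -⟩ := h.facts
  have h2 : (2 : F) ≠ 0 := fun h0 => by
    have := SL2C.two_dvd_iff.mpr h0
    omega
  haveI : IsSimpleGroup P2 :=
    Matrix.ProjectiveSpecialLinearGroup.rank_two_simple (by rw [Nat.card_eq_fintype_card]; omega)
  refine ⟨fun hs => psl_not_isCA h2 h7 (IsCA.of_comm (IsSimpleGroup.comm_iff_isSolvable.2 hs)),
    fun H hH => h.sub_ca hH, psl_not_isCA h2 h7⟩

end converse

omit [Finite G] in
/-- The hypothesis is invariant under isomorphism. -/
theorem Hyp.of_equiv {P : Type*} [Group P] (e : G ≃* P) (h : Hyp P) : Hyp G := by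
  refine ⟨fun hs => h.nsol ?_, fun H hH => ?_, fun hca => h.not_ca (IsCA.of_equiv e.symm hca)⟩
  · haveI := hs
    exact solvable_of_surjective (f := e.toMonoidHom) e.surjective
  · have hne : H.map e.toMonoidHom ≠ ⊤ := fun ht => hH (map_injective e.injective (by
      rw [ht, map_top_of_surjective _ e.surjective]))
    exact IsCA.of_equiv (H.equivMapOfInjective e.toMonoidHom e.injective) (h.sub_ca _ hne)

omit [Finite G] in
theorem isCA_iff : (∀ x : G, x ∉ center G → IsMulCommutative (centralizer ({x} : Set G))) ↔ IsCA G := by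
  constructor
  · intro h x hx a b ha hb
    exact congrArg Subtype.val ((h x hx).is_comm.comm ⟨a, mem_C.2 ha⟩ ⟨b, mem_C.2 hb⟩)
  · intro h x hx
    exact ⟨⟨fun a b => Subtype.ext (h x hx a b (mem_C.1 a.2) (mem_C.1 b.2)).eq⟩⟩

end Cfsg.Agent.MinNonCA
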