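import Cfsg.Agent.Lib.Solv.MinNonCA.Outside

/-!
The local configuration of a witness yields two noncommuting `p`-elements with central commutator, `p` odd.
-/

set_option autoImplicit false

open scoped Pointwise commutatorElement

namespace Cfsg.Agent.MinNonCA

open Subgroup

variable {G : Type*} [Group G] [Finite G] (h : Hyp G) {D : Subgroup G} [D.Normal]
  (hD : ¬ Group.IsSolvable D) (hDT : D ≠ ⊤) {p : ℕ} [Fact p.Prime] {z c g : G} {X : Subgroup G}
  (hL : Loc (D := D) (p := p) z c g X)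
include h hD hDT hL

theorem Loc.comm {a b : G} (ha : Commute a c) (hb : Commute b c) : Commute a b :=
  h.abelian_centralizer hD hDT hL.cD hL.cnc ha hb

theorem Loc.commX {a : G} (ha : a ∈ X) : Commute a c := ((hL.memX a).1 ha).1

theorem Loc.gc : ¬ Commute g c := fun hgc => by
  have hgz : Commute g z := hL.comm h hD hDT hgc (hL.commX h hD hDT hL.zX)
  exact hL.cnc (by rw [hL.def_c, hgz.eq, mul_inv_cancel_right, inv_mul_cancel]; exact one_mem _)

/-- An element of `X` fixed by an element of the normaliser moving `c` is central. -/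
theorem Loc.fix_central {y k : G} (hy : y ∈ X) (hkN : k ∈ normalizer (X : Set G)) (hky : Commute k y)
    (hkc : ¬ Commute k c) : y ∈ center G := by
  obtain ⟨i, hi⟩ := ((hL.memX y).1 hy).2
  induction i generalizing y with
  | zero => rw [pow_zero, pow_one] at hi; exact hi ▸ one_mem _
  | succ i ih =>
    have hyp : y ^ p ∈ center G := ih (X.pow_mem hy p) (hky.pow_right p) (by
      rw [← pow_mul, ← pow_succ']; exact hi)
    by_contra hyc
    have hw : PWit p y :=
      ⟨⟨hyc, k, c, hky, (hL.commX h hD hDT hy).symm, hkc⟩, ⟨i + 1, hi⟩, hyp⟩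
    obtain ⟨c', g', X', hL'⟩ := h.exists_loc hD hDT hw
    set W := centralizer ({y} : Set G) with hW
    have XW : X ≤ W := fun x hx => mem_C.2 (hL.comm h hD hDT (hL.commX h hD hDT hx) (hL.commX h hD hDT hy))
    have X'W : X' ≤ W := fun x hx =>
      mem_C.2 (hL'.comm h hD hDT (hL'.commX h hD hDT hx) (hL'.commX h hD hDT hL'.zX))
    let Q : Sylow p W := Sylow.ofCard (X'.subgroupOf W)
      (by rw [Nat.card_congr (subgroupOfEquivOfLe X'W).toEquiv, hL'.card])
    have hXp : IsPGroup p X := fun ⟨x, hx⟩ => by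
      obtain ⟨j, hj⟩ := ((hL.memX x).1 hx).2
      exact ⟨j, Subtype.ext hj⟩
    obtain ⟨P, hP⟩ := (hXp.comap_of_injective W.subtype W.subtype_injective).exists_le_sylow
    obtain ⟨m, hm⟩ := MulAction.exists_smul_eq W P Q
    have hto : ∀ x : W, x ∈ (P : Subgroup W) → ((m : G) * x * (m : G)⁻¹) ∈ X' := fun x hx => by
      have h1 : m * x * m⁻¹ ∈ (Q : Subgroup W) := by rw [← hm]; exact ⟨x, hx, rfl⟩
      exact h1
    have hPX : ∀ x : W, x ∈ (P : Subgroup W) → (x : G) ∈ X := fun x hx => by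
      refine (hL.memX _).2 ⟨?_, ?_⟩
      · have h1 := hto x hx
        have h2 := hto ⟨c, XW hL.cX⟩ (hP hL.cX)
        exact (Commute.conj_iff (m : G)).1
          (hL'.comm h hD hDT (hL'.commX h hD hDT h1) (hL'.commX h hD hDT h2))
      · obtain ⟨j, hj⟩ := P.2 ⟨x, hx⟩
        exact ⟨j, congrArg (fun w : (P : Subgroup W) => ((w : W) : G)) hj⟩
    have hX' : ∀ x' : G, x' ∈ X' ↔ (m : G)⁻¹ * x' * m ∈ X := fun x' => by
      constructor
      · intro hx'
        have h1 : (⟨x', X'W hx'⟩ : W) ∈ (Q : Subgroup W) := hx'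
        rw [← hm] at h1
        obtain ⟨u, hu, hue⟩ := h1
        have hue' : (m : G) * u * (m : G)⁻¹ = x' := congrArg Subtype.val hue
        rw [← hue', show (m : G)⁻¹ * ((m : G) * u * (m : G)⁻¹) * m = u by group]
        exact hPX u hu
      · intro hx'
        have h1 := hto ⟨_, XW hx'⟩ (hP hx')
        simpa [mul_assoc] using h1
    have hk' : (m : G) * k * (m : G)⁻¹ ∈ normalizer (X' : Set G) := mem_normalizer_iff.2 fun x => by
      rw [hX' x, hX', mem_normalizer_iff.1 hkN ((m : G)⁻¹ * x * m)]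
      simp [mul_assoc]
    have hmy : Commute (m : G) y := mem_C.1 m.2
    have hky' : Commute ((m : G) * k * (m : G)⁻¹) y := (hmy.mul_left hky).mul_left hmy.inv_left
    have h1 := hL'.Nz _ hk' hky'
    have h2 := hL'.commX h hD hDT (hto ⟨c, XW hL.cX⟩ (hP hL.cX))
    exact hkc ((Commute.conj_iff (m : G)).1 (hL'.comm h hD hDT h1 h2))

variable (hz : PWit p z)
include hz

/-- Elements of `D` normalising `X` of order prime to `p` centralise it. -/
theorem Loc.coprime_fix {k : G} (hkD : k ∈ D) (hkN : k ∈ normalizer (X : Set G))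
    (hko : ¬ p ∣ orderOf k) : Commute k c := by
  by_contra hkc
  have hp : p.Prime := Fact.out
  have Xc : ∀ a b : X, a * b = b * a := fun a b =>
    Subtype.ext (hL.comm h hD hDT (hL.commX h hD hDT a.2) (hL.commX h hD hDT b.2)).eq
  letI : CommGroup X := { (inferInstance : Group X) with mul_comm := Xc }
  set o := orderOf k with ho
  let f : ℕ → X := fun i => ⟨k ^ i * z * (k ^ i)⁻¹,
    (mem_normalizer_iff.1 (pow_mem hkN i) z).1 hL.zX⟩
  let φ : X →* X := MonoidHom.mk' (fun x => ⟨k * x * k⁻¹, (mem_normalizer_iff.1 hkN x).1 x.2⟩)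
    fun a b => Subtype.ext (show k * (a * b : G) * k⁻¹ = k * a * k⁻¹ * (k * b * k⁻¹) by group)
  have hφ : ∀ i, φ (f i) = f (i + 1) := fun i => Subtype.ext (by
    show k * (k ^ i * z * (k ^ i)⁻¹) * k⁻¹ = k ^ (i + 1) * z * (k ^ (i + 1))⁻¹
    rw [pow_succ']; group)
  set y : X := ∏ i ∈ Finset.range o, f i with hy
  have hyfix : φ y = y := by
    rw [hy, map_prod, Finset.prod_congr rfl fun i _ => hφ i]
    have e : f o = f 0 := Subtype.ext (by
      show k ^ o * z * (k ^ o)⁻¹ = k ^ 0 * z * (k ^ 0)⁻¹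
      rw [ho, pow_orderOf_eq_one, pow_zero])
    have := Finset.prod_range_succ f o
    rw [Finset.prod_range_succ', e] at this
    exact mul_right_cancel this
  have hky : Commute k (y : G) := mul_inv_eq_iff_eq_mul.1 (congrArg Subtype.val hyfix)
  have hyc := hL.fix_central h hD hDT y.2 hkN hky hkc
  set K := D ⊔ center G with hK
  haveI : K.Normal := Subgroup.sup_normal _ _
  set ψ : X →* G ⧸ K := (QuotientGroup.mk' K).comp X.subtype with hψ
  have hψf : ∀ i, ψ (f i) = QuotientGroup.mk z := fun i => by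
    have hk1 : (QuotientGroup.mk (k ^ i) : G ⧸ K) = 1 :=
      (QuotientGroup.eq_one_iff _).2 (le_sup_left (b := center G) (D.pow_mem hkD i))
    show QuotientGroup.mk (k ^ i * z * (k ^ i)⁻¹) = _
    rw [QuotientGroup.mk_mul, QuotientGroup.mk_mul, QuotientGroup.mk_inv, hk1, one_mul, inv_one, mul_one]
  have hψn : ∀ n, ψ (∏ i ∈ Finset.range n, f i) = QuotientGroup.mk z ^ n := fun n => by
    induction n with
    | zero => simp
    | succ n ih => rw [Finset.prod_range_succ, map_mul, ih, hψf, pow_succ]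
  have hψy : ψ y = QuotientGroup.mk z ^ o := hψn o
  have h1 : z ^ o ∈ K := (QuotientGroup.eq_one_iff _).1 (by
    rw [QuotientGroup.mk_pow, ← hψy]
    exact (QuotientGroup.eq_one_iff _).2 (le_sup_right (a := D) hyc))
  have h2 : z ^ p ∈ K := le_sup_right (a := D) hz.pow
  have hgcd := Nat.gcd_eq_gcd_ab p o
  rw [(hp.coprime_iff_not_dvd.2 hko).gcd_eq_one] at hgcd
  have hzK : z ∈ K := by
    rw [← zpow_one z, show (1 : ℤ) = p * Nat.gcdA p o + o * Nat.gcdB p o by exact_mod_cast hgcd,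
      zpow_add, zpow_mul, zpow_mul, zpow_natCast, zpow_natCast]
    exact mul_mem (zpow_mem h2 _) (zpow_mem h1 _)
  have hzK' : z ∈ ((D ⊔ center G : Subgroup G) : Set G) := hzK
  rw [normal_mul] at hzK'
  obtain ⟨d, hd, ζ, hζ, e⟩ := hzK'
  refine h.not_mem_mul_center hD hDT hz.wit hd ?_
  rw [← e]; simpa using hζ

/-- A `p`-element of `D` moving the witness, with `p`-th power fixing it. -/
theorem Loc.exists_mover : ∃ u ∈ D, u ∈ normalizer (X : Set G) ∧ ¬ Commute u c ∧ Commute (u ^ p) c ∧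
    ∃ k, u ^ p ^ k = 1 := by
  have hp : p.Prime := Fact.out
  obtain ⟨a, r, hr, hord⟩ := Nat.exists_eq_pow_mul_and_not_dvd (orderOf_pos g).ne' p hp.ne_one
  have hk : Commute (g ^ p ^ a) c := by
    refine hL.coprime_fix h hD hDT hz (D.pow_mem hL.gD _) (pow_mem hL.gN _) fun hdvd => hr ?_
    refine hdvd.trans (orderOf_dvd_of_pow_eq_one ?_)
    rw [← pow_mul, ← hord, pow_orderOf_eq_one]
  have hgr : ¬ Commute (g ^ r) c := fun hc => hL.gc h hD hDT <| by
    have hgcd := Nat.gcd_eq_gcd_ab (p ^ a) r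
    rw [((hp.coprime_iff_not_dvd.2 hr).pow_left a).gcd_eq_one] at hgcd
    rw [← zpow_one g, show (1 : ℤ) = (p ^ a : ℕ) * Nat.gcdA (p ^ a) r + r * Nat.gcdB (p ^ a) r by
      exact_mod_cast hgcd, zpow_add, zpow_mul, zpow_mul, zpow_natCast, zpow_natCast]
    exact (hk.zpow_left _).mul_left (hc.zpow_left _)
  have hpk : (g ^ r) ^ p ^ a = 1 := by rw [← pow_mul, mul_comm, ← hord, pow_orderOf_eq_one]
  suffices ∀ (a : ℕ) (u : G), u ∈ D → u ∈ normalizer (X : Set G) → ¬ Commute u c → u ^ p ^ a = 1 →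
      ∃ u ∈ D, u ∈ normalizer (X : Set G) ∧ ¬ Commute u c ∧ Commute (u ^ p) c ∧ ∃ k, u ^ p ^ k = 1 from
    this a _ (D.pow_mem hL.gD _) (pow_mem hL.gN _) hgr hpk
  intro a
  induction a with
  | zero =>
    intro u _ _ huc hu
    rw [pow_zero, pow_one] at hu
    exact absurd (hu ▸ Commute.one_left c) huc
  | succ a ih =>
    intro u huD huN huc hu
    by_cases hup : Commute (u ^ p) c
    · exact ⟨u, huD, huN, huc, hup, a + 1, hu⟩
    · exact ih (u ^ p) (D.pow_mem huD p) (pow_mem huN p) hup (by rw [← pow_mul, ← pow_succ']; exact hu)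

/-- The prime is odd and there are two noncommuting `p`-elements of `D` with central commutator. -/
theorem Loc.exists_pair : p ≠ 2 ∧ ∃ e u : G, e ∈ X ∧ e ∈ D ∧ u ∈ D ∧ u ∈ normalizer (X : Set G) ∧
    e ^ p = 1 ∧ (∃ k, u ^ p ^ k = 1) ∧ ¬ Commute e u ∧ u * e * u⁻¹ * e⁻¹ ∈ center G := by
  obtain ⟨u, huD, huN, huc, hup, k, huk⟩ := hL.exists_mover h hD hDT hz
  set c₁ := z⁻¹ * (u * z * u⁻¹) with hc₁
  have hc₁X : c₁ ∈ X := X.mul_mem (X.inv_mem hL.zX) ((mem_normalizer_iff.1 huN z).1 hL.zX)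
  have hc₁D : c₁ ∈ D := h.shift_mem hD z huD
  have hc₁nc : c₁ ∉ center G := fun hc =>
    huc (hL.Nz u huN (h.mem_of_central_move hz.wit hc))
  have hcm : Commute z (u * z * u⁻¹) :=
    hL.comm h hD hDT (hL.commX h hD hDT hL.zX) (hL.commX h hD hDT ((mem_normalizer_iff.1 huN z).1 hL.zX))
  have hc₁p : c₁ ^ p = 1 := by
    rw [hc₁, hcm.inv_left.mul_pow, inv_pow, conj_pow, mem_center_iff.1 hz.pow u]; group
  have hp2 : p ≠ 2 := fun hp2 => by
    subst hp2
    refine hc₁nc (hL.fix_central h hD hDT hc₁X huN ?_ huc)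
    have huz : Commute (u ^ 2) z := hL.comm h hD hDT hup (hL.commX h hD hDT hL.zX)
    have e1 : u * z * u⁻¹ = z * c₁ := by rw [hc₁]; group
    have h2 : u ^ 2 * z * (u ^ 2)⁻¹ = z := by rw [huz.eq, mul_inv_cancel_right]
    have h3 : u ^ 2 * z * (u ^ 2)⁻¹ = z * c₁ * (u * c₁ * u⁻¹) := by
      calc u ^ 2 * z * (u ^ 2)⁻¹ = u * (u * z * u⁻¹) * u⁻¹ := by rw [sq]; group
        _ = u * (z * c₁) * u⁻¹ := by rw [e1]
        _ = (u * z * u⁻¹) * (u * c₁ * u⁻¹) := by group
        _ = z * c₁ * (u * c₁ * u⁻¹) := by rw [e1]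
    rw [h3, mul_assoc] at h2
    have e2 : u * c₁ * u⁻¹ = c₁⁻¹ := eq_inv_of_mul_eq_one_right (mul_eq_left.1 h2)
    rw [show c₁⁻¹ = c₁ from inv_eq_of_mul_eq_one_right (by rw [← sq]; exact hc₁p)] at e2
    exact mul_inv_eq_iff_eq_mul.1 e2
  refine ⟨hp2, ?_⟩
  have Xc : ∀ a ∈ X, ∀ b ∈ X, Commute a b := fun a ha b hb =>
    hL.comm h hD hDT (hL.commX h hD hDT ha) (hL.commX h hD hDT hb)
  let E : Subgroup G :=
    { carrier := {x | x ∈ X ∧ x ∈ D ∧ x ^ p = 1}
      mul_mem' := fun {a b} ha hb => ⟨X.mul_mem ha.1 hb.1, D.mul_mem ha.2.1 hb.2.1, by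
        rw [(Xc a ha.1 b hb.1).mul_pow, ha.2.2, hb.2.2, one_mul]⟩
      one_mem' := ⟨X.one_mem, D.one_mem, one_pow p⟩
      inv_mem' := fun {a} ha => ⟨X.inv_mem ha.1, D.inv_mem ha.2.1, by rw [inv_pow, ha.2.2, inv_one]⟩ }
  have hEX : normalizer (X : Set G) ≤ normalizer (E : Set G) := fun n hn => by
    refine mem_normalizer_iff.2 fun x => ?_
    refine and_congr (mem_normalizer_iff.1 hn x) (and_congr
      ⟨fun hx => (inferInstance : D.Normal).conj_mem x hx n,
        fun hx => by simpa [mul_assoc] using (inferInstance : D.Normal).conj_mem _ hx n⁻¹⟩ ?_)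
    rw [conj_pow, mul_inv_eq_one, mul_eq_left]
  have hEp : IsPGroup p E := fun ⟨x, hx⟩ => ⟨1, Subtype.ext (by rw [pow_one]; exact hx.2.2)⟩
  have hUp : IsPGroup p (zpowers u) := fun ⟨x, hx⟩ => by
    obtain ⟨i, rfl⟩ := mem_zpowers_iff.1 hx
    refine ⟨k, Subtype.ext ?_⟩
    show (u ^ i) ^ p ^ k = 1
    rw [← zpow_natCast, ← zpow_mul, mul_comm, zpow_mul, zpow_natCast, huk, one_zpow]
  have hUN : zpowers u ≤ normalizer (E : Set G) := zpowers_le.2 (hEX huN)
  set π := QuotientGroup.mk' (center G) with hπ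
  set R := (E ⊔ zpowers u).map π with hR
  have hRp : IsPGroup p R := (IsPGroup.to_sup_of_normal_left' hEp hUp hUN).map π
  have hAn : ((E.map π).subgroupOf R).Normal := by
    refine (normal_subgroupOf_iff_le_normalizer (map_mono le_sup_left)).2 ?_
    refine le_trans (map_mono ?_) (le_normalizer_map π)
    exact sup_le le_normalizer hUN
  have hA0 : (E.map π).subgroupOf R ≠ ⊥ := fun hb => by
    have hm : π c₁ ∈ E.map π := mem_map_of_mem π ⟨hc₁X, hc₁D, hc₁p⟩
    have : (⟨π c₁, map_mono le_sup_left hm⟩ : R) ∈ (E.map π).subgroupOf R := hm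
    rw [hb, mem_bot] at this
    exact hc₁nc ((QuotientGroup.eq_one_iff _).1 (congrArg Subtype.val this))
  obtain ⟨⟨⟨_, hxR⟩, hx, hxc⟩, hx1⟩ := (bot_lt_iff_ne_bot.2 (Small.normal_meets_center hRp hAn hA0)).ne' |>
    fun hne => (Subgroup.ne_bot_iff_exists_ne_one).1 hne
  obtain ⟨e, he, rfl⟩ := mem_subgroupOf.1 hx
  have hcomm : π u * π e = π e * π u :=
    congrArg Subtype.val (mem_center_iff.1 hxc ⟨π u, mem_map_of_mem π (mem_sup_right (mem_zpowers u))⟩)
  refine ⟨e, u, he.1, he.2.1, huD, huN, he.2.2, ⟨k, huk⟩, fun heu => ?_, (QuotientGroup.eq_one_iff _).1 ?_⟩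
  · exact hx1 (Subtype.ext (Subtype.ext ((QuotientGroup.eq_one_iff _).2
      (hL.fix_central h hD hDT he.1 huN heu.symm huc))))
  · show π (u * e * u⁻¹ * e⁻¹) = 1
    simp only [map_mul, map_inv, hcomm]; group

end Cfsg.Agent.MinNonCA
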