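import Cfsg.Agent.Lib.Solv.MinNonCA.Minimal
import Cfsg.Agent.Lib.Solv.MinNonCA.Cover

/-!
A nonsolvable group which is not a CA group but all of whose proper subgroups are is quasisimple.
-/

set_option autoImplicit false

open scoped Pointwise commutatorElement

namespace Cfsg.Agent.MinNonCA

open Subgroup

variable {G : Type*} [Group G]

/-- Commutation pulls back along an injective homomorphism. -/
theorem commute_of_map {A B : Type*} [Group A] [Group B] {f : A →* B} (hf : Function.Injective f) {a b : A}
    (h : Commute (f a) (f b)) : Commute a b := hf (by rw [map_mul, map_mul]; exact h.eq)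

/-- Being quasisimple with proper subgroups CA, for a proper normal subgroup. -/
theorem sub_ca_of_le (h : Hyp G) {D : Subgroup G} (hDT : D ≠ ⊤) (H : Subgroup D) : IsCA H := by
  intro x hx a b ha hb
  obtain ⟨y, hy⟩ : ∃ y : H, ¬ Commute x y := by
    by_contra hn
    push Not at hn
    exact hx (mem_center_iff.2 fun y => (hn y).eq.symm)
  have hinj : Function.Injective (D.subtype.comp H.subtype) := D.subtype_injective.comp H.subtype_injective
  have hm : ∀ v : H, D.subtype.comp H.subtype v ∈ H.map D.subtype := fun v => mem_map_of_mem _ v.2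
  have hne : H.map D.subtype ≠ ⊤ := fun e => hDT (top_le_iff.1 (e ▸ map_subtype_le H))
  exact commute_of_map hinj (h.ca_on hne (hm x) (hm y) (fun c => hy (commute_of_map hinj c))
    (hm a) (hm b) (ha.map _) (hb.map _))

variable [Finite G]

/-- A normal nonsolvable subgroup is the whole group. -/
theorem Hyp.no_normal (h : Hyp G) (D₀ : Subgroup G) [D₀.Normal] (hD₀ : ¬ Group.IsSolvable D₀) : D₀ = ⊤ := by
  by_contra hne
  obtain ⟨D, ⟨hDn, hle, hD⟩, hmin'⟩ := exists_minimal_of_wellFoundedLT (α := Subgroup G)
    (fun S => S.Normal ∧ S ≤ D₀ ∧ ¬ Group.IsSolvable S) ⟨D₀, inferInstance, le_rfl, hD₀⟩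
  haveI := hDn
  have hDT : D ≠ ⊤ := fun e => hne (top_le_iff.1 (e ▸ hle))
  have hmin : ∀ S : Subgroup G, S.Normal → S ≤ D → ¬ Group.IsSolvable S → S = D :=
    fun S hSn hSD hS => le_antisymm hSD (hmin' ⟨hSn, hSD.trans hle, hS⟩ hSD)
  obtain ⟨w, hw⟩ := h.exists_wit
  obtain ⟨p, n, hp, hz⟩ := h.exists_pwit hw
  haveI := Fact.mk hp
  set z := w ^ n
  obtain ⟨c, g, X, hL⟩ := h.exists_loc hD hDT hz
  obtain ⟨hp2, e, u, heX, heD, huD, huN, hep, -, heu, hζ⟩ := hL.exists_pair h hD hDT hz
  have hQ : QS D :=
    { sub_ca := fun H _ => sub_ca_of_le h hDT H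
      simple := hL.simple_quotient h hD hDT hz hmin
      perfect := by
        have h1 : (commutator D).map D.subtype = D := by
          rw [map_subtype_commutator, perfect_of_minimal hD hmin]
        apply map_injective D.subtype_injective
        rw [h1, ← MonoidHom.range_eq_map, range_subtype]
      nsol := hD }
  obtain ⟨F, iF, iF', h5, ⟨f⟩⟩ := hQ.classify_five
  set π : D →* Matrix.ProjectiveSpecialLinearGroup (Fin 2) F :=
    f.toMonoidHom.comp (QuotientGroup.mk' (center D)) with hπ
  have hone : ∀ {x : D}, π x = 1 ↔ (x : G) ∈ center G := fun {x} => by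
    rw [hπ, MonoidHom.comp_apply, ← h.mem_center_sub hD]
    exact (map_eq_one_iff _ f.injective).trans (QuotientGroup.eq_one_iff x)
  have hsurj : Function.Surjective π := f.surjective.comp (QuotientGroup.mk'_surjective _)
  set ζ : G := u * e * u⁻¹ * e⁻¹ with hζdef
  have hζD : ζ ∈ D := D.mul_mem (D.mul_mem (D.mul_mem huD heD) (D.inv_mem huD)) (D.inv_mem heD)
  by_cases h9 : Fintype.card F = 9
  · -- the field of nine elements
    set e' : D := ⟨e, heD⟩
    set u' : D := ⟨u, huD⟩
    have he1 : π e' ≠ 1 := fun h1 => heu ((mem_center_iff.1 (hone.1 h1) u).symm)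
    have hcm : Commute (π u') (π e') := by
      have h1 : π (u' * e' * u'⁻¹ * e'⁻¹) = 1 := hone.2 hζ
      simp only [map_mul, map_inv] at h1
      exact mul_inv_eq_iff_eq_mul.1 (mul_inv_eq_one.1 h1)
    have he' : π e' ^ p = 1 := by
      rw [← map_pow]; exact hone.2 (by
        have e0 : ((e' ^ p : D) : G) = 1 := hep
        rw [e0]; exact one_mem _)
    have hdvd : p ∣ 2 ^ 3 * 3 ^ 2 * 5 := by
      haveI := Nine.finite_P2 (F := F)
      have := orderOf_dvd_natCard (π e')
      rwa [orderOf_eq_prime he' he1, Nine.card_P2 h9] at this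
    rcases hp.dvd_mul.1 hdvd with h' | h'
    · rcases hp.dvd_mul.1 h' with h'' | h''
      · exact hp2 ((Nat.prime_dvd_prime_iff_eq hp Nat.prime_two).1 (hp.dvd_of_dvd_pow h''))
      · -- the prime three
        have p3 : p = 3 := (Nat.prime_dvd_prime_iff_eq hp Nat.prime_three).1 (hp.dvd_of_dvd_pow h'')
        have hmap : (center D).map (MulAut.conjNormal z : MulAut D).toMonoidHom = center D :=
          Subgroup.characteristic_iff_map_eq.1 inferInstance _
        let κ : MulAut (D ⧸ center D) := QuotientGroup.congr (center D) (center D) (MulAut.conjNormal z) hmap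
        let ψ : MulAut (Matrix.ProjectiveSpecialLinearGroup (Fin 2) F) := (f.symm.trans κ).trans f
        have hψ : ∀ d : D, ψ (π d) = π (MulAut.conjNormal z d) := fun d => by
          show f (κ (f.symm (f (QuotientGroup.mk d)))) = f (QuotientGroup.mk _)
          rw [MulEquiv.symm_apply_apply]
          rfl
        have hψe : ψ (π e') = π e' := by
          rw [hψ]; congr 1; refine Subtype.ext ?_
          rw [MulAut.conjNormal_apply]
          show z * e * z⁻¹ = e
          have hze : Commute z e := hL.comm h hD hDT (hL.commX h hD hDT hL.zX) (hL.commX h hD hDT heX)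
          rw [hze.eq, mul_inv_cancel_right]
        have hψ3 : ψ ^ 3 = 1 := MulEquiv.ext fun y => by
          obtain ⟨d, rfl⟩ := hsurj y
          rw [pow_three, MulAut.mul_apply, MulAut.mul_apply, MulAut.one_apply, hψ, hψ, hψ]
          congr 1
          refine Subtype.ext ?_
          simp only [MulAut.conjNormal_apply]
          have h3 : z ^ 3 ∈ center G := p3 ▸ hz.pow
          calc z * (z * (z * (d : G) * z⁻¹) * z⁻¹) * z⁻¹ = z ^ 3 * (d : G) * (z ^ 3)⁻¹ := by rw [pow_three]; group
            _ = d := by rw [← mem_center_iff.1 h3 (d : G), mul_inv_cancel_right]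
        have hfix := Nine.no_auto h9 ψ (p3 ▸ he') he1 hcm hψe hψ3
        rw [hψ] at hfix
        have h2 : π (MulAut.conjNormal z u' * u'⁻¹) = 1 := by rw [map_mul, hfix, map_inv, mul_inv_cancel]
        have hm := hone.1 h2
        have hm' : z * u * z⁻¹ * u⁻¹ ∈ center G := by
          simpa [MulAut.conjNormal_apply, u'] using hm
        have huz : Commute u z := by
          refine h.mem_of_central_move hz.wit ?_
          have := (inferInstance : (center G).Normal).conj_mem _ (inv_mem hm') z⁻¹
          simpa [mul_assoc] using this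
        exact heu (hL.comm h hD hDT (hL.commX h hD hDT heX) (hL.Nz u huN huz))
    · -- the prime five
      have p5 : p = 5 := (Nat.prime_dvd_prime_iff_eq hp (by norm_num)).1 h'
      have hK := Nine.five_cent h9 (p5 ▸ he') he1
      have := commute_of_cyclic_image (φ := π) (fun x hx => (h.mem_center_sub hD).2 (hone.1 hx)) hsurj hK
        (a := e') (b := u') (mem_centralizer_singleton_iff.2 (Commute.refl _).eq)
        (mem_centralizer_singleton_iff.2 hcm.eq)
      exact heu (congrArg Subtype.val this.eq)
  · -- the centre has exponent two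
    have h2 : (⟨ζ, hζD⟩ : D) * ⟨ζ, hζD⟩ = 1 := hQ.center_sq f h5 h9 ((h.mem_center_sub hD).2 hζ)
    have h2' : ζ ^ 2 = 1 := by rw [sq]; exact congrArg Subtype.val h2
    have hconj : u * e * u⁻¹ = ζ * e := by rw [hζdef]; group
    have h3 : ζ ^ p = 1 := by
      have h4 : (u * e * u⁻¹) ^ p = 1 := by rw [conj_pow, hep]; group
      rwa [hconj, (show Commute ζ e from ((mem_center_iff.1 hζ e).symm)).mul_pow, hep, mul_one] at h4
    obtain ⟨k, hk⟩ := hp.odd_of_ne_two hp2
    have hζ1 : ζ = 1 := by rwa [hk, pow_succ, pow_mul, h2', one_pow, one_mul] at h3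
    refine heu ?_
    rw [hζ1, one_mul] at hconj
    exact (mul_inv_eq_iff_eq_mul.1 hconj).symm

theorem Hyp.perfect (h : Hyp G) : commutator G = ⊤ := by
  refine h.no_normal _ fun hs => h.nsol ?_
  haveI := hs
  exact solvable_of_ker_le_range (commutator G).subtype (Abelianization.of (G := G))
    (by rw [Abelianization.ker_of, range_subtype])

/-- Solvable normal subgroups centralise every witness. -/
theorem Hyp.solvable_le_centralizer (h : Hyp G) {N : Subgroup G} [N.Normal] (hN : Group.IsSolvable N) {z : G}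
    (hz : Wit z) : N ≤ centralizer ({z} : Set G) := by
  set M := centralizer ({z} : Set G) with hM
  obtain ⟨hzc, a₀, b₀, ha₀, hb₀, hab₀⟩ := hz
  obtain ⟨K, hKM, hKs, hzK, a, ha, b, hb, hab⟩ :
      ∃ K : Subgroup G, K ≤ M ∧ Group.IsSolvable K ∧ z ∈ K ∧ ∃ a ∈ K, ∃ b ∈ K, ¬ Commute a b := by
    by_cases hMs : Group.IsSolvable M
    · exact ⟨M, le_rfl, hMs, mem_C.2 (Commute.refl z), a₀, mem_C.2 ha₀, b₀, mem_C.2 hb₀, hab₀⟩
    obtain ⟨T⟩ : Nonempty (Sylow 2 M) := inferInstance
    set N' := normalizer ((T : Subgroup M) : Set M) with hN'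
    haveI : ((T.subtype (show (T : Subgroup M) ≤ N' from le_normalizer) : Sylow 2 N') : Subgroup N').Normal := by
      rw [Sylow.coe_subtype]; exact Subgroup.normal_in_normalizer
    have hN's : Group.IsSolvable N' :=
      solvable_of_normal_two (T.subtype (show (T : Subgroup M) ≤ N' from le_normalizer))
    obtain ⟨a, ha, b, hb, hab⟩ : ∃ a ∈ N', ∃ b ∈ N', ¬ Commute a b := by
      by_contra hn
      push Not at hn
      exact hMs (solvable_of_comm_normalizer T hn)
    refine ⟨N'.map M.subtype, map_subtype_le _, sv_map _ hN's, ⟨⟨z, mem_C.2 (Commute.refl z)⟩,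
      center_le_normalizer _ (mem_center_iff.2 fun m => Subtype.ext (mem_C.1 m.2).eq), rfl⟩,
      a, mem_map_of_mem _ ha, b, mem_map_of_mem _ hb, fun c => hab (commute_of_map M.subtype_injective c)⟩
  have hH : N ⊔ K ≠ ⊤ := fun e => h.nsol (sv_top_of_sup hN hKs fun g => e ▸ mem_top g)
  exact le_sup_left.trans (h.star hH (mem_sup_right hzK) (mem_sup_right ha) (mem_sup_right hb)
    (mem_C.1 (hKM ha)) (mem_C.1 (hKM hb)) hab)

/-- The group is quasisimple. -/
theorem Hyp.qs (h : Hyp G) : QS G := by
  obtain ⟨R, ⟨hRn, hRs⟩, hRmax⟩ := exists_maximal_of_wellFoundedGT (α := Subgroup G)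
    (fun S => S.Normal ∧ Group.IsSolvable S)
    ⟨⊥, inferInstance, sv_of_comm fun a ha b _ => by rw [mem_bot.1 ha]; exact Commute.one_left b⟩
  haveI := hRn
  have hall : ∀ T : Subgroup G, T.Normal → Group.IsSolvable T → T ≤ R := fun T hT hTs => by
    haveI := hT
    exact le_sup_right.trans (hRmax ⟨Subgroup.sup_normal R T, sv_sup hRs hTs⟩ le_sup_left)
  have hRT : R ≠ ⊤ := fun e => h.nsol (sv_iff_top.1 (e ▸ hRs))
  haveI hsimple : IsSimpleGroup (G ⧸ R) := by
    haveI : Nontrivial (G ⧸ R) := QuotientGroup.nontrivial_iff.2 hRT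
    refine ⟨fun N hN => ?_⟩
    haveI := hN
    rw [← map_comap_eq_self_of_surjective (QuotientGroup.mk'_surjective R) N]
    by_cases hs : Group.IsSolvable (N.comap (QuotientGroup.mk' R))
    · left
      rw [Subgroup.map_eq_bot_iff, QuotientGroup.ker_mk']
      exact hall _ inferInstance hs
    · right
      rw [h.no_normal _ hs, map_top_of_surjective _ (QuotientGroup.mk'_surjective R)]
  have hR : R = center G := by
    refine le_antisymm ?_ (hall _ inferInstance (sv_of_comm fun a ha b _ => ((mem_center_iff.1 ha) b).symm))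
    intro r hr
    by_contra hrc
    haveI : (centralizer (R : Set G)).Normal := Subgroup.normal_centralizer
    have hCR : centralizer (R : Set G) ≤ R := hall _ inferInstance <| by
      by_contra hns
      exact hrc (mem_center_iff.2 fun g =>
        ((mem_centralizer_iff.1 (h.no_normal _ hns ▸ mem_top g)) r hr).symm)
    have hwit : ∀ v : G, Wit v → v ∈ R := fun v hv =>
      hCR (mem_centralizer_iff.2 fun x hx => (mem_C.1 (h.solvable_le_centralizer hRs hv hx)).eq)
    obtain ⟨z, hz⟩ := h.exists_wit
    set M := centralizer ({z} : Set G) with hM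
    have hRM : R ≤ M := h.solvable_le_centralizer hRs hz
    set π := QuotientGroup.mk' R with hπ
    have hcomap : (M.map π).comap π = M := by
      rw [comap_map_eq, hπ, QuotientGroup.ker_mk', sup_eq_left.2 hRM]
    have hFc : Cfsg.IsFrobeniusComplement (M.map π) := by
      refine ⟨fun hb => ?_, fun ht => hz.ne_top (by rw [← hM, ← hcomap, ht, comap_top]), fun g hg => ?_⟩
      · rw [Subgroup.map_eq_bot_iff, hπ, QuotientGroup.ker_mk'] at hb
        exact h.not_normal hz (by rw [← hM, le_antisymm hb hRM]; exact hRn)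
      · rw [eq_bot_iff]
        rintro y ⟨⟨a, ha, rfl⟩, hy⟩
        obtain ⟨g, rfl⟩ := QuotientGroup.mk'_surjective R g
        obtain ⟨_, ⟨b, hb, rfl⟩, hb'⟩ := hy
        change (π g) * π b * (π g)⁻¹ = π a at hb'
        rw [mem_bot]
        rw [← map_inv, ← map_mul, ← map_mul] at hb'
        set x := g * b * g⁻¹ with hx
        set z' := g * z * g⁻¹ with hz'
        have hxM : x ∈ M := by rw [← hcomap]; exact mem_comap.2 (hb' ▸ mem_map_of_mem π ha)
        have hxz' : Commute x z' := (Commute.conj_iff g).2 (mem_C.1 hb)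
        have hz'R : z' ∈ R := hwit _ (hz.conj g)
        have hab : ∀ u v : G, Commute u z → Commute u z' → Commute v z → Commute v z' → Commute u v := by
          intro u v hu hu' hv hv'
          by_contra huv
          have hle : M ≤ centralizer ({z'} : Set G) :=
            h.star hz.ne_top (hRM hz'R) (mem_C.2 hu) (mem_C.2 hv) hu' hv' huv
          obtain hMM | hMM := h.maximal hz hle
          · have hgN : g ∈ normalizer (M : Set G) := mem_normalizer_iff.2 fun m => by
              show m ∈ M ↔ g * m * g⁻¹ ∈ M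
              have e : ∀ m, Commute m z ↔ Commute m z' := fun m => by rw [← mem_C, ← mem_C, ← hMM]
              rw [mem_C, mem_C, e (g * m * g⁻¹), hz', Commute.conj_iff]
            obtain hN | hN := h.maximal hz (H := normalizer (M : Set G)) le_normalizer
            · exact hg (mem_map_of_mem π (by rw [hN] at hgN; exact hgN))
            · exact h.not_normal hz (normalizer_eq_top_iff.1 hN)
          · exact (hz.conj g).ne_top hMM
        have hxR : x ∈ R := hCR (mem_centralizer_iff.2 fun s hs =>
          (hab s x (mem_C.1 (hRM hs)) (mem_C.1 (h.solvable_le_centralizer hRs (hz.conj g) hs))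
            (mem_C.1 hxM) hxz').eq)
        rw [← hb']
        exact (QuotientGroup.eq_one_iff x).2 hxR
    obtain ⟨N, -, hNn, hNc⟩ := Solv.frobenius_theorem hFc
    rcases hNn.eq_bot_or_eq_top with h1 | h1 <;> rw [h1] at hNc
    · exact hFc.2.1 (isComplement'_bot_left.1 hNc)
    · exact hFc.1 (isComplement'_top_left.1 hNc)
  exact ⟨h.sub_ca, hR ▸ hsimple, h.perfect, h.nsol⟩

end Cfsg.Agent.MinNonCA
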