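import Cfsg.Agent.Lib.Solv.MinNonCA.Quasi

/-!
A minimal nonsolvable normal subgroup in the local configuration: perfect, with simple central quotient.
-/

set_option autoImplicit false

open scoped Pointwise commutatorElement

namespace Cfsg.Agent.MinNonCA

open Subgroup

variable {G : Type*} [Group G] [Finite G] (h : Hyp G) {D : Subgroup G} [D.Normal]
  (hD : ¬ Group.IsSolvable D) (hDT : D ≠ ⊤) {p : ℕ} [Fact p.Prime] {z c g : G} {X : Subgroup G}
  (hL : Loc (D := D) (p := p) z c g X) (hz : PWit p z)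
  (hmin : ∀ S : Subgroup G, S.Normal → S ≤ D → ¬ Group.IsSolvable S → S = D)

include hD hmin in
omit [Finite G] in
/-- The minimal subgroup is perfect. -/
theorem perfect_of_minimal : ⁅D, D⁆ = D := by
  refine hmin _ (Subgroup.commutator_normal D D) (Subgroup.commutator_le_right D D) fun hs => hD ?_
  refine solvable_of_ker_le_range (G' := (⁅D, D⁆ : Subgroup G))
    (inclusion (Subgroup.commutator_le_right D D)) (Abelianization.of (G := D)) ?_
  rw [Abelianization.ker_of]
  intro x hx
  have hx' : (x : G) ∈ (commutator D).map D.subtype := ⟨x, hx, rfl⟩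
  rw [map_subtype_commutator] at hx'
  exact ⟨⟨x, hx'⟩, rfl⟩

include h hD hDT hL hz hmin

/-- Solvable normal subgroups of the minimal subgroup are central. -/
theorem Loc.solvable_central_sub (S : Subgroup D) (hS : S.Normal) (hSs : Group.IsSolvable S) :
    S ≤ center D := by
  obtain ⟨R, ⟨hR1, hR2⟩, hRmax⟩ := exists_maximal_of_wellFoundedGT (α := Subgroup D)
    (fun S => S.Normal ∧ Group.IsSolvable S) ⟨S, hS, hSs⟩
  have hall : ∀ T : Subgroup D, T.Normal → Group.IsSolvable T → T ≤ R := fun T hT hTs => by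
    haveI := hR1
    haveI := hT
    exact le_sup_right.trans (hRmax ⟨Subgroup.sup_normal R T, sv_sup hR2 hTs⟩ le_sup_left)
  set R' := R.map D.subtype with hR'
  have hR'n : R'.Normal := ⟨fun x hx k => by
    obtain ⟨y, hy, rfl⟩ := hx
    let φ : MulAut D := MulAut.conjNormal k
    haveI := hR1
    have hle : R.map φ.toMonoidHom ≤ R := hall _ (Subgroup.Normal.map inferInstance _ φ.surjective) (sv_map _ hR2)
    exact ⟨φ y, hle ⟨y, hy, rfl⟩, by simp [φ, MulAut.conjNormal_apply]⟩⟩
  have hcen := hL.solvable_central h hD hDT hz _ R' hR'n (map_subtype_le _) (sv_map _ hR2) rfl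
  exact fun x hx => (h.mem_center_sub hD).2 (hcen ⟨x, hall S hS hSs hx, rfl⟩)

/-- Every normal subgroup of the minimal subgroup is central or everything. -/
theorem Loc.normal_cases (N : Subgroup D) (hN : N.Normal) : N ≤ center D ∨ N = ⊤ := by
  by_contra hcon
  push Not at hcon
  obtain ⟨M, ⟨hM1, hM2, hM3⟩, hMmin⟩ := exists_minimal_of_wellFoundedLT (α := Subgroup D)
    (fun S => S.Normal ∧ ¬ S ≤ center D ∧ S ≠ ⊤) ⟨N, hN, hcon.1, hcon.2⟩
  haveI := hM1
  have hMs : ¬ Group.IsSolvable M := fun hs => hM2 (hL.solvable_central_sub h hD hDT hz hmin M hM1 hs)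
  by_cases hinv : (M.map D.subtype).Normal
  · refine hM3 (map_injective D.subtype_injective ?_)
    rw [← MonoidHom.range_eq_map, range_subtype]
    refine hmin _ hinv (map_subtype_le _) fun hs => hMs ?_
    haveI := hs
    exact solvable_of_solvable_injective (f := (M.equivMapOfInjective D.subtype D.subtype_injective).toMonoidHom)
      (MulEquiv.injective _)
  obtain ⟨x, ⟨y, hy, hyx⟩, k, hk⟩ : ∃ x ∈ M.map D.subtype, ∃ k : G, k * x * k⁻¹ ∉ M.map D.subtype := by
    by_contra hn
    push Not at hn
    exact hinv ⟨fun x hx k => hn x hx k⟩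
  set φ : MulAut D := MulAut.conjNormal k with hφ
  set M' := M.map φ.toMonoidHom with hM'
  haveI : M'.Normal := Subgroup.Normal.map inferInstance _ φ.surjective
  have hne : ¬ M' ≤ M := fun hle => hk ⟨φ y, hle ⟨y, hy, rfl⟩, by
    rw [← hyx]; simp [φ, MulAut.conjNormal_apply]⟩
  have hint : M ⊓ M' ≤ center D := by
    by_contra hc
    have hnt : M ⊓ M' ≠ ⊤ := fun ht => hM3 (top_le_iff.1 (ht ▸ inf_le_left))
    have h1 : M ≤ M ⊓ M' := hMmin ⟨Subgroup.normal_inf_normal M M', hc, hnt⟩ inf_le_left
    have h2 : M ≤ M' := h1.trans inf_le_right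
    refine hne (ge_of_eq (eq_of_le_of_card_ge h2 ?_))
    exact (card_map_of_injective φ.injective).le
  obtain ⟨x₀, hx₀, hx₀c⟩ := SetLike.not_le_iff_exists.1 hM2
  refine hMs ?_
  have hsol : Group.IsSolvable M' := sv_of_moved_central (h.sub_ca D hDT) hx₀c fun d hd => hint
    ⟨M.mul_mem (hM1.conj_mem x₀ hx₀ d) (M.inv_mem hx₀), by
      rw [show d * x₀ * d⁻¹ * x₀⁻¹ = d * (x₀ * d⁻¹ * x₀⁻¹) by group]
      exact M'.mul_mem hd ((inferInstance : M'.Normal).conj_mem _ (M'.inv_mem hd) x₀)⟩
  haveI := hsol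
  exact solvable_of_solvable_injective (f := (M.equivMapOfInjective φ.toMonoidHom φ.injective).toMonoidHom)
    (MulEquiv.injective _)

/-- The central quotient of the minimal subgroup is simple. -/
theorem Loc.simple_quotient : IsSimpleGroup (D ⧸ center D) := by
  haveI : Nontrivial (D ⧸ center D) := by
    rw [QuotientGroup.nontrivial_iff]
    intro ht
    exact hD (isSolvable_of_comm fun a b => (mem_center_iff.1 (ht ▸ mem_top b)) a)
  refine ⟨fun N hN => ?_⟩
  haveI := hN
  rcases hL.normal_cases h hD hDT hz hmin (N.comap (QuotientGroup.mk' (center D))) inferInstance with hc | ht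
  · left
    rw [← map_comap_eq_self_of_surjective (QuotientGroup.mk'_surjective (center D)) N, eq_bot_iff]
    rintro _ ⟨a, ha, rfl⟩
    exact mem_bot.2 ((QuotientGroup.eq_one_iff _).2 (hc ha))
  · right
    rw [← map_comap_eq_self_of_surjective (QuotientGroup.mk'_surjective (center D)) N, ht,
      map_top_of_surjective _ (QuotientGroup.mk'_surjective _)]

end Cfsg.Agent.MinNonCA
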