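import Cfsg.Agent.Lib.Solv.MinNonCA.Basic

/-!
A proper nonsolvable normal subgroup: no witness inside it, and the tools against witnesses outside.
-/

set_option autoImplicit false

open scoped Pointwise commutatorElement

namespace Cfsg.Agent.MinNonCA

open Subgroup

variable {G : Type*} [Group G]

/-- Membership in the intersection with a centraliser. -/
theorem mem_A {D : Subgroup G} {z g : G} : g ∈ D ⊓ centralizer ({z} : Set G) ↔ g ∈ D ∧ Commute g z :=
  and_congr Iff.rfl mem_C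

variable [Finite G] (h : Hyp G) {D : Subgroup G} [D.Normal]
  (hD : ¬ Group.IsSolvable D) (hDT : D ≠ ⊤)
include h hD

theorem Hyp.mem_center_sub {x : D} : x ∈ center D ↔ (x : G) ∈ center G :=
  ⟨fun hx => h.centralizer_central hD fun d hd =>
      (congrArg Subtype.val (mem_center_iff.1 hx ⟨d, hd⟩)).symm,
    fun hx => mem_center_iff.2 fun d => Subtype.ext (mem_center_iff.1 hx d)⟩

include hDT

theorem Hyp.dca {x a b : G} (hx : x ∈ D) (hxc : x ∉ center G) (ha : a ∈ D) (hb : b ∈ D)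
    (hax : Commute a x) (hbx : Commute b x) : Commute a b :=
  congrArg Subtype.val (h.sub_ca D hDT ⟨x, hx⟩ (fun hc => hxc ((h.mem_center_sub hD).1 hc))
    ⟨a, ha⟩ ⟨b, hb⟩ (Subtype.ext hax.eq) (Subtype.ext hbx.eq)).eq

variable {p : ℕ} {z : G}

omit hDT in
theorem Hyp.shift_mem (g : G) {d : G} (hd : d ∈ D) : g⁻¹ * (d * g * d⁻¹) ∈ D := by
  have h' := (inferInstance : D.Normal).conj_mem d hd g⁻¹
  rw [inv_inv] at h'
  simpa [mul_assoc] using D.mul_mem h' (D.inv_mem hd)

/-- A witness lies in no abelian normal subgroup. -/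
theorem Hyp.abelian_normal_false (hp : p.Prime) (hz : PWit p z) {Y : Subgroup G} [Y.Normal]
    (hY : ∀ a ∈ Y, ∀ b ∈ Y, Commute a b) (hzY : z ∈ Y)
    (hcom : ∀ x ∈ D, x ∉ center G → ∀ d ∈ D, Commute d x → Commute z x → Commute d z) : False := by
  obtain ⟨d₀, hd₀, hd₀z⟩ := SetLike.not_le_iff_exists.1 (h.not_centralize hD hz.wit)
  have cY : ∀ d : G, z⁻¹ * (d * z * d⁻¹) ∈ Y := fun d =>
    Y.mul_mem (Y.inv_mem hzY) ((inferInstance : Y.Normal).conj_mem z hzY d)
  have cP : ∀ d : G, (z⁻¹ * (d * z * d⁻¹)) ^ p = 1 := fun d => by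
    rw [(hY _ (Y.inv_mem hzY) _ ((inferInstance : Y.Normal).conj_mem z hzY d)).mul_pow, inv_pow,
      conj_pow, mem_center_iff.1 hz.pow d]
    group
  let R : Subgroup G :=
    { carrier := {x | x ∈ D ∧ x ∈ Y ∧ x ^ p = 1}
      mul_mem' := fun {a b} ha hb => ⟨D.mul_mem ha.1 hb.1, Y.mul_mem ha.2.1 hb.2.1, by
        rw [(hY a ha.2.1 b hb.2.1).mul_pow, ha.2.2, hb.2.2, one_mul]⟩
      one_mem' := ⟨D.one_mem, Y.one_mem, one_pow p⟩
      inv_mem' := fun {a} ha => ⟨D.inv_mem ha.1, Y.inv_mem ha.2.1, by rw [inv_pow, ha.2.2, inv_one]⟩ }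
  haveI hRn : R.Normal := ⟨fun x hx g => ⟨(inferInstance : D.Normal).conj_mem x hx.1 g,
    (inferInstance : Y.Normal).conj_mem x hx.2.1 g, by rw [conj_pow, hx.2.2, mul_one, mul_inv_cancel]⟩⟩
  have hc₀ : z⁻¹ * (d₀ * z * d₀⁻¹) ∈ R := ⟨h.shift_mem hD z hd₀, cY _, cP _⟩
  have hc₀' : z⁻¹ * (d₀ * z * d₀⁻¹) ∉ center G := fun hc =>
    hd₀z (mem_C.2 (h.mem_of_central_move hz.wit hc))
  by_cases hp2 : p = 2
  swap
  · have := no_odd_abelian_normal hD (h.sub_ca D hDT) (R.subgroupOf D)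
      (fun a ha b hb => Subtype.ext (hY _ (mem_subgroupOf.1 ha).2.1 _ (mem_subgroupOf.1 hb).2.1).eq)
      hp hp2 (fun x hx => Subtype.ext (by simpa using (mem_subgroupOf.1 hx).2.2))
    exact hc₀' ((h.mem_center_sub hD).1
      (this (show (⟨_, hc₀.1⟩ : D) ∈ R.subgroupOf D from hc₀)))
  subst hp2
  set c₀ := z⁻¹ * (d₀ * z * d₀⁻¹)
  set C := D ⊓ centralizer (R : Set G) with hC
  haveI hCn : C.Normal := by
    haveI : (centralizer (R : Set G)).Normal := Subgroup.normal_centralizer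
    exact Subgroup.normal_inf_normal _ _
  have memC : ∀ {x : G}, x ∈ C ↔ x ∈ D ∧ ∀ r ∈ R, Commute r x := fun {x} =>
    and_congr Iff.rfl mem_centralizer_iff
  have RC : R ≤ C := fun r hr => memC.2 ⟨hr.1, fun r' hr' => hY _ hr'.2.1 _ hr.2.1⟩
  have Cc : ∀ a ∈ C, ∀ b ∈ C, Commute a b := fun a ha b hb =>
    h.dca hD hDT hc₀.1 hc₀' (memC.1 ha).1 (memC.1 hb).1 ((memC.1 ha).2 _ hc₀).symm ((memC.1 hb).2 _ hc₀).symm
  have Cz : ∀ d ∈ C, Commute d z := fun d hd =>
    hcom c₀ hc₀.1 hc₀' d (memC.1 hd).1 ((memC.1 hd).2 _ hc₀).symm (hY z hzY _ hc₀.2.1)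
  have Tz : ∀ t ∈ D, t * t ∈ C → Commute t z := fun t ht ht2 => by
    set c := z⁻¹ * (t * z * t⁻¹) with hc
    by_cases hcc : c ∈ center G
    · exact h.mem_of_central_move hz.wit hcc
    refine Cz t (memC.2 ⟨ht, fun r hr => ?_⟩)
    have e1 : t * z * t⁻¹ = z * c := by rw [hc]; group
    have e2 : t * c * t⁻¹ = c⁻¹ := by
      have h2 : (t * t) * z * (t * t)⁻¹ = z := by rw [(Cz _ ht2).eq, mul_inv_cancel_right]
      have h3 : (t * t) * z * (t * t)⁻¹ = z * c * (t * c * t⁻¹) := by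
        calc (t * t) * z * (t * t)⁻¹ = t * (t * z * t⁻¹) * t⁻¹ := by group
          _ = t * (z * c) * t⁻¹ := by rw [e1]
          _ = (t * z * t⁻¹) * (t * c * t⁻¹) := by group
          _ = z * c * (t * c * t⁻¹) := by rw [e1]
      rw [h3, mul_assoc] at h2
      exact eq_inv_of_mul_eq_one_right (mul_eq_left.1 h2)
    have e3 : c⁻¹ = c := inv_eq_of_mul_eq_one_right (by rw [← sq]; exact cP t)
    have hct : Commute t c := mul_inv_eq_iff_eq_mul.1 (e2.trans e3)
    exact h.dca hD hDT (h.shift_mem hD z ht) hcc hr.1 ht (hY _ hr.2.1 _ (cY t)) hct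
  set I := closure {t : G | t ∈ D ∧ t * t ∈ C} with hI
  haveI hIn : I.Normal := by
    refine ⟨fun x hx g => ?_⟩
    induction hx using closure_induction with
    | mem x hx => exact subset_closure ⟨(inferInstance : D.Normal).conj_mem x hx.1 g, by
        simpa [mul_assoc] using hCn.conj_mem _ hx.2 g⟩
    | one => simp
    | mul a b _ _ ia ib => rw [show g * (a * b) * g⁻¹ = g * a * g⁻¹ * (g * b * g⁻¹) by group]; exact mul_mem ia ib
    | inv a _ ia => rw [show g * a⁻¹ * g⁻¹ = (g * a * g⁻¹)⁻¹ by group]; exact inv_mem ia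
  have IDz : I ≤ D ⊓ centralizer ({z} : Set G) :=
    (closure_le _).2 fun t ht => ⟨ht.1, mem_C.2 (Tz t ht.1 ht.2)⟩
  have Csub : ∀ x ∈ C, x ∈ I := fun x hx => subset_closure ⟨(memC.1 hx).1, C.mul_mem hx hx⟩
  have Csol : Group.IsSolvable (C.subgroupOf D) := sv_of_comm fun a ha b hb => Subtype.ext (Cc _ ha _ hb).eq
  obtain ⟨t, htD, ht2, htC⟩ : ∃ t ∈ D, t * t ∈ C ∧ t ∉ C := by
    by_cases hodd : Odd (C.subgroupOf D).index
    · exact (hD (sv_of_odd_index Csol hodd)).elim
    obtain ⟨tq, htq⟩ := exists_prime_orderOf_dvd_card' (G := D ⧸ C.subgroupOf D) 2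
      (by rw [← Subgroup.index_eq_card]; exact even_iff_two_dvd.1 (Nat.not_odd_iff_even.1 hodd))
    obtain ⟨t, rfl⟩ := QuotientGroup.mk_surjective tq
    refine ⟨t, t.2, ?_, fun hc => ?_⟩
    · have := (QuotientGroup.eq_one_iff (N := C.subgroupOf D) (t * t)).1 (by
        rw [QuotientGroup.mk_mul, ← sq, ← htq]; exact pow_orderOf_eq_one _)
      simpa [mem_subgroupOf] using this
    · rw [(QuotientGroup.eq_one_iff (N := C.subgroupOf D) t).2 (mem_subgroupOf.2 hc), orderOf_one] at htq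
      exact absurd htq (by norm_num)
  obtain ⟨r, hrR, hrt⟩ : ∃ r ∈ R, ¬ Commute r t := by
    by_contra hn; push Not at hn; exact htC (memC.2 ⟨htD, hn⟩)
  refine h.not_centralize hD hz.wit fun d hd => mem_C.2 (h.mem_of_central_move hz.wit ?_)
  set c := z⁻¹ * (d * z * d⁻¹) with hc
  have hcI : ∀ x ∈ I, Commute x c := fun x hx => by
    have h1 : Commute x z := mem_C.1 (IDz hx).2
    have h2 : Commute (d⁻¹ * x * d) z := mem_C.1 (IDz (by simpa using hIn.conj_mem x hx d⁻¹)).2
    have h3 := (Commute.conj_iff d).2 h2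
    rw [show d * (d⁻¹ * x * d) * d⁻¹ = x by group] at h3
    exact h1.inv_right.mul_right h3
  by_contra hcc
  exact hrt (h.dca hD hDT (h.shift_mem hD z hd) hcc hrR.1 htD (hcI r (Csub r (RC hrR)))
    (hcI t (subset_closure ⟨htD, ht2⟩)))

/-- A witness does not have trivial intersection centraliser in `D`: Frobenius complements are solvable
in this situation. -/
theorem Hyp.TI_false (hz : Wit z)
    {x₀ : G} (hx₀ : x₀ ∈ D ⊓ centralizer ({z} : Set G)) (hx₀c : x₀ ∉ center G)
    (hTI : ∀ x ∈ D ⊓ centralizer ({z} : Set G), x ∉ center G → ∀ g ∈ D,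
      g * x * g⁻¹ ∈ D ⊓ centralizer ({z} : Set G) → Commute g z) : False := by
  apply hD
  set π := QuotientGroup.mk' (center D) with hπ
  set A := (D ⊓ centralizer ({z} : Set G)).subgroupOf D with hA
  have ker_le : center D ≤ A := fun x hx => mem_subgroupOf.2
    ⟨x.2, mem_C.2 ((mem_center_iff.1 ((h.mem_center_sub hD).1 hx) z).symm)⟩
  have hcomap : (A.map π).comap π = A := by
    rw [comap_map_eq, hπ, QuotientGroup.ker_mk', sup_eq_left.2 ker_le]
  have hFc : Cfsg.IsFrobeniusComplement (A.map π) := by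
    refine ⟨fun hb => ?_, fun ht => ?_, fun g hg => ?_⟩
    · have h1 : π ⟨x₀, hx₀.1⟩ ∈ A.map π := mem_map_of_mem π (mem_subgroupOf.2 hx₀)
      rw [hb, mem_bot, hπ, QuotientGroup.mk'_apply, QuotientGroup.eq_one_iff, h.mem_center_sub hD] at h1
      exact hx₀c h1
    · have h1 : A = ⊤ := by rw [← hcomap, ht, comap_top]
      exact h.not_centralize hD hz fun d hd => (mem_inf.1 (mem_subgroupOf.1 (h1 ▸ mem_top (⟨d, hd⟩ : D)))).2
    · rw [eq_bot_iff]
      rintro y ⟨⟨a, ha, rfl⟩, hy⟩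
      obtain ⟨g, rfl⟩ := QuotientGroup.mk'_surjective (center D) g
      obtain ⟨_, ⟨b, hb, rfl⟩, hb'⟩ := hy
      change (π g) * π b * (π g)⁻¹ = π a at hb'
      rw [mem_bot]
      by_contra hne
      refine hg (mem_map_of_mem π ?_)
      rw [← map_inv, ← map_mul, ← map_mul] at hb'
      have hconj : g * b * g⁻¹ ∈ A := by
        rw [← hcomap]
        exact mem_comap.2 (hb' ▸ mem_map_of_mem π ha)
      have hbc : (b : G) ∉ center G := fun hc => hne (by
        rw [← hb']
        refine (QuotientGroup.eq_one_iff _).2 ((inferInstance : (center D).Normal).conj_mem b ?_ g)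
        exact (h.mem_center_sub hD).2 hc)
      exact mem_subgroupOf.2 ⟨g.2, mem_C.2 (hTI b hb hbc g g.2 hconj)⟩
  haveI hcsol : Group.IsSolvable (center D) := sv_of_comm fun a ha b _ => ((mem_center_iff.1 ha) b).symm
  have hAs' : Group.IsSolvable A := by
    by_cases hodd : Odd (Nat.card (A.map π))
    · exact sv_ext π A (by rw [hπ, QuotientGroup.ker_mk']; exact hcsol) (odd_solvable hodd)
    obtain ⟨s, hs⟩ := exists_prime_orderOf_dvd_card' (G := A.map π) 2
      (even_iff_two_dvd.1 (Nat.not_odd_iff_even.1 hodd))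
    obtain ⟨⟨_, t, ht, rfl⟩, rfl⟩ : ∃ y : A.map π, y = s := ⟨s, rfl⟩
    rw [← Subgroup.orderOf_coe] at hs
    simp only at hs
    have htc : t ∉ center D := fun hc => by
      rw [show π t = 1 from (QuotientGroup.eq_one_iff t).2 hc, orderOf_one] at hs
      exact absurd hs (by norm_num)
    refine sv_of_moved_central (h.sub_ca D hDT) htc fun d hd => (QuotientGroup.eq_one_iff _).1 ?_
    show π (d * t * d⁻¹ * t⁻¹) = 1
    have hcm := involution_central hFc (mem_map_of_mem π ht)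
      (by rw [← sq, ← hs]; exact pow_orderOf_eq_one _) (mem_map_of_mem π hd)
    simp only [map_mul, map_inv, ← hcm.eq]; group
  haveI : Group.IsSolvable (D ⧸ center D) := solvable_of_frobenius hFc (sv_map π hAs')
  exact solvable_of_ker_le_range (center D).subtype π (by rw [hπ, QuotientGroup.ker_mk', range_subtype])

/-- A witness inside a proper normal nonsolvable subgroup is impossible. -/
theorem Hyp.pwit_not_mem (hp : p.Prime) (hz : PWit p z) : z ∉ D := fun hzD => by
  set A := D ⊓ centralizer ({z} : Set G) with hA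
  have Ac : ∀ a ∈ A, ∀ b ∈ A, Commute a b := fun a ha b hb =>
    h.dca hD hDT hzD hz.wit.1 ha.1 hb.1 (mem_C.1 ha.2) (mem_C.1 hb.2)
  have hzA : z ∈ A := ⟨hzD, mem_C.2 (Commute.refl z)⟩
  by_cases hAn : A.Normal
  · exact h.abelian_normal_false hD hDT hp hz Ac hzA
      fun x hx hxc d hd hdx hzx => h.dca hD hDT hx hxc hd hzD hdx hzx
  have hMN : centralizer ({z} : Set G) ≤ normalizer (A : Set G) := fun m hm => by
    have hfix : ∀ a, Commute a z ↔ Commute (m * a * m⁻¹) z := fun a => by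
      conv_rhs => rw [show z = m * z * m⁻¹ by rw [(mem_C.1 hm).eq, mul_inv_cancel_right]]
      exact (Commute.conj_iff m).symm
    refine mem_normalizer_iff.2 fun a => ?_
    show a ∈ A ↔ m * a * m⁻¹ ∈ A
    rw [hA, mem_A, mem_A, hfix a]
    exact and_congr_left fun _ => ⟨fun ha => (inferInstance : D.Normal).conj_mem a ha m,
      fun ha => by simpa [mul_assoc] using (inferInstance : D.Normal).conj_mem _ ha m⁻¹⟩
  obtain hN | hN := h.maximal hz.wit hMN
  · refine h.TI_false hD hDT hz.wit hzA hz.wit.1 fun x hx hxc g hg hgx => mem_C.1 ?_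
    have hconj : ∀ a ∈ A, g * a * g⁻¹ ∈ A := fun a ha => by
      refine ⟨(inferInstance : D.Normal).conj_mem a ha.1 g, mem_C.2 ?_⟩
      have hxc' : g * x * g⁻¹ ∉ center G := fun hc => hxc (by
        simpa [mul_assoc] using (inferInstance : (center G).Normal).conj_mem _ hc g⁻¹)
      exact h.dca hD hDT hgx.1 hxc' ((inferInstance : D.Normal).conj_mem a ha.1 g) hzD
        ((Commute.conj_iff g).2 (Ac a ha x hx)) (mem_C.1 hgx.2).symm
    rw [← hN]
    have hmap : A.map (MulAut.conj g).toMonoidHom = A := by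
      refine eq_of_le_of_card_ge (fun y hy => ?_) ?_
      · obtain ⟨a, ha, rfl⟩ := hy; exact hconj a ha
      · exact (card_map_of_injective (MulAut.conj g).injective).ge
    refine mem_normalizer_iff.2 fun a => ⟨hconj a, fun ha => ?_⟩
    obtain ⟨b, hb, hb'⟩ := hmap.symm ▸ ha
    rwa [← (MulAut.conj g).injective hb']
  · exact hAn (normalizer_eq_top_iff.1 hN)

theorem Hyp.wit_not_mem {w : G} (hw : Wit w) : w ∉ D := fun hwD => by
  obtain ⟨p, n, hp, hz⟩ := h.exists_pwit hw
  exact h.pwit_not_mem hD hDT hp hz (D.pow_mem hwD n)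

/-- Centralisers of noncentral elements of `D` are abelian in the whole group. -/
theorem Hyp.abelian_centralizer {x : G} (hx : x ∈ D) (hxc : x ∉ center G) {a b : G}
    (ha : Commute a x) (hb : Commute b x) : Commute a b := by
  by_contra hab
  exact h.wit_not_mem hD hDT ⟨hxc, a, b, ha, hb, hab⟩ hx

end Cfsg.Agent.MinNonCA
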