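import Cfsg.Agent.Lib.Solv.MinNonCA.Tools

/-!
A nonsolvable CA group has no noncentral normal abelian subgroup of odd prime exponent.
-/

set_option autoImplicit false

open scoped Pointwise commutatorElement

namespace Cfsg.Agent.MinNonCA

open Subgroup

variable {D : Type*} [Group D] [Finite D]

/-- A CA group: centralisers of noncentral elements are abelian. -/
def IsCA (G : Type*) [Group G] : Prop :=
  ∀ x : G, x ∉ center G → ∀ a b : G, Commute a x → Commute b x → Commute a b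

omit [Finite D] in
/-- Commutators of elements moving `x` by central elements commute with `x`. -/
theorem commutator_fix {x a b : D} (ha : a * x * a⁻¹ * x⁻¹ ∈ center D)
    (hb : b * x * b⁻¹ * x⁻¹ ∈ center D) : Commute ⁅a, b⁆ x := by
  obtain ⟨u, hu, ea⟩ : ∃ u ∈ center D, a * x * a⁻¹ = u * x := ⟨_, ha, by group⟩
  obtain ⟨v, hv, eb⟩ : ∃ v ∈ center D, b * x * b⁻¹ = v * x := ⟨_, hb, by group⟩
  have cu : ∀ g, g * u = u * g := mem_center_iff.1 hu
  have cv : ∀ g, g * v = v * g := mem_center_iff.1 hv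
  have e1 : a⁻¹ * x * a = u⁻¹ * x := by
    calc a⁻¹ * x * a = a⁻¹ * (u⁻¹ * (u * x)) * a := by group
      _ = a⁻¹ * u⁻¹ * (a * x * a⁻¹) * a := by rw [← ea]; group
      _ = (a⁻¹ * u⁻¹) * a * x := by group
      _ = u⁻¹ * x := by
          have : a⁻¹ * u⁻¹ = u⁻¹ * a⁻¹ := (mem_center_iff.1 (inv_mem hu) a⁻¹)
          rw [this]; group
  have e2 : b⁻¹ * x * b = v⁻¹ * x := by
    calc b⁻¹ * x * b = b⁻¹ * (v⁻¹ * (v * x)) * b := by group
      _ = b⁻¹ * v⁻¹ * (b * x * b⁻¹) * b := by rw [← eb]; group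
      _ = (b⁻¹ * v⁻¹) * b * x := by group
      _ = v⁻¹ * x := by
          have : b⁻¹ * v⁻¹ = v⁻¹ * b⁻¹ := (mem_center_iff.1 (inv_mem hv) b⁻¹)
          rw [this]; group
  have main : ⁅a, b⁆ * x * ⁅a, b⁆⁻¹ = x := by
    have cvi : ∀ g, g * v⁻¹ = v⁻¹ * g := mem_center_iff.1 (inv_mem hv)
    have cui : ∀ g, g * u⁻¹ = u⁻¹ * g := mem_center_iff.1 (inv_mem hu)
    calc ⁅a, b⁆ * x * ⁅a, b⁆⁻¹ = a * (b * (a⁻¹ * (b⁻¹ * x * b) * a) * b⁻¹) * a⁻¹ := by
          rw [commutatorElement_def]; group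
      _ = a * (b * (a⁻¹ * (v⁻¹ * x) * a) * b⁻¹) * a⁻¹ := by rw [e2]
      _ = v⁻¹ * (a * (b * (a⁻¹ * x * a) * b⁻¹) * a⁻¹) := by
          rw [show a⁻¹ * (v⁻¹ * x) * a = v⁻¹ * (a⁻¹ * x * a) by rw [← mul_assoc, cvi]; group]
          rw [show b * (v⁻¹ * (a⁻¹ * x * a)) * b⁻¹ = v⁻¹ * (b * (a⁻¹ * x * a) * b⁻¹) by
            rw [← mul_assoc, cvi]; group]
          rw [← mul_assoc a, cvi]; group
      _ = v⁻¹ * (a * (b * (u⁻¹ * x) * b⁻¹) * a⁻¹) := by rw [e1]
      _ = v⁻¹ * (u⁻¹ * (a * (b * x * b⁻¹) * a⁻¹)) := by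
          rw [show b * (u⁻¹ * x) * b⁻¹ = u⁻¹ * (b * x * b⁻¹) by rw [← mul_assoc, cui]; group]
          rw [← mul_assoc a, cui]; group
      _ = v⁻¹ * (u⁻¹ * (v * (a * x * a⁻¹))) := by
          rw [eb, ← mul_assoc a, cv]; group
      _ = v⁻¹ * (u⁻¹ * (v * (u * x))) := by rw [ea]
      _ = x := by
          rw [← mul_assoc u⁻¹ v, cv u⁻¹]; group
  exact (mul_inv_eq_iff_eq_mul.1 main)

/-- A CA group in which a noncentral element is moved only by central elements is solvable. -/
theorem sv_of_moved_central (hca : IsCA D) {x : D} (hx : x ∉ center D) {K : Subgroup D}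
    (hK : ∀ d ∈ K, d * x * d⁻¹ * x⁻¹ ∈ center D) : Group.IsSolvable K :=
  solvable_of_commutators fun a b c d => Subtype.ext <|
    (hca x hx _ _ (commutator_fix (hK a a.2) (hK b b.2)) (commutator_fix (hK c c.2) (hK d d.2))).eq

theorem no_odd_abelian_normal (hsol : ¬ Group.IsSolvable D) (hca : IsCA D) (R : Subgroup D) [R.Normal]
    (hR : ∀ a ∈ R, ∀ b ∈ R, Commute a b) {p : ℕ} (hp : p.Prime) (hp2 : p ≠ 2)
    (hexp : ∀ x ∈ R, x ^ p = 1) : R ≤ center D := by
  intro x₀ hx₀
  by_contra hx₀c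
  apply hsol
  set C := centralizer (R : Set D) with hC
  have memC : ∀ {y : D}, y ∈ C ↔ ∀ r ∈ R, Commute r y := fun {y} => mem_centralizer_iff
  haveI hCn : C.Normal := Subgroup.normal_centralizer
  have RC : R ≤ C := fun y hy => memC.2 fun r hr => hR r hr y hy
  have Ccomm : ∀ a ∈ C, ∀ b ∈ C, Commute a b := fun a ha b hb =>
    hca x₀ hx₀c a b (memC.1 ha x₀ hx₀).symm (memC.1 hb x₀ hx₀).symm
  have ZC : center D ≤ C := Subgroup.center_le_centralizer _
  have Csol : Group.IsSolvable C := sv_of_comm Ccomm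
  by_cases hodd : Odd C.index
  · exact sv_of_odd_index Csol hodd
  obtain ⟨tq, htq⟩ := exists_prime_orderOf_dvd_card' (G := D ⧸ C) 2
    (by rw [← Subgroup.index_eq_card]; exact even_iff_two_dvd.1 (Nat.not_odd_iff_even.1 hodd))
  obtain ⟨t, rfl⟩ := QuotientGroup.mk_surjective tq
  have htC : t ∉ C := fun h => by
    rw [(QuotientGroup.eq_one_iff t).2 h, orderOf_one] at htq; exact absurd htq (by norm_num)
  have ht2 : t * t ∈ C := (QuotientGroup.eq_one_iff _).1 (by
    rw [QuotientGroup.mk_mul, ← sq, ← htq]; exact pow_orderOf_eq_one _)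
  have htc : t ∉ center D := fun h => htC (ZC h)
  have fix : ∀ x ∈ C, Commute x t → x ∈ center D := fun x hx hxt => by
    by_contra hxc
    exact htC (memC.2 fun r hr => hca x hxc r t (memC.1 hx r hr) hxt.symm)
  have inv : ∀ x ∈ C, x * (t * x * t⁻¹) ∈ center D := fun x hx => by
    have hx' := hCn.conj_mem x hx t
    refine fix _ (C.mul_mem hx hx') ?_
    have h2 : (t * t) * x = x * (t * t) := (Ccomm _ ht2 _ hx).eq
    show x * (t * x * t⁻¹) * t = t * (x * (t * x * t⁻¹))
    calc x * (t * x * t⁻¹) * t = (t * x * t⁻¹) * x * t := by rw [(Ccomm _ hx _ hx').eq]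
      _ = t * x * t⁻¹ * (x * (t * t)) * t⁻¹ := by group
      _ = t * x * t⁻¹ * ((t * t) * x) * t⁻¹ := by rw [h2]
      _ = t * (x * (t * x * t⁻¹)) := by group
  -- the part centralising `t` modulo `C`
  set K := (centralizer ({QuotientGroup.mk t} : Set (D ⧸ C))).comap (QuotientGroup.mk' C) with hKdef
  have memK : ∀ {d : D}, d ∈ K → t⁻¹ * (d * t * d⁻¹) ∈ C := fun {d} hd => by
    have h : (d : D ⧸ C) * t = t * d := mem_centralizer_singleton_iff.1 (mem_comap.1 hd)
    refine (QuotientGroup.eq_one_iff _).1 ?_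
    simp only [QuotientGroup.mk_mul, QuotientGroup.mk_inv, h]
    group
  have Ksol : Group.IsSolvable K := by
    by_cases hev : ∃ x ∈ C, x ∉ center D ∧ x * x ∈ center D
    · obtain ⟨x, hx, hxc, hx2⟩ := hev
      refine sv_of_moved_central hca hxc fun d hd => ?_
      set c := t⁻¹ * (d * t * d⁻¹) with hc
      have hcC : c ∈ C := memK hd
      set ζ := t * x * t⁻¹ * x⁻¹ with hζ
      have hζc : ζ ∈ center D := by
        have e : ζ = (x * (t * x * t⁻¹)) * (x * x)⁻¹ := by
          rw [hζ, (Ccomm _ hx _ (hCn.conj_mem x hx t)).eq]; group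
        rw [e]; exact mul_mem (inv x hx) (inv_mem hx2)
      set x' := d * x * d⁻¹ with hx'
      have hx'C : x' ∈ C := hCn.conj_mem x hx d
      have e1 : t * x' * t⁻¹ = ζ * x' := by
        have h1 : d * t * d⁻¹ = t * c := by rw [hc]; group
        calc t * x' * t⁻¹ = t * (c * x' * c⁻¹) * t⁻¹ := by rw [(Ccomm _ hcC _ hx'C).eq, mul_inv_cancel_right]
          _ = (t * c) * x' * (t * c)⁻¹ := by group
          _ = d * (t * x * t⁻¹) * d⁻¹ := by rw [← h1, hx']; group
          _ = d * (ζ * x) * d⁻¹ := by rw [hζ]; group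
          _ = ζ * x' := by
            rw [← mul_assoc d, mem_center_iff.1 hζc d, hx']; group
      refine fix _ (C.mul_mem hx'C (C.inv_mem hx)) ?_
      show x' * x⁻¹ * t = t * (x' * x⁻¹)
      have e2 : t * x⁻¹ * t⁻¹ = ζ⁻¹ * x⁻¹ := by
        calc t * x⁻¹ * t⁻¹ = (t * x * t⁻¹ * x⁻¹ * x)⁻¹ := by group
          _ = x⁻¹ * ζ⁻¹ := by rw [← hζ, mul_inv_rev]
          _ = ζ⁻¹ * x⁻¹ := mem_center_iff.1 (inv_mem hζc) _
      calc x' * x⁻¹ * t = (ζ * x') * (ζ⁻¹ * x⁻¹) * t := by
            rw [show (ζ * x') * (ζ⁻¹ * x⁻¹) = x' * x⁻¹ by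
              rw [← mem_center_iff.1 hζc x']; group]
        _ = (t * x' * t⁻¹) * (t * x⁻¹ * t⁻¹) * t := by rw [e1, e2]
        _ = t * (x' * x⁻¹) := by group
    · push Not at hev
      set π := QuotientGroup.mk' (center D) with hπ
      set L := (centralizer ({π t} : Set (D ⧸ center D))).comap π with hL
      have Lsol : Group.IsSolvable L := sv_of_moved_central hca htc fun d hd => by
        have h : π d * π t = π t * π d := mem_centralizer_singleton_iff.1 (mem_comap.1 hd)
        refine (QuotientGroup.eq_one_iff _).1 ?_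
        show π (d * t * d⁻¹ * t⁻¹) = 1
        simp only [map_mul, map_inv, h]; group
      refine sv_mono (K := C ⊔ L) ?_ (sv_sup Csol Lsol)
      intro d hd
      set φ := t⁻¹ * (d * t * d⁻¹) with hφ
      have hφC : φ ∈ C := memK hd
      -- a square root of `φ` modulo the centre
      let S := C.map π
      have Scomm : ∀ a b : S, a * b = b * a := by
        rintro ⟨_, a, ha, rfl⟩ ⟨_, b, hb, rfl⟩
        refine Subtype.ext ?_
        show π a * π b = π b * π a
        rw [← map_mul, ← map_mul, (Ccomm a ha b hb).eq]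
      have hinj : Function.Injective fun a : S => a * a := fun a b e => by
        obtain ⟨w, hw, ew⟩ := (a * b⁻¹).2
        have hw2 : w * w ∈ center D := (QuotientGroup.eq_one_iff _).1 (by
          show π (w * w) = 1
          rw [map_mul, ew, ← Subgroup.coe_mul]
          have : a * b⁻¹ * (a * b⁻¹) = 1 := by
            calc a * b⁻¹ * (a * b⁻¹) = a * (b⁻¹ * a) * b⁻¹ := by group
              _ = a * a * (b * b)⁻¹ := by rw [Scomm b⁻¹ a]; group
              _ = 1 := by simp only at e; rw [e, mul_inv_cancel]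
          rw [this]; rfl)
        have hw1 : π w = 1 := (QuotientGroup.eq_one_iff _).2 (hev w hw |> fun h => by
          by_contra hc; exact h hc hw2)
        exact mul_inv_eq_one.1 (Subtype.ext (ew.symm.trans hw1))
      obtain ⟨⟨_, c, hc, rfl⟩, hcs⟩ :=
        (Finite.injective_iff_surjective.1 hinj) ⟨π φ, mem_map_of_mem π hφC⟩
      have hcs' : π c * π c = π φ := congrArg Subtype.val hcs
      have hinv : (π t)⁻¹ * π c * π t = (π c)⁻¹ := by
        have h := (QuotientGroup.eq_one_iff _).2 (inv _ (hCn.conj_mem c hc t⁻¹))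
        change π _ = 1 at h
        simp only [map_mul, map_inv, inv_inv] at h
        refine eq_inv_of_mul_eq_one_left ?_
        calc (π t)⁻¹ * π c * π t * π c = (π t)⁻¹ * π c * π t *
              (π t * ((π t)⁻¹ * π c * π t) * (π t)⁻¹) := by group
          _ = 1 := h
      have hdl : c * d ∈ L := by
        refine mem_comap.2 (mem_centralizer_singleton_iff.2 ?_)
        have e : π d * π t = π t * π φ * π d := by
          rw [← map_mul, ← map_mul, ← map_mul]; congr 1; rw [hφ]; group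
        calc π (c * d) * π t = π c * (π t * π φ * π d) := by rw [map_mul, mul_assoc, e]
          _ = π t * ((π t)⁻¹ * π c * π t) * (π φ * π d) := by group
          _ = π t * π (c * d) := by rw [hinv, ← hcs', map_mul]; group
      rw [show d = c⁻¹ * (c * d) by group]
      exact mul_mem_sup (C.inv_mem hc) hdl
  -- the part centralising `R` modulo the centre
  set π := QuotientGroup.mk' (center D) with hπ
  have RZn : (R.map π).Normal := Subgroup.Normal.map inferInstance π (QuotientGroup.mk'_surjective _)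
  set W := (centralizer ((R.map π : Subgroup (D ⧸ center D)) : Set (D ⧸ center D))).comap π with hW
  haveI : W.Normal := by
    haveI := RZn
    exact Subgroup.Normal.comap Subgroup.normal_centralizer π
  have memW : ∀ {d : D}, d ∈ W ↔ ∀ x ∈ R, d * x * d⁻¹ * x⁻¹ ∈ center D := fun {d} => by
    rw [hW, mem_comap, mem_centralizer_iff]
    constructor
    · intro h x hx
      refine (QuotientGroup.eq_one_iff _).1 ?_
      show π (d * x * d⁻¹ * x⁻¹) = 1
      simp only [map_mul, map_inv, ← h _ (mem_map_of_mem π hx)]; group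
    · rintro h _ ⟨x, hx, rfl⟩
      have h' : π (d * x * d⁻¹ * x⁻¹) = 1 := (QuotientGroup.eq_one_iff _).2 (h x hx)
      simp only [map_mul, map_inv] at h'
      exact (mul_inv_eq_iff_eq_mul.1 (mul_inv_eq_one.1 h')).symm
  have Wsol : Group.IsSolvable W := by
    refine sv_ext (QuotientGroup.mk' C) W (by rw [QuotientGroup.ker_mk']; exact Csol) (sv_of_comm ?_)
    rintro _ ⟨a, ha, rfl⟩ _ ⟨b, hb, rfl⟩
    have : ⁅a, b⁆ ∈ C := memC.2 fun r hr => (commutator_fix (memW.1 ha r hr) (memW.1 hb r hr)).symm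
    exact commutatorElement_eq_one_iff_commute.1 (by
      rw [← map_commutatorElement]; exact (QuotientGroup.eq_one_iff _).2 this)
  refine sv_top_of_sup Wsol Ksol fun d => ?_
  -- `t` inverts `R` modulo the centre
  have tinv : ∀ x ∈ R, π t * π x * (π t)⁻¹ = (π x)⁻¹ := fun x hx => by
    have h : π (x * (t * x * t⁻¹)) = 1 := (QuotientGroup.eq_one_iff _).2 (inv x (RC hx))
    simp only [map_mul, map_inv] at h
    exact eq_inv_of_mul_eq_one_right h
  set u := t⁻¹ * (d * t * d⁻¹) with hu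
  have huW : u ∈ W := memW.2 fun x hx => by
    refine (QuotientGroup.eq_one_iff _).1 ?_
    show π (u * x * u⁻¹ * x⁻¹) = 1
    have hy : d⁻¹ * x * d ∈ R := by simpa using (inferInstance : R.Normal).conj_mem x hx d⁻¹
    have h1 := tinv _ hy
    have h2 := tinv x hx
    simp only [map_mul, map_inv] at h1
    simp only [hu, map_mul, map_inv]
    calc (π t)⁻¹ * (π d * π t * (π d)⁻¹) * π x * ((π t)⁻¹ * (π d * π t * (π d)⁻¹))⁻¹ * (π x)⁻¹
        = (π t)⁻¹ * (π d * (π t * ((π d)⁻¹ * π x * π d) * (π t)⁻¹) * (π d)⁻¹) * π t * (π x)⁻¹ := by group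
      _ = (π t)⁻¹ * (π x)⁻¹ * π t * (π x)⁻¹ := by rw [h1]; group
      _ = (π t)⁻¹ * (π t * π x * (π t)⁻¹) * π t * (π x)⁻¹ := by rw [h2]
      _ = 1 := by group
  have powW : ∀ w ∈ W, w ^ p ∈ C := fun w hw => memC.2 fun x hx => by
    set ζ := w * x * w⁻¹ * x⁻¹ with hζ
    have hζc : ζ ∈ center D := memW.1 hw x hx
    have hζp : ζ ^ p = 1 := hexp _ (R.mul_mem ((inferInstance : R.Normal).conj_mem x hx w) (R.inv_mem hx))
    have key : ∀ n : ℕ, w ^ n * x * (w ^ n)⁻¹ = ζ ^ n * x := fun n => by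
      induction n with
      | zero => simp
      | succ n ih =>
        calc w ^ (n + 1) * x * (w ^ (n + 1))⁻¹ = w * (w ^ n * x * (w ^ n)⁻¹) * w⁻¹ := by
              rw [pow_succ']; group
          _ = w * ζ ^ n * x * w⁻¹ := by rw [ih]; group
          _ = ζ ^ n * (w * x * w⁻¹) := by rw [mem_center_iff.1 (pow_mem hζc n) w]; group
          _ = ζ ^ n * (ζ * x) := congrArg (ζ ^ n * ·) (by rw [hζ]; simp)
          _ = ζ ^ (n + 1) * x := by rw [pow_succ]; exact (mul_assoc _ _ _).symm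
    have h := key p
    rw [hζp, one_mul] at h
    exact (mul_inv_eq_iff_eq_mul.1 h).symm
  set v := u ^ ((p + 1) / 2) with hv
  have hvW : v ∈ W := W.pow_mem huW _
  have hvt : v * (t * v * t⁻¹) ∈ C := memC.2 fun x hx => by
    set y := t⁻¹ * x * t with hy
    have hyR : y ∈ R := by simpa [hy] using (inferInstance : R.Normal).conj_mem x hx t⁻¹
    set ζ := v * x * v⁻¹ * x⁻¹ with hζ
    set η := v * y * v⁻¹ * y⁻¹ with hη
    have hζc : ζ ∈ center D := memW.1 hvW x hx
    have hηc : η ∈ center D := memW.1 hvW y hyR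
    have hxy : x * y ∈ center D := by
      have h := inv _ (RC hyR)
      rwa [show t * y * t⁻¹ = x by rw [hy]; group, (Ccomm _ (RC hyR) _ (RC hx)).eq] at h
    have hηζ : η * ζ = 1 := by
      have h1 : v * (x * y) * v⁻¹ = x * y := by rw [mem_center_iff.1 hxy v]; group
      have h2 : v * (x * y) * v⁻¹ = ζ * η * (x * y) := by
        calc v * (x * y) * v⁻¹ = (v * x * v⁻¹) * (v * y * v⁻¹) := by group
          _ = (ζ * x) * (η * y) := by rw [hζ, hη]; group
          _ = ζ * (x * η) * y := by group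
          _ = ζ * (η * x) * y := by rw [mem_center_iff.1 hηc x]
          _ = _ := by group
      have h3 : ζ * η = 1 := mul_eq_right.1 (h2.symm.trans h1)
      rw [← mem_center_iff.1 hηc ζ]; exact h3
    have e : (v * (t * v * t⁻¹)) * x * (v * (t * v * t⁻¹))⁻¹ = x := by
      calc _ = v * (t * (v * y * v⁻¹) * t⁻¹) * v⁻¹ := by rw [hy]; group
        _ = v * (t * (η * y) * t⁻¹) * v⁻¹ := by rw [hη]; group
        _ = η * (v * x * v⁻¹) := by
            rw [← mul_assoc t, mem_center_iff.1 hηc t, hy]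
            rw [show η * t * (t⁻¹ * x * t) * t⁻¹ = η * x by group, ← mul_assoc v, mem_center_iff.1 hηc v]
            group
        _ = η * ζ * x := by rw [hζ]; group
        _ = x := by rw [hηζ, one_mul]
    exact (mul_inv_eq_iff_eq_mul.1 e).symm
  set ρ := QuotientGroup.mk' C with hρ
  have r1 : ρ t * ρ v * (ρ t)⁻¹ = (ρ v)⁻¹ := by
    have h : ρ (v * (t * v * t⁻¹)) = 1 := (QuotientGroup.eq_one_iff _).2 hvt
    simp only [map_mul, map_inv] at h
    exact eq_inv_of_mul_eq_one_right h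
  have r2 : (ρ t)⁻¹ = ρ t := inv_eq_of_mul_eq_one_right (by rw [← map_mul]; exact (QuotientGroup.eq_one_iff _).2 ht2)
  have r3 : ρ v * ρ v = ρ u := by
    have hh : (p + 1) / 2 + (p + 1) / 2 = p + 1 := by
      obtain ⟨m, hm⟩ := hp.odd_of_ne_two hp2
      omega
    have h : ρ (u ^ p) = 1 := (QuotientGroup.eq_one_iff _).2 (powW u huW)
    rw [← map_mul, hv, ← pow_add, hh, pow_succ, map_mul, h, one_mul]
  have hvd : v * d ∈ K := by
    refine mem_comap.2 (mem_centralizer_singleton_iff.2 ?_)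
    show ρ (v * d) * ρ t = ρ t * ρ (v * d)
    have e : ρ d * ρ t = ρ t * ρ u * ρ d := by
      rw [← map_mul, ← map_mul, ← map_mul]; congr 1; rw [hu]; group
    calc ρ (v * d) * ρ t = ρ v * (ρ t * ρ u * ρ d) := by rw [map_mul, mul_assoc, e]
      _ = ρ t * ((ρ t)⁻¹ * ρ v * ρ t) * (ρ u * ρ d) := by group
      _ = ρ t * (ρ t * ρ v * (ρ t)⁻¹) * (ρ u * ρ d) := by rw [r2]
      _ = ρ t * ρ (v * d) := by rw [r1, ← r3, map_mul]; group
  rw [show d = v⁻¹ * (v * d) by group]
  exact mul_mem_sup (W.inv_mem hvW) hvd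

end Cfsg.Agent.MinNonCA
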