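import Cfsg.Agent.Lib.Solv.MinNonCA.Normal
import Cfsg.Agent.Lib.Small.SylowInside

/-!
A proper nonsolvable normal subgroup: the witnesses outside it, and the local configuration they force.
-/

set_option autoImplicit false

open scoped Pointwise commutatorElement

namespace Cfsg.Agent.MinNonCA

open Subgroup

section general

variable {G : Type*} [Group G] [Finite G] {p : ℕ} [Fact p.Prime]

/-- A `p`-subgroup of `W` which is too small to be Sylow is normalised by an outside `p`-element. -/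
theorem exists_normalising {X W : Subgroup G} (hle : X ≤ W) (hX : IsPGroup p X)
    (hcard : Nat.card X ≠ p ^ (Nat.card W).factorization p) :
    ∃ n ∈ W, n ∉ X ∧ n ∈ normalizer (X : Set G) ∧ ∃ k, n ^ p ^ k = 1 := by
  obtain ⟨P, hP⟩ := (hX.comap_of_injective W.subtype W.subtype_injective).exists_le_sylow
  set X' := (X.comap W.subtype).subgroupOf (P : Subgroup W) with hX'
  haveI : Group.IsNilpotent (P : Subgroup W) := P.2.isNilpotent
  have hne : X' ≠ ⊤ := fun ht => hcard (by
    have e : X.comap W.subtype = P := le_antisymm hP (subgroupOf_eq_top.1 ht)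
    rw [← P.card_eq_multiplicity, ← Nat.card_congr (subgroupOfEquivOfLe hle).toEquiv, ← e]; rfl)
  obtain ⟨n, hn, hnX⟩ := SetLike.exists_of_lt (normalizerCondition_of_isNilpotent X' (lt_top_iff_ne_top.2 hne))
  obtain ⟨k, hk⟩ := P.2 n
  refine ⟨((n : W) : G), (n : W).2, fun h => hnX h, mem_normalizer_iff.2 fun x => ?_,
    k, congrArg (fun y : (P : Subgroup W) => ((y : W) : G)) hk⟩
  constructor
  · intro hx
    exact (mem_normalizer_iff.1 hn ⟨⟨x, hle hx⟩, hP hx⟩).1 hx
  · intro hx
    have hx' : (⟨_, hle hx⟩ : W) ∈ (P : Subgroup W) := hP hx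
    have h := (mem_normalizer_iff.1 (inv_mem hn) ⟨_, hx'⟩).1 hx
    simpa [hX', mem_subgroupOf, mul_assoc] using h

end general

variable {G : Type*} [Group G] [Finite G] (h : Hyp G) {D : Subgroup G} [D.Normal]
  (hD : ¬ Group.IsSolvable D) (hDT : D ≠ ⊤) {p : ℕ} [Fact p.Prime] {z : G}
include h hD hDT

/-- A witness is not in `D` times the centre. -/
theorem Hyp.not_mem_mul_center (hz : Wit z) {d : G} (hd : d ∈ D) (hdz : d⁻¹ * z ∈ center G) : False := by
  set ζ := d⁻¹ * z with hζ
  have e : z = d * ζ := by rw [hζ]; group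
  have hc := mem_center_iff.1 hdz
  refine h.wit_not_mem hD hDT (hz.of_le (fun hdc => hz.1 (e ▸ mul_mem hdc hdz)) fun g hg => ?_) hd
  rw [e] at hg
  have h2 := hg.mul_right (show Commute g ζ from hc g).inv_right
  rwa [mul_inv_cancel_right] at h2

/-- A witness moves some element of `D` by an element commuting with it. -/
theorem Hyp.exists_bad (hz : PWit p z) :
    ∃ g ∈ D, Commute (z⁻¹ * (g * z * g⁻¹)) z ∧ z⁻¹ * (g * z * g⁻¹) ∉ center G := by
  by_contra hbad
  push Not at hbad
  set A := D ⊓ centralizer ({z} : Set G) with hA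
  have TI : ∀ x ∈ A, x ∉ center G → ∀ g ∈ D, g * x * g⁻¹ ∈ A → Commute g z := fun x hx hxc g hg hgx => by
    refine h.mem_of_central_move hz.wit (hbad g hg ?_)
    have hxc' : g * x * g⁻¹ ∉ center G := fun hc => hxc (by
      simpa [mul_assoc] using (inferInstance : (center G).Normal).conj_mem _ hc g⁻¹)
    have hcm : Commute (g * z * g⁻¹) z :=
      h.abelian_centralizer hD hDT hgx.1 hxc' ((Commute.conj_iff g).2 (mem_C.1 hx.2).symm) (mem_C.1 hgx.2).symm
    exact (Commute.refl z).inv_left.mul_left hcm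
  by_cases hAZ : ∀ x ∈ A, x ∈ center G
  · apply hD
    set π := QuotientGroup.mk' (center G) with hπ
    have hnil : Group.IsNilpotent (D.map π) := by
      refine Solv.fpf_nilpotent (D.map π) (π z) (r := p) Fact.out
        (by rw [← map_pow]; exact (QuotientGroup.eq_one_iff _).2 hz.pow) ?_ ?_
      · haveI : (D.map π).Normal := Subgroup.Normal.map inferInstance π (QuotientGroup.mk'_surjective _)
        rw [normalizer_eq_top]; trivial
      · rw [eq_bot_iff]
        rintro _ ⟨⟨d, hd, rfl⟩, hdz⟩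
        have hcm : π d * π z = π z * π d := mem_centralizer_singleton_iff.1 hdz
        have hdC : Commute d z := h.mem_of_central_move hz.wit ((QuotientGroup.eq_one_iff _).1 (by
          show π (z⁻¹ * (d * z * d⁻¹)) = 1
          simp only [map_mul, map_inv, hcm]; group))
        exact mem_bot.2 ((QuotientGroup.eq_one_iff d).2 (hAZ d ⟨hd, mem_C.2 hdC⟩))
    haveI := hnil
    exact sv_ext π D (by rw [hπ, QuotientGroup.ker_mk']
                         exact sv_of_comm fun a ha b _ => ((mem_center_iff.1 ha) b).symm) inferInstance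
  push Not at hAZ
  obtain ⟨x, hx, hxc⟩ := hAZ
  exact h.TI_false hD hDT hz.wit hx hxc TI

/-- The elements of `p`-power order of the centraliser of a noncentral element of `D`. -/
def Hyp.pPart {c : G} (hc : c ∈ D) (hcc : c ∉ center G) : Subgroup G where
  carrier := {x | Commute x c ∧ ∃ k, x ^ p ^ k = 1}
  mul_mem' := fun {a b} ha hb => ⟨ha.1.mul_left hb.1, by
    obtain ⟨i, hi⟩ := ha.2; obtain ⟨j, hj⟩ := hb.2
    refine ⟨i + j, ?_⟩
    rw [(h.abelian_centralizer hD hDT hc hcc ha.1 hb.1).mul_pow, pow_add, pow_mul, hi, one_pow,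
      one_mul, mul_comm (p ^ i), pow_mul, hj, one_pow]⟩
  one_mem' := ⟨Commute.one_left c, 0, by simp⟩
  inv_mem' := fun {a} ha => ⟨ha.1.inv_left, by obtain ⟨i, hi⟩ := ha.2; exact ⟨i, by rw [inv_pow, hi, inv_one]⟩⟩

omit h hD hDT in
/-- A `p`-subgroup of an abelian centraliser. -/
theorem pPart_isP (h : Hyp G) (hD : ¬ Group.IsSolvable D) (hDT : D ≠ ⊤) {c : G} (hc : c ∈ D)
    (hcc : c ∉ center G) : IsPGroup p (h.pPart hD hDT (p := p) hc hcc) := fun ⟨x, _, k, hk⟩ =>
  ⟨k, Subtype.ext hk⟩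

/-- The configuration of a witness: an abelian Sylow subgroup of its centraliser, whose normaliser in `D`
moves the witness. -/
structure Loc (z c g : G) (X : Subgroup G) : Prop where
  cD : c ∈ D
  cnc : c ∉ center G
  cP : c ^ p = 1
  def_c : c = z⁻¹ * (g * z * g⁻¹)
  memX : ∀ x, x ∈ X ↔ Commute x c ∧ ∃ k, x ^ p ^ k = 1
  zX : z ∈ X
  cX : c ∈ X
  card : Nat.card X = p ^ (Nat.card (centralizer ({z} : Set G))).factorization p
  gD : g ∈ D
  gN : g ∈ normalizer (X : Set G)
  Nne : normalizer (X : Set G) ≠ ⊤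
  Nz : ∀ y ∈ normalizer (X : Set G), Commute y z → Commute y c

/-- Every witness of prime power order has the local configuration. -/
theorem Hyp.exists_loc (hz : PWit p z) : ∃ c g X, Loc (D := D) (p := p) z c g X := by
  have hp : p.Prime := Fact.out
  obtain ⟨g, hg, hcz, hcnc⟩ := h.exists_bad hD hDT hz
  set c := z⁻¹ * (g * z * g⁻¹) with hc
  have hcD : c ∈ D := h.shift_mem hD z hg
  set X := h.pPart hD hDT (p := p) hcD hcnc with hX
  have memX : ∀ x, x ∈ X ↔ Commute x c ∧ ∃ k, x ^ p ^ k = 1 := fun x => Iff.rfl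
  have Xc : ∀ a ∈ X, ∀ b ∈ X, Commute a b := fun a ha b hb =>
    h.abelian_centralizer hD hDT hcD hcnc ha.1 hb.1
  set z' := g * z * g⁻¹ with hz'
  have hzz' : Commute z z' := by
    have := (Commute.refl z).mul_right hcz.symm
    rwa [hc, mul_inv_cancel_left] at this
  have hcP : c ^ p = 1 := by
    rw [hc, (hzz'.inv_left).mul_pow, inv_pow, hz', conj_pow, mem_center_iff.1 hz.pow g]; group
  have zX : z ∈ X := ⟨hcz.symm, hz.isP⟩
  have cX : c ∈ X := ⟨Commute.refl c, 1, by rw [pow_one, hcP]⟩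
  have z'X : z' ∈ X := by
    have := X.mul_mem zX cX
    rwa [hc, mul_inv_cancel_left] at this
  have hz'w : Wit z' := hz.wit.conj g
  have Xle : ∀ w ∈ X, X ≤ centralizer ({w} : Set G) := fun w hw x hx => mem_C.2 (Xc x hx w hw)
  set H := normalizer (X : Set G) with hH
  have hHne : H ≠ ⊤ := fun ht => by
    haveI : X.Normal := normalizer_eq_top_iff.1 ht
    haveI : (centralizer (X : Set G)).Normal := Subgroup.normal_centralizer
    refine h.abelian_normal_false hD hDT hp hz (Y := centralizer (X : Set G))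
      (fun a ha b hb => h.abelian_centralizer hD hDT hcD hcnc
        (mem_centralizer_iff.1 ha c cX).symm (mem_centralizer_iff.1 hb c cX).symm)
      (mem_centralizer_iff.2 fun x hx => (Xc x hx z zX).eq)
      fun x hx hxc d _ hdx hzx => h.abelian_centralizer hD hDT hx hxc hdx hzx
  have up : ∀ w ∈ X, Wit w → Nat.card X ≠ p ^ (Nat.card (centralizer ({w} : Set G))).factorization p →
      H ≤ centralizer ({w} : Set G) := fun w hw hww hne => by
    obtain ⟨n, hnw, hnX, hnH, hnk⟩ := exists_normalising (Xle w hw) (pPart_isP h hD hDT hcD hcnc) hne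
    refine h.star hHne (le_normalizer hw) hnH (le_normalizer cX) (mem_C.1 hnw) (Xc c cX w hw) fun hnc => ?_
    exact hnX ⟨hnc, hnk⟩
  have hcardM : Nat.card (centralizer ({z'} : Set G)) = Nat.card (centralizer ({z} : Set G)) := by
    rw [show centralizer ({z'} : Set G) = (centralizer ({z} : Set G)).map (MulAut.conj g).toMonoidHom by
      ext x
      rw [mem_C]
      constructor
      · intro hx
        refine ⟨g⁻¹ * x * g, mem_C.2 ((Commute.conj_iff g).1 ?_), show g * (g⁻¹ * x * g) * g⁻¹ = x by group⟩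
        rwa [show g * (g⁻¹ * x * g) * g⁻¹ = x by group]
      · rintro ⟨y, hy, rfl⟩
        exact (Commute.conj_iff g).2 (mem_C.1 hy)]
    exact card_map_of_injective (MulAut.conj g).injective
  have card : Nat.card X = p ^ (Nat.card (centralizer ({z} : Set G))).factorization p := by
    by_contra hne
    have h1 := up z zX hz.wit hne
    have h2 := up z' z'X hz'w (by rw [hcardM]; exact hne)
    obtain ⟨n, -, hnX, hnH, hnk⟩ := exists_normalising (Xle z zX) (pPart_isP h hD hDT hcD hcnc) hne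
    exact hnX ⟨(mem_C.1 (h1 hnH)).inv_right.mul_right (mem_C.1 (h2 hnH)), hnk⟩
  -- a conjugating element of `D` normalising `X`
  set X' := X.map (MulAut.conj g).toMonoidHom with hX'
  set W := (D ⊔ X) ⊓ centralizer ({z'} : Set G) with hW
  have XW : X ≤ W := le_inf le_sup_right (Xle z' z'X)
  have X'W : X' ≤ W := by
    rintro _ ⟨x, hx, rfl⟩
    refine ⟨?_, mem_C.2 ((Commute.conj_iff g).2 (Xc x hx z zX))⟩
    show g * x * g⁻¹ ∈ D ⊔ X
    rw [show g * x * g⁻¹ = g * x * g⁻¹ * x⁻¹ * x by group]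
    refine mul_mem_sup ?_ hx
    rw [show g * x * g⁻¹ * x⁻¹ = g * (x * g⁻¹ * x⁻¹) by group]
    exact D.mul_mem hg ((inferInstance : D.Normal).conj_mem _ (D.inv_mem hg) x)
  have cardW : Nat.card X = p ^ (Nat.card W).factorization p := by
    refine le_antisymm (Nat.le_of_dvd (pow_pos hp.pos _) ?_) ?_
    · rw [card]
      refine (Nat.pow_dvd_pow_iff_le_right hp.one_lt).2 ?_
      refine (hp.pow_dvd_iff_le_factorization Nat.card_pos.ne').1 ?_
      rw [← card]
      exact card_dvd_of_le XW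
    · rw [card, ← hcardM]
      exact Nat.pow_le_pow_right hp.pos ((Nat.factorization_le_iff_dvd Nat.card_pos.ne'
        Nat.card_pos.ne').2 (card_dvd_of_le inf_le_right) p)
  let P : Sylow p W := Sylow.ofCard (X.subgroupOf W)
    (by rw [Nat.card_congr (subgroupOfEquivOfLe XW).toEquiv, cardW])
  let Q : Sylow p W := Sylow.ofCard (X'.subgroupOf W)
    (by rw [Nat.card_congr (subgroupOfEquivOfLe X'W).toEquiv, ← cardW]
        exact card_map_of_injective (MulAut.conj g).injective)
  obtain ⟨w, hw⟩ := MulAction.exists_smul_eq W Q P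
  obtain ⟨x₀, hx₀, d, hd, hwd⟩ : ∃ x₀ ∈ X, ∃ d ∈ D, x₀ * d = (w : G) := by
    have hwm : (w : G) ∈ ((X ⊔ D : Subgroup G) : Set G) := by
      rw [sup_comm]; exact w.2.1
    rw [mul_normal] at hwm
    exact hwm
  have hdz' : Commute d z' := by
    rw [show d = x₀⁻¹ * (w : G) by rw [← hwd]; group]
    exact (Xc x₀ hx₀ z' z'X).inv_left.mul_left (mem_C.1 w.2.2)
  have hgz : (d * g) * z * (d * g)⁻¹ = z' := by
    calc (d * g) * z * (d * g)⁻¹ = d * z' * d⁻¹ := by rw [hz']; group
      _ = z' := by rw [hdz'.eq, mul_inv_cancel_right]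
  have hdg : d * g ∈ H := by
    have hmap : ∀ x ∈ X, (d * g) * x * (d * g)⁻¹ ∈ X := fun x hx => by
      have h1 : (⟨g * x * g⁻¹, X'W ⟨x, hx, rfl⟩⟩ : W) ∈ (Q : Subgroup W) := ⟨x, hx, rfl⟩
      have h2 : w * ⟨g * x * g⁻¹, X'W ⟨x, hx, rfl⟩⟩ * w⁻¹ ∈ (P : Subgroup W) := by
        rw [← hw]; exact ⟨_, h1, rfl⟩
      have h3 : (w : G) * (g * x * g⁻¹) * (w : G)⁻¹ ∈ X := h2
      rw [show (d * g) * x * (d * g)⁻¹ = x₀⁻¹ * ((w : G) * (g * x * g⁻¹) * (w : G)⁻¹) * x₀ by
        rw [← hwd]; group]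
      exact X.mul_mem (X.mul_mem (X.inv_mem hx₀) h3) hx₀
    have heq : X.map (MulAut.conj (d * g)).toMonoidHom = X := by
      refine eq_of_le_of_card_ge (fun y hy => ?_) ?_
      · obtain ⟨x, hx, rfl⟩ := hy; exact hmap x hx
      · exact (card_map_of_injective (MulAut.conj (d * g)).injective).ge
    refine mem_normalizer_iff.2 fun x => ⟨hmap x, fun hx => ?_⟩
    obtain ⟨b, hb, hb'⟩ := heq.symm ▸ hx
    rwa [← (MulAut.conj (d * g)).injective hb']
  refine ⟨c, d * g, X, ⟨hcD, hcnc, hcP, ?_, memX, zX, cX, card, D.mul_mem hd hg, hdg, hHne, ?_⟩⟩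
  · rw [hgz, hc]
  · intro y hy hyz
    by_contra hyc
    have hle := h.star hHne (le_normalizer zX) hy (le_normalizer cX) hyz (Xc c cX z zX) hyc
    have hzg := mem_C.1 (hle hdg)
    rw [hzg.eq, mul_inv_cancel_right] at hgz
    exact hcnc (by rw [hc, ← hgz, inv_mul_cancel]; exact one_mem _)

end Cfsg.Agent.MinNonCA
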