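import Cfsg.Agent.Lib.Solv.MinNonCA.OddAbelian
import Cfsg.Agent.Lib.Small.PSL2

/-!
The CA property for two-dimensional linear groups.
-/

set_option autoImplicit false

namespace Cfsg.Agent.MinNonCA

open Matrix Cfsg.Agent.Small

universe u

variable {F : Type u} [Field F]

local notation "SL2" => Matrix.SpecialLinearGroup (Fin 2) F
local notation "P2" => Matrix.ProjectiveSpecialLinearGroup (Fin 2) F

/-- Two-dimensional matrices commuting with a nonscalar matrix commute with each other. -/
theorem commute_of_nonscalar {A B C : Matrix (Fin 2) (Fin 2) F}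
    (hA : A 0 1 ≠ 0 ∨ A 1 0 ≠ 0 ∨ A 0 0 ≠ A 1 1) (hB : B * A = A * B) (hC : C * A = A * C) :
    B * C = C * B := by
  have b00 := congrFun (congrFun hB 0) 0
  have b01 := congrFun (congrFun hB 0) 1
  have b10 := congrFun (congrFun hB 1) 0
  have c00 := congrFun (congrFun hC 0) 0
  have c01 := congrFun (congrFun hC 0) 1
  have c10 := congrFun (congrFun hC 1) 0
  simp only [Matrix.mul_apply, Fin.sum_univ_two] at b00 b01 b10 c00 c01 c10
  have k1 : B 0 1 * C 1 0 = C 0 1 * B 1 0 ∧ B 0 1 * (C 1 1 - C 0 0) = C 0 1 * (B 1 1 - B 0 0) ∧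
      B 1 0 * (C 0 0 - C 1 1) = C 1 0 * (B 0 0 - B 1 1) := by
    rcases hA with h | h | h
    · refine ⟨mul_left_cancel₀ h ?_, mul_left_cancel₀ h ?_, mul_left_cancel₀ (pow_ne_zero 2 h) ?_⟩
      · linear_combination C 0 1 * b00 - B 0 1 * c00
      · linear_combination C 0 1 * b01 - B 0 1 * c01
      · linear_combination (A 0 1 * B 1 0) * c01 + (A 0 1 * (B 0 0 - B 1 1)) * c00
          - (C 0 1 * (A 0 0 - A 1 1)) * b00 - (C 0 1 * A 1 0) * b01
    · refine ⟨mul_left_cancel₀ h ?_, mul_left_cancel₀ (pow_ne_zero 2 h) ?_, mul_left_cancel₀ h ?_⟩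
      · linear_combination C 1 0 * b00 - B 1 0 * c00
      · linear_combination (A 1 0 * (B 0 0 - B 1 1)) * c00 + (A 1 0 * B 0 1) * c10
          - (C 1 0 * A 0 1) * b10 - (C 1 0 * (A 0 0 - A 1 1)) * b00
      · linear_combination C 1 0 * b10 - B 1 0 * c10
    · have h' : A 0 0 - A 1 1 ≠ 0 := sub_ne_zero.2 h
      refine ⟨mul_left_cancel₀ (pow_ne_zero 2 h') ?_, mul_left_cancel₀ h' ?_, mul_left_cancel₀ h' ?_⟩
      · linear_combination ((A 0 0 - A 1 1) * B 0 1) * c10 + ((A 0 0 - A 1 1) * B 1 0) * c01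
          - ((C 0 0 - C 1 1) * A 1 0) * b01 - ((C 0 0 - C 1 1) * A 0 1) * b10
      · linear_combination (C 0 0 - C 1 1) * b01 - (B 0 0 - B 1 1) * c01
      · linear_combination (C 0 0 - C 1 1) * b10 - (B 0 0 - B 1 1) * c10
  obtain ⟨k1, k2, k3⟩ := k1
  ext i j
  fin_cases i <;> fin_cases j <;> simp only [Matrix.mul_apply, Fin.sum_univ_two] <;>
    simp only [Fin.zero_eta, Fin.mk_one, Fin.isValue]
  · linear_combination k1
  · linear_combination k2
  · linear_combination k3
  · linear_combination -k1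

/-- The special linear group of degree two is a CA group. -/
theorem sl_isCA : IsCA SL2 := fun x hx a b ha hb => by
  have hA : x.1 0 1 ≠ 0 ∨ x.1 1 0 ≠ 0 ∨ x.1 0 0 ≠ x.1 1 1 := by
    by_contra hn
    push Not at hn
    refine hx (Matrix.SpecialLinearGroup.mem_center_iff.2 ⟨x.1 0 0, ?_, ?_⟩)
    · have := x.2
      rw [Matrix.det_fin_two, hn.1, hn.2.1, ← hn.2.2] at this
      rw [Fintype.card_fin, sq]; simpa using this
    · ext i j
      fin_cases i <;> fin_cases j <;> simp [Matrix.scalar, hn.1, hn.2.1, hn.2.2]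
  exact Subtype.ext (commute_of_nonscalar hA (congrArg Subtype.val ha.eq) (congrArg Subtype.val hb.eq))

/-- A nonabelian centraliser in the projective group of odd characteristic. -/
theorem psl_not_isCA [Fintype F] (h2 : (2 : F) ≠ 0) (h7 : 7 ≤ Fintype.card F) : ¬ IsCA P2 := by
  classical
  intro hca
  -- a parameter avoiding small roots
  obtain ⟨m, hm⟩ : ∃ m : F, m * (1 - m * m) * (1 + m * m) ≠ 0 := by
    by_contra hn
    push Not at hn
    obtain ⟨i, hi⟩ | hni := em (∃ i : F, i * i = -1)
    · have : (Finset.univ : Finset F) ⊆ {0, 1, -1, i, -i} := fun m _ => by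
        simp only [Finset.mem_insert, Finset.mem_singleton]
        rcases mul_eq_zero.1 (hn m) with h | h
        · rcases mul_eq_zero.1 h with h | h
          · exact Or.inl h
          · have : (m - 1) * (m + 1) = 0 := by linear_combination -h
            rcases mul_eq_zero.1 this with h | h
            · exact Or.inr (Or.inl (sub_eq_zero.1 h))
            · exact Or.inr (Or.inr (Or.inl (eq_neg_of_add_eq_zero_left h)))
        · have : (m - i) * (m + i) = 0 := by linear_combination h - hi
          rcases mul_eq_zero.1 this with h | h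
          · exact Or.inr (Or.inr (Or.inr (Or.inl (sub_eq_zero.1 h))))
          · exact Or.inr (Or.inr (Or.inr (Or.inr (eq_neg_of_add_eq_zero_left h))))
      have h := Finset.card_le_card this
      rw [Finset.card_univ] at h
      have h5 : ({0, 1, -1, i, -i} : Finset F).card ≤ 5 := by
        refine (Finset.card_insert_le _ _).trans (Nat.add_le_add_right ((Finset.card_insert_le _ _).trans
          (Nat.add_le_add_right ((Finset.card_insert_le _ _).trans (Nat.add_le_add_right
          ((Finset.card_insert_le _ _).trans (Nat.add_le_add_right (Finset.card_singleton _).le 1)) 1)) 1)) 1)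
      omega
    · push Not at hni
      have : (Finset.univ : Finset F) ⊆ {0, 1, -1} := fun m _ => by
        simp only [Finset.mem_insert, Finset.mem_singleton]
        rcases mul_eq_zero.1 (hn m) with h | h
        · rcases mul_eq_zero.1 h with h | h
          · exact Or.inl h
          · have : (m - 1) * (m + 1) = 0 := by linear_combination -h
            rcases mul_eq_zero.1 this with h | h
            · exact Or.inr (Or.inl (sub_eq_zero.1 h))
            · exact Or.inr (Or.inr (eq_neg_of_add_eq_zero_left h))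
        · exact absurd (by linear_combination h) (hni m)
      have h := Finset.card_le_card this
      rw [Finset.card_univ] at h
      have h3 : ({0, 1, -1} : Finset F).card ≤ 3 := Finset.card_le_three
      omega
  have hm0 : m ≠ 0 := fun h => hm (by rw [h]; ring)
  have hm1 : 1 - m * m ≠ 0 := fun h => hm (by rw [h]; ring)
  have hm2 : 1 + m * m ≠ 0 := fun h => hm (by rw [h]; ring)
  set a := (1 - m * m) / (1 + m * m) with ha
  set b := 2 * m / (1 + m * m) with hb
  have hab : a * a + b * b = 1 := by rw [ha, hb, div_mul_div_comm, div_mul_div_comm, ← add_div, div_eq_one_iff_eq (mul_ne_zero hm2 hm2)]; ring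
  have ha0 : a ≠ 0 := div_ne_zero hm1 hm2
  have hb0 : b ≠ 0 := div_ne_zero (mul_ne_zero h2 hm0) hm2
  obtain ⟨p, hp⟩ := CharP.exists F
  haveI : Fact p.Prime := ⟨CharP.char_is_prime F p⟩
  obtain ⟨c₀, d₀, hcd⟩ := ZMod.sq_add_sq p (-1)
  set φ := ZMod.castHom (dvd_refl p) F
  have hcd' : φ c₀ * φ c₀ + φ d₀ * φ d₀ = -1 := by
    rw [← map_mul, ← map_mul, ← map_add, ← sq, ← sq, hcd, map_neg, map_one]
  set c := φ c₀
  set d := φ d₀
  let r : SL2 := ⟨!![a, b; -b, a], by simp [Matrix.det_fin_two]; linear_combination hab⟩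
  let s : SL2 := ⟨!![c, d; d, -c], by simp [Matrix.det_fin_two]; linear_combination -hcd'⟩
  have hnc : PSL2.pr (PSL2.wS : SL2) ∉ Subgroup.center P2 := fun h => by
    have h := Subgroup.mem_center_iff.1 h (PSL2.pr (PSL2.uS (1 : F)))
    rw [← map_mul, ← map_mul, PSL2.pr_eq_iff] at h
    obtain ⟨ε, -, h⟩ := h
    rw [Matrix.SpecialLinearGroup.coe_mul, Matrix.SpecialLinearGroup.coe_mul] at h
    have e1 := congrFun (congrFun h 0) 0
    simp [PSL2.uS, PSL2.wS, Matrix.mul_apply] at e1
  have hr : Commute (PSL2.pr r) (PSL2.pr PSL2.wS) := by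
    show _ * _ = _ * _
    rw [← map_mul, ← map_mul, PSL2.pr_eq_iff]
    refine ⟨1, one_mul 1, ?_⟩
    rw [Matrix.SpecialLinearGroup.coe_mul, Matrix.SpecialLinearGroup.coe_mul]
    ext i j
    fin_cases i <;> fin_cases j <;> simp [r, PSL2.wS, Matrix.SpecialLinearGroup.coe_mul, Matrix.mul_apply, Fin.sum_univ_two]
  have hs : Commute (PSL2.pr s) (PSL2.pr PSL2.wS) := by
    show _ * _ = _ * _
    rw [← map_mul, ← map_mul, PSL2.pr_eq_iff]
    refine ⟨-1, by ring, ?_⟩
    rw [Matrix.SpecialLinearGroup.coe_mul, Matrix.SpecialLinearGroup.coe_mul]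
    ext i j
    fin_cases i <;> fin_cases j <;> simp [s, PSL2.wS, Matrix.SpecialLinearGroup.coe_mul, Matrix.mul_apply, Fin.sum_univ_two]
  have h := (hca _ hnc _ _ hr hs).eq
  rw [← map_mul, ← map_mul, PSL2.pr_eq_iff] at h
  obtain ⟨ε, hε, h⟩ := h
  rw [Matrix.SpecialLinearGroup.coe_mul, Matrix.SpecialLinearGroup.coe_mul] at h
  have e00 := congrFun (congrFun h 0) 0
  have e01 := congrFun (congrFun h 0) 1
  simp [r, s, Matrix.SpecialLinearGroup.coe_mul, Matrix.mul_apply, Fin.sum_univ_two] at e00 e01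
  have hεc : ε = 1 ∨ ε = -1 := by
    have : (ε - 1) * (ε + 1) = 0 := by linear_combination hε
    rcases mul_eq_zero.1 this with h | h
    · exact Or.inl (sub_eq_zero.1 h)
    · exact Or.inr (eq_neg_of_add_eq_zero_left h)
  rcases hεc with rfl | rfl
  · have z1 : (2 * b) * d = 0 := by linear_combination e00
    have z2 : (2 * b) * c = 0 := by linear_combination -e01
    rcases mul_eq_zero.1 z1 with h | hd
    · exact hb0 ((mul_eq_zero.1 h).resolve_left h2)
    rcases mul_eq_zero.1 z2 with h | hc
    · exact hb0 ((mul_eq_zero.1 h).resolve_left h2)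
    rw [hd, hc] at hcd'; simp at hcd'
  · have z1 : (2 * a) * c = 0 := by linear_combination e00
    have z2 : (2 * a) * d = 0 := by linear_combination e01
    rcases mul_eq_zero.1 z1 with h | hc
    · exact ha0 ((mul_eq_zero.1 h).resolve_left h2)
    rcases mul_eq_zero.1 z2 with h | hd
    · exact ha0 ((mul_eq_zero.1 h).resolve_left h2)
    rw [hd, hc] at hcd'; simp at hcd'

end Cfsg.Agent.MinNonCA
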