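import Cfsg.Agent.Lib.Solv.MinNonCA.Outside
import Cfsg.Agent.S0215

/-!
Quasisimple groups whose proper subgroups are CA: the centre of a Sylow two-subgroup.
-/

set_option autoImplicit false

open scoped Pointwise commutatorElement

namespace Cfsg.Agent.MinNonCA

open Subgroup

variable {X : Type*} [Group X]

/-- Quasisimple, with all proper subgroups CA. -/
structure QS (X : Type*) [Group X] : Prop where
  sub_ca : ∀ H : Subgroup X, H ≠ ⊤ → IsCA H
  simple : IsSimpleGroup (X ⧸ center X)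
  perfect : commutator X = ⊤
  nsol : ¬ Group.IsSolvable X

theorem QS.ca_on (h : QS X) {H : Subgroup X} (hH : H ≠ ⊤) {x : X} (hx : x ∈ H) {y : X} (hy : y ∈ H)
    (hxy : ¬ Commute x y) {a b : X} (ha : a ∈ H) (hb : b ∈ H) (hax : Commute a x) (hbx : Commute b x) :
    Commute a b := by
  have hxc : (⟨x, hx⟩ : H) ∉ center H := fun hc =>
    hxy (congrArg Subtype.val (mem_center_iff.1 hc ⟨y, hy⟩)).symm
  exact congrArg Subtype.val (h.sub_ca H hH ⟨x, hx⟩ hxc ⟨a, ha⟩ ⟨b, hb⟩
    (Subtype.ext hax.eq) (Subtype.ext hbx.eq)).eq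

theorem QS.star (h : QS X) {H : Subgroup X} (hH : H ≠ ⊤) {z : X} (hz : z ∈ H) {a b : X} (ha : a ∈ H)
    (hb : b ∈ H) (haz : Commute a z) (hbz : Commute b z) (hab : ¬ Commute a b) {y : X} (hy : y ∈ H) :
    Commute y z := by
  by_contra hyz
  exact hab (h.ca_on hH hz hy (fun c => hyz c.symm) ha hb haz hbz)

theorem QS.center_ne_top (h : QS X) : center X ≠ ⊤ := fun ht =>
  h.nsol (isSolvable_of_comm fun a b => (mem_center_iff.1 (ht ▸ mem_top b)) a)

theorem QS.normal_cases (h : QS X) (N : Subgroup X) [N.Normal] : N ≤ center X ∨ N = ⊤ := by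
  haveI := h.simple
  rcases (Subgroup.Normal.map (inferInstance : N.Normal) (QuotientGroup.mk' (center X))
    (QuotientGroup.mk'_surjective _)).eq_bot_or_eq_top with hb | ht
  · exact Or.inl (by rwa [Subgroup.map_eq_bot_iff, QuotientGroup.ker_mk'] at hb)
  · right
    rw [eq_top_iff, ← h.perfect, commutator_def, commutator_le]
    intro a _ b _
    obtain ⟨n₁, hn₁, e₁⟩ := ht ▸ mem_top (QuotientGroup.mk' (center X) a)
    obtain ⟨n₂, hn₂, e₂⟩ := ht ▸ mem_top (QuotientGroup.mk' (center X) b)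
    obtain ⟨u, hu, rfl⟩ : ∃ u ∈ center X, n₁ * u = a := ⟨n₁⁻¹ * a, QuotientGroup.eq.1 e₁, by group⟩
    obtain ⟨v, hv, rfl⟩ : ∃ v ∈ center X, n₂ * v = b := ⟨n₂⁻¹ * b, QuotientGroup.eq.1 e₂, by group⟩
    have cu := mem_center_iff.1 hu
    have cv := mem_center_iff.1 hv
    have e : ⁅n₁ * u, n₂ * v⁆ = ⁅n₁, n₂⁆ := by
      simp only [commutatorElement_def, mul_inv_rev]
      calc n₁ * u * (n₂ * v) * (u⁻¹ * n₁⁻¹) * (v⁻¹ * n₂⁻¹)
          = n₁ * (u * (n₂ * v)) * (u⁻¹ * n₁⁻¹) * (v⁻¹ * n₂⁻¹) := by group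
        _ = n₁ * n₂ * (v * n₁⁻¹) * (v⁻¹ * n₂⁻¹) := by rw [← cu (n₂ * v)]; group
        _ = n₁ * n₂ * (n₁⁻¹ * v) * (v⁻¹ * n₂⁻¹) := by rw [cv n₁⁻¹]
        _ = _ := by group
    rw [e, commutatorElement_def]
    exact N.mul_mem (N.mul_mem (N.mul_mem hn₁ hn₂) (N.inv_mem hn₁)) (N.inv_mem hn₂)

theorem QS.normalizer_ne_top (h : QS X) {Q : Subgroup X} (hQ : Group.IsSolvable Q) {x : X} (hx : x ∈ Q)
    (hxc : x ∉ center X) : normalizer (Q : Set X) ≠ ⊤ := fun ht => by
  haveI : Q.Normal := normalizer_eq_top_iff.1 ht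
  rcases h.normal_cases Q with h1 | h1
  · exact hxc (h1 hx)
  · exact h.nsol (sv_iff_top.1 (h1 ▸ hQ))

variable [Finite X]

theorem QS.not_comm (h : QS X) : ¬ ∀ a b : X ⧸ center X, a * b = b * a := fun hc => by
  apply h.nsol
  haveI : Group.IsSolvable (X ⧸ center X) := isSolvable_of_comm hc
  haveI : Group.IsSolvable (center X) := sv_of_comm fun a ha b _ => ((mem_center_iff.1 ha) b).symm
  exact solvable_of_ker_le_range (center X).subtype (QuotientGroup.mk' (center X))
    (by rw [QuotientGroup.ker_mk', range_subtype])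

theorem QS.center_quotient (h : QS X) : center (X ⧸ center X) = ⊥ := by
  haveI := h.simple
  exact (inferInstance : (center (X ⧸ center X)).Normal).eq_bot_or_eq_top.resolve_right fun ht =>
    h.not_comm fun a b => (mem_center_iff.1 (ht ▸ mem_top b)) a

omit [Finite X] in
/-- Powers of a `2`-power torsion element. -/
theorem zpowers_isTwo {x : X} {k : ℕ} (hk : x ^ 2 ^ k = 1) : IsPGroup 2 (zpowers x) := fun ⟨y, hy⟩ => by
  obtain ⟨i, rfl⟩ := mem_zpowers_iff.1 hy
  refine ⟨k, Subtype.ext ?_⟩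
  show (x ^ i) ^ 2 ^ k = 1
  rw [← zpow_natCast, ← zpow_mul, mul_comm, zpow_mul, zpow_natCast, hk, one_zpow]

omit [Finite X] in
theorem sylow_mem_two (S : Sylow 2 X) {x : X} (hx : x ∈ (S : Subgroup X)) : ∃ k, x ^ 2 ^ k = 1 := by
  obtain ⟨k, hk⟩ := S.2 ⟨x, hx⟩
  exact ⟨k, congrArg Subtype.val hk⟩

/-- A two-element whose image lies in the image of a Sylow two-subgroup lies in that subgroup. -/
theorem mem_of_image_mem (S : Sylow 2 X) {x : X} (hx : ∃ k, x ^ 2 ^ k = 1)
    (hm : QuotientGroup.mk' (center X) x ∈ (S : Subgroup X).map (QuotientGroup.mk' (center X))) :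
    x ∈ (S : Subgroup X) := by
  obtain ⟨s, hs, e⟩ := hm
  have hζ : s⁻¹ * x ∈ center X := QuotientGroup.eq.1 e
  obtain ⟨k, hk⟩ := hx
  obtain ⟨j, hj⟩ := sylow_mem_two S hs
  have hcm : Commute s⁻¹ x := by
    have h1 := mem_center_iff.1 hζ s⁻¹
    show s⁻¹ * x = x * s⁻¹
    calc s⁻¹ * x = s * (s⁻¹ * (s⁻¹ * x)) := by group
      _ = s * ((s⁻¹ * x) * s⁻¹) := by rw [h1]
      _ = x * s⁻¹ := by group
  have hζ2 : (s⁻¹ * x) ^ 2 ^ (j + k) = 1 := by
    rw [hcm.mul_pow, inv_pow, pow_add, pow_mul, hj, one_pow, inv_one, one_mul, mul_comm, pow_mul, hk, one_pow]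
  have hle : zpowers (s⁻¹ * x) ≤ normalizer ((S : Subgroup X) : Set X) :=
    (zpowers_le.2 hζ).trans (center_le_normalizer _)
  have hsup := IsPGroup.to_sup_of_normal_left' S.2 (zpowers_isTwo hζ2) hle
  have : s⁻¹ * x ∈ (S : Subgroup X) := (S.3 hsup le_sup_left) ▸ mem_sup_right (mem_zpowers _)
  simpa using (S : Subgroup X).mul_mem hs this

/-- A noncentral involution modulo the centre is not weakly closed in a Sylow two-subgroup. -/
theorem QS.false_of_weakly_closed (h : QS X) (S : Sylow 2 X) {t : X} (ht : t ∈ (S : Subgroup X))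
    (ht2 : t * t ∈ center X) (htc : t ∉ center X)
    (hw : ∀ g : X, g * t * g⁻¹ ∈ (S : Subgroup X) → g * t * g⁻¹ = t) : False := by
  haveI := h.simple
  set π := QuotientGroup.mk' (center X)
  have ho : orderOf (π t) = 2 := by
    have := Fact.mk Nat.prime_two
    refine orderOf_eq_prime ?_ fun e => htc ((QuotientGroup.eq_one_iff t).1 e)
    rw [sq, ← map_mul]; exact (QuotientGroup.eq_one_iff _).2 ht2
  let P : Sylow 2 (X ⧸ center X) := S.mapSurjective (f := π) (QuotientGroup.mk'_surjective _)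
  obtain ⟨N, hN, hodd, hcomm⟩ := S0215.result P (π t) ho ⟨t, ht, rfl⟩ (by
    intro g hg
    obtain ⟨g, rfl⟩ := QuotientGroup.mk'_surjective (center X) g
    obtain ⟨k, hk⟩ := sylow_mem_two S ht
    rw [← map_inv, ← map_mul, ← map_mul] at hg ⊢
    rw [hw g (mem_of_image_mem S ⟨k, by rw [conj_pow, hk]; group⟩ hg)])
  haveI := hN
  rcases hN.eq_bot_or_eq_top with h1 | h1
  · have hc : π t ∈ center (X ⧸ center X) := mem_center_iff.2 fun g => by
      have := hcomm g
      rw [h1, mem_bot] at this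
      exact (mul_inv_eq_iff_eq_mul.1 (mul_inv_eq_one.1 this)).symm
    rw [h.center_quotient, mem_bot] at hc
    exact htc ((QuotientGroup.eq_one_iff t).1 hc)
  · rw [h1, Nat.card_congr topEquiv.toEquiv] at hodd
    have := orderOf_dvd_natCard (π t)
    rw [ho] at this
    exact (Nat.not_even_iff_odd.2 hodd) (even_iff_two_dvd.2 this)

/-- If a Sylow two-subgroup is nonabelian then its centre is central. -/
theorem QS.center_sylow (h : QS X) (S : Sylow 2 X)
    (hS : ∃ a ∈ (S : Subgroup X), ∃ b ∈ (S : Subgroup X), ¬ Commute a b) {z : X} (hz : z ∈ (S : Subgroup X))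
    (hzS : ∀ s ∈ (S : Subgroup X), Commute s z) : z ∈ center X := by
  obtain ⟨i, hi⟩ := sylow_mem_two S hz
  induction i generalizing z with
  | zero => rw [pow_zero, pow_one] at hi; exact hi ▸ one_mem _
  | succ i ih =>
    have hz2 : z * z ∈ center X := ih (mul_mem hz hz) (fun s hs => (hzS s hs).mul_right (hzS s hs))
      (by rw [← sq, ← pow_mul, ← pow_succ']; exact hi)
    by_contra hzc
    obtain ⟨a, ha, b, hb, hab⟩ := hS
    refine h.false_of_weakly_closed S hz hz2 hzc fun g hg => ?_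
    set z' := g * z * g⁻¹ with hz'
    have hz'c : z' ∉ center X := fun hc => hzc (by
      simpa [hz', mul_assoc] using (inferInstance : (center X).Normal).conj_mem _ hc g⁻¹)
    by_cases hz'S : ∀ s ∈ (S : Subgroup X), Commute s z'
    · obtain ⟨n, hn, e⟩ := S.conj_eq_normalizer_conj_of_mem_centralizer z g⁻¹
        (mem_centralizer_iff.2 fun s hs => hzS s hs)
        (mem_centralizer_iff.2 fun s hs => by rw [inv_inv]; exact hz'S s hs)
      have hH : normalizer ((S : Subgroup X) : Set X) ≠ ⊤ := h.normalizer_ne_top (sv_of_twoGroup S.2) hz hzc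
      have := h.star hH (le_normalizer hz) (le_normalizer ha) (le_normalizer hb) (hzS a ha) (hzS b hb) hab hn
      rw [inv_inv] at e
      rw [hz', e, mul_assoc, ← this.eq, inv_mul_cancel_left]
    exfalso
    push Not at hz'S
    obtain ⟨s₀, hs₀, hs₀z⟩ := hz'S
    set M := centralizer ({z} : Set X) with hM
    have hMne : M ≠ ⊤ := fun e => hzc (C_eq_top e)
    have SM : ∀ s ∈ (S : Subgroup X), s ∈ M := fun s hs => mem_C.2 (hzS s hs)
    have Kc : ∀ u v : X, Commute u z → Commute u z' → Commute v z → Commute v z' → Commute u v :=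
      fun u v hu hu' hv hv' => h.ca_on hMne (SM _ hg) (SM _ hs₀) (fun c => hs₀z c.symm)
        (mem_C.2 hu) (mem_C.2 hv) hu' hv'
    let Q : Subgroup X :=
      { carrier := {x | Commute x z ∧ Commute x z' ∧ ∃ k, x ^ 2 ^ k = 1}
        mul_mem' := fun {u v} hu hv => ⟨hu.1.mul_left hv.1, hu.2.1.mul_left hv.2.1, by
          obtain ⟨k, hk⟩ := hu.2.2; obtain ⟨j, hj⟩ := hv.2.2
          exact ⟨k + j, by rw [(Kc u v hu.1 hu.2.1 hv.1 hv.2.1).mul_pow, pow_add, pow_mul, hk, one_pow,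
            one_mul, mul_comm, pow_mul, hj, one_pow]⟩⟩
        one_mem' := ⟨Commute.one_left _, Commute.one_left _, 0, by simp⟩
        inv_mem' := fun {u} hu => ⟨hu.1.inv_left, hu.2.1.inv_left, by
          obtain ⟨k, hk⟩ := hu.2.2; exact ⟨k, by rw [inv_pow, hk, inv_one]⟩⟩ }
    have hQ2 : IsPGroup 2 Q := fun ⟨x, _, _, k, hk⟩ => ⟨k, Subtype.ext hk⟩
    have hQcomm : ∀ u ∈ Q, ∀ v ∈ Q, Commute u v := fun u hu v hv => Kc u v hu.1 hu.2.1 hv.1 hv.2.1
    have hzz' : Commute z' z := hzS z' hg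
    have zQ : z ∈ Q := ⟨Commute.refl z, hzz'.symm, i + 1, hi⟩
    have z'Q : z' ∈ Q := ⟨hzz', Commute.refl z', i + 1, by rw [hz', conj_pow, hi]; group⟩
    have hsize : ∀ W : Subgroup X, (∀ s ∈ (S : Subgroup X), g * s * g⁻¹ ∈ W) ∨ (∀ s ∈ (S : Subgroup X), s ∈ W) →
        Nat.card Q ≠ 2 ^ (Nat.card W).factorization 2 := fun W hW hQc => by
      have hle : Nat.card S ≤ Nat.card Q := by
        rw [hQc]
        have hdvd : Nat.card S ∣ Nat.card W := by
          rcases hW with hW | hW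
          · refine dvd_trans ?_ (card_dvd_of_le (H := (S : Subgroup X).map (MulAut.conj g).toMonoidHom)
              (fun x hx => by obtain ⟨s, hs, rfl⟩ := hx; exact hW s hs))
            rw [card_map_of_injective (MulAut.conj g).injective]
          · exact card_dvd_of_le hW
        rw [S.card_eq_multiplicity] at hdvd ⊢
        exact Nat.pow_le_pow_right two_pos ((Nat.prime_two.pow_dvd_iff_le_factorization Nat.card_pos.ne').1 hdvd)
      obtain ⟨P, hP⟩ := hQ2.exists_le_sylow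
      obtain ⟨k, hk⟩ := MulAction.exists_smul_eq X P S
      have hPQ : (P : Subgroup X) = Q := (eq_of_le_of_card_ge hP (by
        rw [P.card_eq_multiplicity]; exact S.card_eq_multiplicity ▸ hle)).symm
      refine hab ?_
      rw [← hk] at ha hb
      obtain ⟨a', ha', rfl⟩ := ha
      obtain ⟨b', hb', rfl⟩ := hb
      exact (Commute.conj_iff k).2 (hQcomm a' (hPQ ▸ ha') b' (hPQ ▸ hb'))
    have Qp : ∀ x ∈ Q, Commute x z ∧ Commute x z' := fun x hx => ⟨hx.1, hx.2.1⟩
    have Qle : ∀ x ∈ Q, x ∈ M := fun x hx => mem_C.2 (Qp x hx).1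
    obtain ⟨n, hnW, hnQ, hnN, k, hk⟩ := exists_normalising (W := centralizer ({z'} : Set X))
      (fun x hx => mem_C.2 (Qp x hx).2) hQ2 (hsize _ (Or.inl fun s hs => mem_C.2 ((Commute.conj_iff g).2 (hzS s hs))))
    obtain ⟨n', hn'W, hn'Q, hn'N, k', hk'⟩ := exists_normalising (W := M) Qle hQ2 (hsize _ (Or.inr SM))
    have hH : normalizer (Q : Set X) ≠ ⊤ := h.normalizer_ne_top (sv_of_comm hQcomm) zQ hzc
    exact hnQ ⟨h.star hH (le_normalizer zQ) hn'N (le_normalizer z'Q) (mem_C.1 hn'W) hzz'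
      (fun c => hn'Q ⟨mem_C.1 hn'W, c, k', hk'⟩) hnN, mem_C.1 hnW, k, hk⟩

end Cfsg.Agent.MinNonCA
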