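import Cfsg.Agent.Lib.Solv.MinNonCA.Local

/-!
A minimal nonsolvable normal subgroup in the local configuration is quasisimple.
-/

set_option autoImplicit false

open scoped Pointwise commutatorElement

namespace Cfsg.Agent.MinNonCA

open Subgroup

variable {G : Type*} [Group G] [Finite G] (h : Hyp G) {D : Subgroup G} [D.Normal]
  (hD : ¬ Group.IsSolvable D) (hDT : D ≠ ⊤) {p : ℕ} [Fact p.Prime] {z c g : G} {X : Subgroup G}
  (hL : Loc (D := D) (p := p) z c g X) (hz : PWit p z)
include h hD hDT hL hz

/-- A witness centralises no noncentral solvable normal subgroup of `D`. -/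
theorem Loc.not_centralize_normal {R : Subgroup G} [R.Normal] (hRD : R ≤ D)
    (hR : ¬ R ≤ center G) : ¬ ∀ x ∈ R, Commute z x := fun hzR => by
  obtain ⟨x₀, hx₀, hx₀c⟩ := SetLike.not_le_iff_exists.1 hR
  by_cases hab : ∀ a ∈ R, ∀ b ∈ R, Commute a b
  · haveI : (centralizer (R : Set G)).Normal := Subgroup.normal_centralizer
    exact h.abelian_normal_false hD hDT Fact.out hz (Y := centralizer (R : Set G))
      (fun a ha b hb => h.abelian_centralizer hD hDT (hRD hx₀) hx₀c
        (mem_centralizer_iff.1 ha x₀ hx₀).symm (mem_centralizer_iff.1 hb x₀ hx₀).symm)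
      (mem_centralizer_iff.2 fun x hx => (hzR x hx).symm)
      fun x hx hxc d _ hdx hzx => h.abelian_centralizer hD hDT hx hxc hdx hzx
  push Not at hab
  obtain ⟨a, ha, b, hb, hab⟩ := hab
  refine h.not_centralize hD hz.wit fun d hd => mem_C.2 (h.mem_of_central_move hz.wit ?_)
  by_contra hcc
  have hcR : ∀ x ∈ R, Commute x (z⁻¹ * (d * z * d⁻¹)) := fun x hx => by
    have h1 : Commute x z := (hzR x hx).symm
    have h2 : Commute (d⁻¹ * x * d) z :=
      (hzR _ (by simpa using (inferInstance : R.Normal).conj_mem x hx d⁻¹)).symm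
    have h3 := (Commute.conj_iff d).2 h2
    rw [show d * (d⁻¹ * x * d) * d⁻¹ = x by group] at h3
    exact h1.inv_right.mul_right h3
  exact hab (h.abelian_centralizer hD hDT (h.shift_mem hD z hd) hcc (hcR a ha) (hcR b hb))

omit hz in
/-- An element acting coprimely on a class two `r`-subgroup of `D` with a fixed point centralises it. -/
theorem Loc.coprime_centralize {r : ℕ} (hr : r.Prime) {R : Subgroup G} [R.Normal] (hRD : R ≤ D)
    (hRr : IsPGroup r R) (hR2 : ∀ a ∈ R, ∀ b ∈ R, ⁅a, b⁆ ∈ center G) {w x : G} (hwr : ¬ r ∣ orderOf w)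
    (hx : x ∈ R) (hxc : x ∉ center G) (hwx : x⁻¹ * (w * x * w⁻¹) ∈ center G) :
    ∀ y ∈ R, Commute w y := by
  have _ := hL
  have key : ∀ y ∈ R, Commute w (y⁻¹ * (w * y * w⁻¹)) → Commute w y := fun y hy hc => by
    set u := y⁻¹ * (w * y * w⁻¹) with hu
    have e : ∀ n : ℕ, w ^ n * y * (w ^ n)⁻¹ = y * u ^ n := fun n => by
      induction n with
      | zero => simp
      | succ n ih =>
        have hcn : w * u ^ n * w⁻¹ = u ^ n := by rw [(hc.pow_right n).eq, mul_inv_cancel_right]
        calc w ^ (n + 1) * y * (w ^ (n + 1))⁻¹ = w * (w ^ n * y * (w ^ n)⁻¹) * w⁻¹ := by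
              rw [pow_succ']; group
          _ = w * (y * u ^ n) * w⁻¹ := by rw [ih]
          _ = (w * y * w⁻¹) * (w * u ^ n * w⁻¹) := by group
          _ = (y * u) * u ^ n := by rw [hcn, hu]; group
          _ = y * u ^ (n + 1) := by rw [pow_succ', mul_assoc]
    have h1 : u ^ orderOf w = 1 := by
      have := e (orderOf w)
      rw [pow_orderOf_eq_one, one_mul, inv_one, mul_one] at this
      exact mul_eq_left.1 this.symm
    obtain ⟨k, hk⟩ := hRr ⟨u, R.mul_mem (R.inv_mem hy) ((inferInstance : R.Normal).conj_mem y hy w)⟩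
    have h2 : u ^ r ^ k = 1 := congrArg Subtype.val hk
    have h3 : u = 1 := (pow_eq_one_iff_of_coprime
      (((hr.coprime_iff_not_dvd.2 hwr).pow_left k).symm)).1 ⟨h1, h2⟩
    exact mul_inv_eq_iff_eq_mul.1 (by rwa [hu, inv_mul_eq_one, eq_comm] at h3)
  have hwx' : Commute w x := key x hx (mem_center_iff.1 hwx w)
  intro y hy
  refine key y hy (h.abelian_centralizer hD hDT (hRD hx) hxc hwx' ?_)
  set y' := w * y * w⁻¹ with hy'
  set η := ⁅x, y⁆ with hη
  have hηc := mem_center_iff.1 (hR2 x hx y hy)
  have e1 : x * y = η * y * x := by rw [hη, commutatorElement_def]; group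
  have e2 : x * y' = η * y' * x := by
    calc x * y' = w * (x * y) * w⁻¹ := by
          rw [hy']
          calc x * (w * y * w⁻¹) = (x * w) * y * w⁻¹ := by group
            _ = (w * x) * y * w⁻¹ := by rw [hwx'.eq]
            _ = _ := by group
      _ = w * (η * y * x) * w⁻¹ := by rw [e1]
      _ = (w * η) * y * x * w⁻¹ := by group
      _ = (η * w) * y * x * w⁻¹ := by rw [hηc w]
      _ = η * w * y * (x * w⁻¹) := by group
      _ = η * w * y * (w⁻¹ * x) := by rw [hwx'.inv_left.symm.eq]
      _ = η * y' * x := by rw [hy']; group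
  show y⁻¹ * y' * x = x * (y⁻¹ * y')
  have e3 : x * y⁻¹ = y⁻¹ * η⁻¹ * x := by
    calc x * y⁻¹ = y⁻¹ * η⁻¹ * (η * y * x) * y⁻¹ := by group
      _ = y⁻¹ * η⁻¹ * (x * y) * y⁻¹ := by rw [e1]
      _ = y⁻¹ * η⁻¹ * x := by group
  rw [← mul_assoc x, e3]
  calc y⁻¹ * y' * x = y⁻¹ * η⁻¹ * (η * y' * x) := by group
    _ = y⁻¹ * η⁻¹ * (x * y') := by rw [e2]
    _ = _ := by group

omit hz in
/-- A noncentral element of `X` in `D` centralising a normal subgroup makes the witness centralise it. -/
theorem Loc.centralize_of_mem {R : Subgroup G} {a : G} (ha : a ∈ X) (haD : a ∈ D) (hac : a ∉ center G)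
    (haR : ∀ y ∈ R, Commute a y) : ∀ y ∈ R, Commute z y := fun y hy =>
  h.abelian_centralizer hD hDT haD hac
    (hL.comm h hD hDT (hL.commX h hD hDT hL.zX) (hL.commX h hD hDT ha)) (haR y hy).symm

omit hL in
/-- A witness fixing a point of a `p`-subgroup of `D` modulo the centre fixes a noncentral element. -/
theorem Loc.fixed_point {R : Subgroup G} [R.Normal] (hRD : R ≤ D) (hRp : IsPGroup p R)
    (hR : ¬ R ≤ center G) : ∃ x ∈ R, x ∉ center G ∧ Commute x z := by
  have _ := hDT
  have _ := hRD
  obtain ⟨x₀, hx₀, hx₀c⟩ := SetLike.not_le_iff_exists.1 hR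
  set π := QuotientGroup.mk' (center G) with hπ
  have hZp : IsPGroup p (zpowers z) := fun ⟨x, hx⟩ => by
    obtain ⟨i, rfl⟩ := mem_zpowers_iff.1 hx
    obtain ⟨k, hk⟩ := hz.isP
    refine ⟨k, Subtype.ext ?_⟩
    show (z ^ i) ^ p ^ k = 1
    rw [← zpow_natCast, ← zpow_mul, mul_comm, zpow_mul, zpow_natCast, hk, one_zpow]
  have hRK : IsPGroup p ↥((R ⊔ zpowers z).map π) := (IsPGroup.to_sup_of_normal_left hRp hZp).map π
  haveI : (R.map π).Normal := Subgroup.Normal.map inferInstance π (QuotientGroup.mk'_surjective _)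
  have hA : (R.map π).subgroupOf ((R ⊔ zpowers z).map π) ≠ ⊥ := fun hb => by
    have hm : π x₀ ∈ R.map π := mem_map_of_mem π hx₀
    have : (⟨π x₀, map_mono le_sup_left hm⟩ : ↥((R ⊔ zpowers z).map π)) ∈
      (R.map π).subgroupOf ((R ⊔ zpowers z).map π) := hm
    rw [hb, mem_bot] at this
    exact hx₀c ((QuotientGroup.eq_one_iff _).1 (congrArg Subtype.val this))
  obtain ⟨⟨⟨_, hxR⟩, hx, hxc⟩, hx1⟩ :=
    (Subgroup.ne_bot_iff_exists_ne_one).1 (Small.normal_meets_center hRK inferInstance hA)
  obtain ⟨x, hxmem, rfl⟩ := mem_subgroupOf.1 hx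
  have hcomm : π z * π x = π x * π z :=
    congrArg Subtype.val (mem_center_iff.1 hxc ⟨π z, mem_map_of_mem π (mem_sup_right (mem_zpowers z))⟩)
  refine ⟨x, hxmem, fun hc => hx1 (Subtype.ext (Subtype.ext ((QuotientGroup.eq_one_iff _).2 hc))), ?_⟩
  refine h.mem_of_central_move hz.wit ((QuotientGroup.eq_one_iff _).1 ?_)
  show π (z⁻¹ * (x * z * x⁻¹)) = 1
  simp only [map_mul, map_inv, ← hcomm]; group

/-- Normal solvable subgroups inside `D` are central. -/
theorem Loc.solvable_central : ∀ (n : ℕ) (R : Subgroup G), R.Normal → R ≤ D → Group.IsSolvable R →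
    Nat.card R = n → R ≤ center G := by
  intro n
  induction n using Nat.strong_induction_on with
  | _ n ih =>
    intro R hRn hRD hRs hn
    by_contra hR
    obtain ⟨x₀, hx₀, hx₀c⟩ := SetLike.not_le_iff_exists.1 hR
    have small : ∀ S : Subgroup G, S.Normal → S ≤ R → S ≠ R → S ≤ center G := fun S hSn hSR hne =>
      ih _ (hn ▸ lt_of_le_of_ne (Nat.le_of_dvd Nat.card_pos (card_dvd_of_le hSR))
        fun e => hne (eq_of_le_of_card_ge hSR (by rw [e]))) S hSn (hSR.trans hRD) (sv_mono hSR hRs) rfl
    have hR2 : ∀ a ∈ R, ∀ b ∈ R, ⁅a, b⁆ ∈ center G := by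
      have hne : ⁅R, R⁆ ≠ R := fun he => by
        haveI := hRs
        haveI : Nontrivial R := (nontrivial_iff_ne_bot R).2 fun hb => hR (hb ▸ bot_le)
        refine (IsSolvable.commutator_lt_top_of_nontrivial (G := R)).ne ?_
        apply map_injective R.subtype_injective
        rw [map_subtype_commutator, he, ← MonoidHom.range_eq_map, range_subtype]
      intro a ha b hb
      exact small _ (Subgroup.commutator_normal R R) (Subgroup.commutator_le_right R R) hne
        (commutator_mem_commutator ha hb)
    set π := QuotientGroup.mk' (center G) with hπ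
    have hnil : Group.IsNilpotent R := by
      letI : CommGroup (π.comp R.subtype).range :=
        { (inferInstance : Group (π.comp R.subtype).range) with
          mul_comm := by
            rintro ⟨_, a, rfl⟩ ⟨_, b, rfl⟩
            refine Subtype.ext (commutatorElement_eq_one_iff_mul_comm.1 ?_)
            rw [← map_commutatorElement]
            exact (QuotientGroup.eq_one_iff _).2 (hR2 a a.2 b b.2) }
      haveI : Group.IsNilpotent (π.comp R.subtype).range := inferInstance
      refine _root_.isNilpotent_of_ker_le_center (π.comp R.subtype).rangeRestrict (fun x hx => ?_)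
      rw [MonoidHom.ker_rangeRestrict, MonoidHom.mem_ker] at hx
      exact mem_center_iff.2 fun y => Subtype.ext (mem_center_iff.1 ((QuotientGroup.eq_one_iff _).1 hx) y)
    obtain ⟨r, hr, hRr⟩ : ∃ r, r.Prime ∧ IsPGroup r R := by
      obtain ⟨r, hr, y, hy, hyc, j, hyj⟩ :
          ∃ r, r.Prime ∧ ∃ y ∈ R, y ∉ center G ∧ ∃ j, y ^ r ^ j = 1 := by
        by_contra hno
        push Not at hno
        suffices ∀ n, ∀ y ∈ R, orderOf y = n → y ∈ center G from hx₀c (this _ x₀ hx₀ rfl)
        intro n
        induction n using Nat.strong_induction_on with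
        | _ n ihn =>
          intro y hy hyn
          by_contra hyc
          by_cases h1 : n = 1
          · exact hyc (orderOf_eq_one_iff.1 (hyn.trans h1) ▸ one_mem _)
          set r := n.minFac
          have hr : r.Prime := Nat.minFac_prime h1
          obtain ⟨a, b, hb, hab⟩ := Nat.exists_eq_pow_mul_and_not_dvd (hyn ▸ (orderOf_pos y).ne') r hr.ne_one
          by_cases hb1 : b = 1
          · exact hno r hr y hy hyc a (by rw [show r ^ a = n by rw [hab, hb1, mul_one], ← hyn, pow_orderOf_eq_one])
          have ha0 : a ≠ 0 := fun e => hb (by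
            rw [e, pow_zero, one_mul] at hab; exact hab ▸ Nat.minFac_dvd n)
          have hlt : ∀ k, 1 < k → k ∣ n → y ^ k ∈ center G := fun k hk hkn => by
            refine ihn (n / k) (Nat.div_lt_self (hyn ▸ orderOf_pos y) hk) _ (R.pow_mem hy k) ?_
            rw [orderOf_pow' y (by omega), hyn, Nat.gcd_eq_right hkn]
          have hn0 : 0 < n := hyn ▸ orderOf_pos y
          have hb2 : 1 < b := by rcases b with _ | _ | b <;> simp_all
          have h2 := hlt (r ^ a) (Nat.one_lt_pow ha0 hr.one_lt) ⟨b, hab⟩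
          have h3 := hlt b hb2 ⟨r ^ a, by rw [hab, mul_comm]⟩
          have hgcd := Nat.gcd_eq_gcd_ab (r ^ a) b
          rw [((hr.coprime_iff_not_dvd.2 hb).pow_left a).gcd_eq_one] at hgcd
          refine hyc ?_
          rw [← zpow_one y, show (1 : ℤ) = (r ^ a : ℕ) * Nat.gcdA (r ^ a) b + b * Nat.gcdB (r ^ a) b by
            exact_mod_cast hgcd, zpow_add, zpow_mul, zpow_mul, zpow_natCast, zpow_natCast]
          exact mul_mem (zpow_mem h2 _) (zpow_mem h3 _)
      haveI := Fact.mk hr
      refine ⟨r, hr, ?_⟩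
      obtain ⟨P⟩ : Nonempty (Sylow r R) := inferInstance
      haveI := hnil
      haveI hPn : (P : Subgroup R).Normal := inferInstance
      have hyP : (⟨y, hy⟩ : R) ∈ (P : Subgroup R) := by
        have hz' : IsPGroup r (zpowers (⟨y, hy⟩ : R)) := fun ⟨x, hx⟩ => by
          obtain ⟨i, rfl⟩ := mem_zpowers_iff.1 hx
          refine ⟨j, Subtype.ext (Subtype.ext ?_)⟩
          show (y ^ i) ^ r ^ j = 1
          rw [← zpow_natCast, ← zpow_mul, mul_comm, zpow_mul, zpow_natCast, hyj, one_zpow]
        obtain ⟨Q, hQ⟩ := hz'.exists_le_sylow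
        haveI := P.unique_of_normal hPn
        rw [Subsingleton.elim P Q]
        exact hQ (mem_zpowers _)
      haveI : (P : Subgroup R).Characteristic := P.characteristic_of_normal hPn
      haveI := hRn
      set P' := (P : Subgroup R).map R.subtype with hP'
      by_cases hPR : P' = R
      · exact hPR ▸ P.2.map R.subtype
      · exact absurd (small P' inferInstance (map_subtype_le _) hPR ⟨⟨y, hy⟩, hyP, rfl⟩) hyc
    haveI := hRn
    obtain ⟨hp2, e, u, heX, heD, huD, huN, hep, hup, heu, hcom⟩ := hL.exists_pair h hD hDT hz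
    have hec : e ∉ center G := fun hc => heu (mem_center_iff.1 hc u).symm
    have hnz := hL.not_centralize_normal h hD hDT hz hRD hR
    by_cases hrp : r = p
    · subst hrp
      obtain ⟨x, hxR, hxc, hxz⟩ := Loc.fixed_point h hD hDT hz hRD hRr hR
      set M := centralizer ({z} : Set G) with hM
      have hsmall : ∀ y ∈ R, Commute y z → y ∈ X := fun y hy hyz => by
        have XM : X ≤ M := fun v hv => mem_C.2 (hL.comm h hD hDT (hL.commX h hD hDT hv) (hL.commX h hD hDT hL.zX))
        let Q : Sylow r M := Sylow.ofCard (X.subgroupOf M)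
          (by rw [Nat.card_congr (subgroupOfEquivOfLe XM).toEquiv, hL.card])
        have hRM : IsPGroup r (R.comap M.subtype) := hRr.comap_of_injective M.subtype M.subtype_injective
        obtain ⟨P, hP⟩ := hRM.exists_le_sylow
        obtain ⟨m, hm⟩ := MulAction.exists_smul_eq M P Q
        have h1 : (⟨(m : G)⁻¹ * y * m, M.mul_mem (M.mul_mem (M.inv_mem m.2) (mem_C.2 hyz)) m.2⟩ : M) ∈
            R.comap M.subtype := by
          show (m : G)⁻¹ * y * m ∈ R
          simpa using hRn.conj_mem y hy (m : G)⁻¹
        have h2 : (⟨y, mem_C.2 hyz⟩ : M) ∈ (Q : Subgroup M) := by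
          rw [← hm]
          exact ⟨_, hP h1, Subtype.ext (show (m : G) * ((m : G)⁻¹ * y * m) * (m : G)⁻¹ = y by group)⟩
        exact h2
      have hxX := hsmall x hxR hxz
      obtain ⟨-, a, b, ha, hb, hab⟩ := hz.wit
      refine hab ?_
      have hMN : ∀ m, Commute m z → Commute m c := fun m hm => by
        refine hL.Nz m ?_ hm
        have hmem : ∀ m, Commute m z → ∀ y, Commute y c → Commute (m * y * m⁻¹) c := fun m hm y hy => by
          have hyx : Commute y x := hL.comm h hD hDT hy (hL.commX h hD hDT hxX)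
          have hx' : m * x * m⁻¹ ∈ X := hsmall _ (hRn.conj_mem x hxR m) (by
            have := (Commute.conj_iff m).2 hxz
            rwa [hm.eq, mul_inv_cancel_right] at this)
          refine h.abelian_centralizer hD hDT (hRD (hRn.conj_mem x hxR m)) (fun hc => hxc ?_)
            ((Commute.conj_iff m).2 hyx) (hL.commX h hD hDT hx').symm
          simpa [mul_assoc] using (inferInstance : (center G).Normal).conj_mem _ hc m⁻¹
        refine mem_normalizer_iff.2 fun y => ?_
        rw [hL.memX, hL.memX]
        refine and_congr ⟨hmem m hm y, fun hy => ?_⟩ (exists_congr fun k => ?_)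
        · have := hmem m⁻¹ hm.inv_left _ hy
          simpa [mul_assoc] using this
        · rw [conj_pow, mul_inv_eq_one, mul_eq_left]
      exact hL.comm h hD hDT (hMN a ha) (hMN b hb)
    have hcop : ∀ w : G, (∃ k, w ^ p ^ k = 1) → ¬ r ∣ orderOf w := fun w hw hdvd => by
      obtain ⟨k, hk⟩ := hw
      exact hrp ((Nat.prime_dvd_prime_iff_eq hr Fact.out).1
        (hr.dvd_of_dvd_pow (hdvd.trans (orderOf_dvd_of_pow_eq_one hk))))
    have fpf : ∀ w : G, (∃ k, w ^ p ^ k = 1) → ∀ x ∈ R, π (w * x * w⁻¹) = π x → x ∉ center G →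
        ∀ y ∈ R, Commute w y := fun w hw x hx hwx hxc =>
      hL.coprime_centralize h hD hDT hr hRD hRr hR2 (hcop w hw) hx hxc ((QuotientGroup.eq_one_iff _).1 (by
        show π (x⁻¹ * (w * x * w⁻¹)) = 1
        rw [map_mul, hwx, ← map_mul, inv_mul_cancel, map_one]))
    have hze : Commute z e := hL.comm h hD hDT (hL.commX h hD hDT hL.zX) (hL.commX h hD hDT heX)
    obtain ⟨kz, hkz⟩ := hz.isP
    have hwp : ∀ i, ∃ k, (e * z ^ i) ^ p ^ k = 1 := fun i => ⟨1 + kz, by
      rw [(hze.symm.pow_right i).mul_pow, pow_add, pow_one, pow_mul, hep, one_pow, one_mul, ← pow_mul,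
        show i * (p * p ^ kz) = p ^ kz * (i * p) by ring, pow_mul, hkz, one_pow]⟩
    have nofix : ∀ i < p, ∀ x ∈ R, π ((e * z ^ i) * x * (e * z ^ i)⁻¹) = π x → x ∈ center G := by
      intro i hi x hx hfix
      by_contra hxc
      have hcen := fpf _ (hwp i) x hx hfix hxc
      rcases Nat.eq_zero_or_pos i with rfl | hi0
      · exact hnz (hL.centralize_of_mem h hD hDT heX heD hec fun y hy => by simpa using hcen y hy)
      set w := e * z ^ i with hw
      set a := w⁻¹ * (u * w * u⁻¹) with ha
      have hwX : w ∈ X := X.mul_mem heX (X.pow_mem hL.zX i)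
      have haX : a ∈ X := X.mul_mem (X.inv_mem hwX) ((mem_normalizer_iff.1 huN w).1 hwX)
      have haD : a ∈ D := h.shift_mem hD w huD
      have haR : ∀ y ∈ R, Commute a y := fun y hy => by
        have h1 := hcen y hy
        have h2 := (Commute.conj_iff u).2 (hcen (u⁻¹ * y * u) (by simpa using hRn.conj_mem y hy u⁻¹))
        rw [show u * (u⁻¹ * y * u) * u⁻¹ = y by group] at h2
        exact h1.inv_left.mul_left h2
      have hac : a ∉ center G := fun hac => by
        have e1 : π (u * w * u⁻¹) = π w := by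
          have h1 : π a = 1 := (QuotientGroup.eq_one_iff _).2 hac
          rw [ha, map_mul, map_inv] at h1
          exact (inv_mul_eq_one.1 h1).symm
        have e2 : π (u * e * u⁻¹) = π e := by
          have h1 : π (u * e * u⁻¹ * e⁻¹) = 1 := (QuotientGroup.eq_one_iff _).2 hcom
          rw [map_mul _ _ e⁻¹, map_inv] at h1
          exact mul_inv_eq_one.1 h1
        have e3 : π (u * z * u⁻¹) ^ i = π z ^ i := by
          rw [hw, show u * (e * z ^ i) * u⁻¹ = (u * e * u⁻¹) * (u * z * u⁻¹) ^ i by rw [conj_pow]; group,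
            map_mul, e2, map_mul] at e1
          simpa using e1
        have e4 : π (u * z * u⁻¹) ^ p = π z ^ p := by
          rw [← map_pow, conj_pow, mem_center_iff.1 hz.pow u, mul_inv_cancel_right, map_pow]
        have hpi : Nat.Coprime i p :=
          ((Fact.out : p.Prime).coprime_iff_not_dvd.2 (Nat.not_dvd_of_pos_of_lt hi0 hi)).symm
        have hgcd := Nat.gcd_eq_gcd_ab i p
        rw [hpi.gcd_eq_one] at hgcd
        have e5 : π (u * z * u⁻¹) = π z := by
          rw [← zpow_one (π (u * z * u⁻¹)), ← zpow_one (π z),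
            show (1 : ℤ) = i * Nat.gcdA i p + p * Nat.gcdB i p by exact_mod_cast hgcd]
          simp only [zpow_add, zpow_mul, zpow_natCast, e3, e4]
        have huz : Commute u z := h.mem_of_central_move hz.wit ((QuotientGroup.eq_one_iff _).1 (by
          show π (z⁻¹ * (u * z * u⁻¹)) = 1
          rw [map_mul, e5, ← map_mul, inv_mul_cancel, map_one]))
        exact heu (hL.comm h hD hDT (hL.commX h hD hDT heX) (hL.Nz u huN huz))
      exact hnz (hL.centralize_of_mem h hD hDT haX haD hac haR)
    have nofixz : ∀ x ∈ R, π (z * x * z⁻¹) = π x → x ∈ center G := fun x hx hfix => by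
      by_contra hxc
      exact hnz (fpf z hz.isP x hx hfix hxc)
    -- the product over all lines
    set V := R.map π with hV
    have Vc : ∀ a b : V, a * b = b * a := by
      rintro ⟨_, a, ha, rfl⟩ ⟨_, b, hb, rfl⟩
      refine Subtype.ext (commutatorElement_eq_one_iff_mul_comm.1 ?_)
      rw [← map_commutatorElement]
      exact (QuotientGroup.eq_one_iff _).2 (hR2 a ha b hb)
    letI : CommGroup V := { (inferInstance : Group V) with mul_comm := Vc }
    let act : G → V →* V := fun w => MonoidHom.mk'
      (fun v => ⟨π w * v * (π w)⁻¹, by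
        obtain ⟨r', hr', e'⟩ := v.2
        exact ⟨w * r' * w⁻¹, hRn.conj_mem r' hr' w, by rw [map_mul, map_mul, map_inv, e']⟩⟩)
      fun a b => Subtype.ext (show π w * (a * b : G ⧸ center G) * (π w)⁻¹ =
        π w * a * (π w)⁻¹ * (π w * b * (π w)⁻¹) by group)
    have act_mul : ∀ a b : G, ∀ v, act a (act b v) = act (a * b) v := fun a b v => Subtype.ext (by
      show π a * (π b * v * (π b)⁻¹) * (π a)⁻¹ = π (a * b) * v * (π (a * b))⁻¹
      rw [map_mul]; group)
    have act_center : ∀ a : G, a ∈ center G → ∀ v, act a v = v := fun a ha v => Subtype.ext (by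
      show π a * v * (π a)⁻¹ = v
      rw [show π a = 1 from (QuotientGroup.eq_one_iff _).2 ha]; group)
    have fix_trivial : ∀ w : G, (∀ x ∈ R, π (w * x * w⁻¹) = π x → x ∈ center G) →
        ∀ v : V, act w v = v → v = 1 := fun w hw v hv => by
      obtain ⟨x, hx, ex⟩ := v.2
      refine Subtype.ext ?_
      rw [← ex]
      refine (QuotientGroup.eq_one_iff _).2 (hw x hx ?_)
      rw [map_mul, map_mul, map_inv, ex]
      exact congrArg Subtype.val hv
    have sum_fix : ∀ w : G, w ^ p ∈ center G → (∀ x ∈ R, π (w * x * w⁻¹) = π x → x ∈ center G) →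
        ∀ v : V, ∏ j ∈ Finset.range p, act (w ^ j) v = 1 := fun w hwc hw v => by
      refine fix_trivial w hw _ ?_
      rw [map_prod]
      simp only [act_mul, ← pow_succ']
      have e0 : act (w ^ p) v = act (w ^ 0) v := by
        rw [act_center _ hwc, act_center _ (by rw [pow_zero]; exact one_mem _)]
      have := Finset.prod_range_succ (fun j => act (w ^ j) v) p
      rw [Finset.prod_range_succ', e0] at this
      exact mul_right_cancel this
    have hlast : ∀ v : V, v ^ p = 1 := fun v => by
      have h1 : ∀ i ∈ Finset.range p, ∏ j ∈ Finset.range p, act ((e * z ^ i) ^ j) v = 1 := fun i hi =>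
        sum_fix _ (by
          rw [(hze.symm.pow_right i).mul_pow, hep, one_mul, ← pow_mul, mul_comm, pow_mul]
          exact pow_mem hz.pow i) (nofix i (Finset.mem_range.1 hi)) v
      have h2 := Finset.prod_congr rfl h1
      rw [Finset.prod_const_one, Finset.prod_comm,
        Finset.prod_eq_single_of_mem 0 (Finset.mem_range.2 (Fact.out : p.Prime).pos)] at h2
      · rw [Finset.prod_congr rfl fun i _ => show act ((e * z ^ i) ^ 0) v = v from
          act_center _ (by rw [pow_zero]; exact one_mem _) v, Finset.prod_const, Finset.card_range] at h2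
        exact h2
      · intro j hj hj0
        have hj' : j < p := Finset.mem_range.1 hj
        have hfix : act z (∏ i ∈ Finset.range p, act (z ^ (i * j)) v) =
            ∏ i ∈ Finset.range p, act (z ^ (i * j)) v := by
          set P := ∏ i ∈ Finset.range p, act (z ^ (i * j)) v with hP
          have hjp : act (z ^ j) P = P := by
            rw [hP, map_prod]
            simp only [act_mul, ← pow_add]
            have e0 : act (z ^ (p * j)) v = act (z ^ (0 * j)) v := by
              rw [act_center _ (by rw [pow_mul]; exact pow_mem hz.pow j),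
                act_center _ (by rw [zero_mul, pow_zero]; exact one_mem _)]
            have := Finset.prod_range_succ (fun i => act (z ^ (i * j)) v) p
            rw [Finset.prod_range_succ', e0] at this
            refine Eq.trans (Finset.prod_congr rfl fun i _ => ?_) (mul_right_cancel this)
            rw [show j + i * j = (i + 1) * j by ring]
          have hgcd := Nat.gcd_eq_gcd_ab j p
          rw [(((Fact.out : p.Prime).coprime_iff_not_dvd.2
            (Nat.not_dvd_of_pos_of_lt (Nat.pos_of_ne_zero hj0) hj')).symm).gcd_eq_one] at hgcd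
          have hpow : ∀ n, act ((z ^ j) ^ n) P = P := fun n => by
            induction n with
            | zero => exact act_center _ (by rw [pow_zero]; exact one_mem _) P
            | succ n ihn => rw [pow_succ', ← act_mul, ihn, hjp]
          obtain ⟨n, -, hn⟩ := Nat.exists_mul_mod_eq_one_of_coprime
            (((Fact.out : p.Prime).coprime_iff_not_dvd.2
              (Nat.not_dvd_of_pos_of_lt (Nat.pos_of_ne_zero hj0) hj')).symm) (Fact.out : p.Prime).one_lt
          have := hpow n
          rw [← pow_mul, ← Nat.mod_add_div (j * n) p, hn, pow_add, pow_one, ← act_mul,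
            act_center (z ^ (p * (j * n / p))) (by rw [pow_mul]; exact pow_mem hz.pow _)] at this
          exact this
        have hPfix : ∏ i ∈ Finset.range p, act (z ^ (i * j)) v = 1 := fix_trivial z nofixz _ hfix
        rw [Finset.prod_congr rfl fun i _ => show act ((e * z ^ i) ^ j) v = act (e ^ j) (act (z ^ (i * j)) v) by
          rw [act_mul, (hze.symm.pow_right i).mul_pow, ← pow_mul], ← map_prod, hPfix, map_one]
    obtain ⟨k, hk⟩ := hRr ⟨x₀, hx₀⟩
    have hv := hlast ⟨π x₀, mem_map_of_mem π hx₀⟩
    have hv' : π x₀ ^ p = 1 := congrArg Subtype.val hv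
    have hv'' : π x₀ ^ r ^ k = 1 := by rw [← map_pow, show x₀ ^ r ^ k = 1 from congrArg Subtype.val hk, map_one]
    exact hx₀c ((QuotientGroup.eq_one_iff _).1 ((pow_eq_one_iff_of_coprime
      ((((Fact.out : p.Prime).coprime_iff_not_dvd.2 fun hd => hrp
        ((Nat.prime_dvd_prime_iff_eq Fact.out hr).1 hd).symm)).pow_right k)).1 ⟨hv', hv''⟩))

end Cfsg.Agent.MinNonCA
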