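import Cfsg.Agent.Lib.Solv.FrobeniusFPF
import Cfsg.Agent.S0205
import Cfsg.Agent.S0042
import Mathlib.GroupTheory.Transfer

/-!
Solvability criteria used in the study of groups whose proper subgroups are CA groups.
-/

set_option autoImplicit false

open scoped Pointwise commutatorElement

namespace Cfsg.Agent.MinNonCA

open Subgroup

variable {G : Type*} [Group G]

theorem sv_mono {H K : Subgroup G} (h : H ≤ K) (hK : Group.IsSolvable K) : Group.IsSolvable H := by
  haveI := hK
  exact solvable_of_solvable_injective (f := inclusion h) (inclusion_injective h)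

theorem sv_ext {G' : Type*} [Group G'] (f : G →* G') (H : Subgroup G) (hk : Group.IsSolvable f.ker)
    (hi : Group.IsSolvable (H.map f)) : Group.IsSolvable H := by
  haveI := hi
  have hk' : Group.IsSolvable ↥(H ⊓ f.ker) := sv_mono inf_le_right hk
  haveI := hk'
  refine solvable_of_ker_le_range (inclusion (inf_le_left : H ⊓ f.ker ≤ H)) (f.subgroupMap H) ?_
  intro x hx
  have hx' : (x : G) ∈ f.ker := by
    rw [MonoidHom.mem_ker] at hx ⊢
    simpa using congrArg Subtype.val hx
  exact ⟨⟨x, x.2, hx'⟩, rfl⟩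

theorem sv_of_comm {H : Subgroup G} (h : ∀ a ∈ H, ∀ b ∈ H, Commute a b) : Group.IsSolvable H :=
  isSolvable_of_comm fun a b => Subtype.ext (h a a.2 b b.2)

theorem sv_map {G' : Type*} [Group G'] (f : G →* G') {H : Subgroup G} (h : Group.IsSolvable H) :
    Group.IsSolvable (H.map f) := by
  haveI := h
  exact solvable_of_surjective (f := f.subgroupMap H) (f.subgroupMap_surjective H)

theorem sv_sup {N K : Subgroup G} [N.Normal] (hN : Group.IsSolvable N) (hK : Group.IsSolvable K) :
    Group.IsSolvable ↥(N ⊔ K) := by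
  refine sv_ext (QuotientGroup.mk' N) _ (by rw [QuotientGroup.ker_mk']; exact hN) ?_
  rw [Subgroup.map_sup, QuotientGroup.map_mk'_self, bot_sup_eq]
  exact sv_map _ hK

theorem sv_iff_top : Group.IsSolvable (⊤ : Subgroup G) ↔ Group.IsSolvable G := by
  refine ⟨fun h => ?_, fun h => ?_⟩
  · haveI := h
    exact solvable_of_surjective (f := (topEquiv (G := G)).toMonoidHom) (topEquiv (G := G)).surjective
  · haveI := h
    exact solvable_of_solvable_injective (f := (⊤ : Subgroup G).subtype) (subtype_injective _)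

theorem sv_top_of_sup {N K : Subgroup G} [N.Normal] (hN : Group.IsSolvable N) (hK : Group.IsSolvable K)
    (h : ∀ g : G, g ∈ N ⊔ K) : Group.IsSolvable G := by
  rw [← sv_iff_top, ← (eq_top_iff' _).2 h]
  exact sv_sup hN hK

/-- A group whose derived elements commute pairwise is solvable. -/
theorem solvable_of_commutators (h : ∀ a b c d : G, Commute ⁅a, b⁆ ⁅c, d⁆) : Group.IsSolvable G := by
  have hc : commutator G = closure (commutatorSet G) := commutator_eq_closure G
  haveI : Group.IsSolvable (commutator G) := by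
    refine sv_of_comm ?_
    rw [hc]
    intro x hx y hy
    induction hx using closure_induction with
    | mem x hx =>
      obtain ⟨a, b, rfl⟩ := hx
      induction hy using closure_induction with
      | mem y hy =>
        obtain ⟨c, d, rfl⟩ := hy
        exact h a b c d
      | one => exact Commute.one_right _
      | mul y₁ y₂ _ _ i1 i2 => exact i1.mul_right i2
      | inv y _ i => exact i.inv_right
    | one => exact Commute.one_left _
    | mul x₁ x₂ _ _ i1 i2 => exact i1.mul_left i2
    | inv x _ i => exact i.inv_left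
  refine solvable_of_ker_le_range (commutator G).subtype (Abelianization.of (G := G)) ?_
  rw [Abelianization.ker_of, Subgroup.range_subtype]

variable [Finite G]

theorem odd_solvable (h : Odd (Nat.card G)) : Group.IsSolvable G := S0205.result h

theorem sv_of_odd_index {N : Subgroup G} [N.Normal] (hN : Group.IsSolvable N) (h : Odd N.index) :
    Group.IsSolvable G := by
  haveI := hN
  haveI : Group.IsSolvable (G ⧸ N) := odd_solvable h
  exact solvable_of_ker_le_range N.subtype (QuotientGroup.mk' N) (by simp)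

theorem sv_of_twoGroup {P : Subgroup G} (hP : IsPGroup 2 P) : Group.IsSolvable P := by
  haveI : Group.IsNilpotent P := hP.isNilpotent
  infer_instance

/-- A group with a normal Sylow two-subgroup is solvable. -/
theorem solvable_of_normal_two (P : Sylow 2 G) [(P : Subgroup G).Normal] : Group.IsSolvable G :=
  sv_of_odd_index (sv_of_twoGroup P.2) <| Nat.not_even_iff_odd.1 fun h =>
    P.not_dvd_index h.two_dvd

/-- If the normaliser of a Sylow two-subgroup is abelian then the group is solvable. -/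
theorem solvable_of_comm_normalizer (P : Sylow 2 G)
    (h : ∀ a ∈ normalizer ((P : Subgroup G) : Set G), ∀ b ∈ normalizer ((P : Subgroup G) : Set G), Commute a b) :
    Group.IsSolvable G := by
  have hP : normalizer ((P : Subgroup G) : Set G) ≤ centralizer ((P : Subgroup G) : Set G) := fun x hx =>
    mem_centralizer_iff.2 fun y hy => (h y (le_normalizer hy) x hx).eq
  have hc := MonoidHom.ker_transferSylow_isComplement' P hP
  refine sv_top_of_sup (N := (MonoidHom.transferSylow P hP).ker) ?_ (sv_of_twoGroup P.2) fun g => ?_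
  · refine odd_solvable ?_
    rw [← hc.index_eq_card]
    exact Nat.not_even_iff_odd.1 fun h2 => P.not_dvd_index h2.two_dvd
  · rw [(IsComplement'.sup_eq_top hc)]; trivial

/-- A group with a solvable Frobenius complement is solvable. -/
theorem solvable_of_frobenius {H : Subgroup G} (hH : Cfsg.IsFrobeniusComplement H)
    (hs : Group.IsSolvable H) : Group.IsSolvable G := by
  obtain ⟨N, hN, hNn, hc⟩ := Solv.frobenius_theorem hH
  obtain ⟨N', hN', _, hnil⟩ := S0042.result H hH
  have e : N = N' := SetLike.coe_injective (hN.trans hN'.symm)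
  subst e
  haveI := hNn
  haveI := hnil
  exact sv_top_of_sup (inferInstance : Group.IsSolvable N) hs fun g => by
    rw [(IsComplement'.sup_eq_top hc)]; trivial

omit [Finite G] in
/-- Commutation of an involution acting without fixed points on an abelian subgroup. -/
theorem inv_of_fpf {V : Subgroup G} (hV : ∀ a ∈ V, ∀ b ∈ V, Commute a b) {t : G} (ht : t * t = 1)
    (htV : ∀ v ∈ V, t * v * t⁻¹ ∈ V) (hf : ∀ v ∈ V, Commute v t → v = 1) {v : G} (hv : v ∈ V) :
    t * v * t⁻¹ = v⁻¹ := by
  have h1 := htV v hv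
  refine eq_inv_of_mul_eq_one_right (hf _ (V.mul_mem hv h1) ?_)
  have e : t⁻¹ = t := inv_eq_of_mul_eq_one_right ht
  have h2 : t * (t * v * t⁻¹) * t⁻¹ = v := by rw [e]; simp only [← mul_assoc, ht, one_mul]; rw [mul_assoc, ht, mul_one]
  have h3 : t * (v * (t * v * t⁻¹)) * t⁻¹ = (t * v * t⁻¹) * v := by
    calc t * (v * (t * v * t⁻¹)) * t⁻¹ = (t * v * t⁻¹) * (t * (t * v * t⁻¹) * t⁻¹) := by group
      _ = _ := by rw [h2]
  have h4 : t * (v * (t * v * t⁻¹)) * t⁻¹ = v * (t * v * t⁻¹) := by rw [h3]; exact (hV _ h1 _ hv).eq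
  exact (mul_inv_eq_iff_eq_mul.1 h4).symm

/-- An involution in a Frobenius complement is central in it. -/
theorem involution_central {H : Subgroup G} (hH : Cfsg.IsFrobeniusComplement H) {t : G} (ht : t ∈ H)
    (ht2 : t * t = 1) {h : G} (hh : h ∈ H) : Commute t h := by
  by_cases ht1 : t = 1
  · subst ht1; exact Commute.one_left _
  obtain ⟨V, a, hV0, hVc, hn, hf⟩ := Solv.frob_exists_fpf hH
  have hVa : ∀ x ∈ V, ∀ y ∈ V, Commute x y := fun x hx y hy =>
    congrArg Subtype.val (hVc.is_comm.comm ⟨x, hx⟩ ⟨y, hy⟩)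
  have inv : ∀ s ∈ H, s ≠ 1 → s * s = 1 → ∀ v ∈ V,
      (a * s * a⁻¹) * v * (a * s * a⁻¹)⁻¹ = v⁻¹ := by
    intro s hs hs1 hs2 v hv
    have hm : a * s * a⁻¹ ∈ MulAut.conj a • H := ⟨s, hs, rfl⟩
    refine inv_of_fpf hVa ?_ (fun w hw => (mem_normalizer_iff.1 (hn hm) w).1 hw)
      (fun w hw hc => ?_) hv
    · calc a * s * a⁻¹ * (a * s * a⁻¹) = a * (s * s) * a⁻¹ := by group
        _ = 1 := by rw [hs2]; group
    · have := hf _ hm (fun e => hs1 (by simpa using e))
      exact mem_bot.1 (this ▸ ⟨hw, mem_centralizer_singleton_iff.2 hc.eq⟩)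
  set t' := h * t * h⁻¹ with ht'
  have ht'H : t' ∈ H := H.mul_mem (H.mul_mem hh ht) (H.inv_mem hh)
  have ht'1 : t' ≠ 1 := fun e => ht1 (by simpa [ht'] using e)
  have ht'2 : t' * t' = 1 := by
    calc t' * t' = h * (t * t) * h⁻¹ := by rw [ht']; group
      _ = 1 := by rw [ht2]; group
  have key : t' * t = 1 := by
    by_contra hne
    obtain ⟨v, hv, hv1⟩ := (V.ne_bot_iff_exists_ne_one).1 hV0 |> fun ⟨x, hx⟩ => (⟨x.1, x.2, fun e => hx (Subtype.ext e)⟩ : ∃ v, v ∈ V ∧ v ≠ 1)
    have hm : a * (t' * t) * a⁻¹ ∈ MulAut.conj a • H := ⟨t' * t, H.mul_mem ht'H ht, rfl⟩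
    have hfix : (a * (t' * t) * a⁻¹) * v * (a * (t' * t) * a⁻¹)⁻¹ = v := by
      calc _ = (a * t' * a⁻¹) * ((a * t * a⁻¹) * v * (a * t * a⁻¹)⁻¹) * (a * t' * a⁻¹)⁻¹ := by group
        _ = v := by rw [inv t ht ht1 ht2 v hv, inv t' ht'H ht'1 ht'2 _ (V.inv_mem hv), inv_inv]
    have h0 := hf _ hm (fun e => hne (by simpa using e))
    exact hv1 (mem_bot.1 (h0 ▸ ⟨hv, mem_centralizer_singleton_iff.2 (mul_inv_eq_iff_eq_mul.1 hfix).symm⟩))
  have hte : t' = t := by
    rw [eq_inv_of_mul_eq_one_left key]
    exact inv_eq_of_mul_eq_one_right ht2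
  exact (mul_inv_eq_iff_eq_mul.1 hte).symm

end Cfsg.Agent.MinNonCA
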