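import Cfsg.Agent.Lib.Solv.MinNonCA.QS
import Cfsg.Agent.Lib.Small.SylowInside
import Cfsg.Agent.Lib.Solv.UniqueSub
import Cfsg.Agent.Lib.Classical.Dickson.Recognition
import Cfsg.Agent.S0111
import Cfsg.Agent.S3188
import Cfsg.Agent.S0483

/-!
Quasisimple groups whose proper subgroups are CA: the central quotient.
-/

set_option autoImplicit false

open scoped Pointwise commutatorElement

namespace Cfsg.Agent.MinNonCA

open Subgroup

/-- Lifts of a two-element. -/
theorem exists_two_lift {X Y : Type*} [Group X] [Finite X] [Group Y] (f : X →* Y) {x : X}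
    (hx : f x * f x = 1) : ∃ t : X, f t = f x ∧ ∃ k, t ^ 2 ^ k = 1 := by
  obtain ⟨a, r, hr, hord⟩ := Nat.exists_eq_pow_mul_and_not_dvd (orderOf_pos x).ne' 2 (by norm_num)
  obtain ⟨m, hm⟩ : ∃ m, r = 2 * m + 1 := ⟨r / 2, by omega⟩
  refine ⟨x ^ r, ?_, a, ?_⟩
  · rw [map_pow, hm, pow_succ, pow_mul, sq, hx, one_pow, one_mul]
  · rw [← pow_mul, mul_comm, ← hord, pow_orderOf_eq_one]

/-- The oddCore of a simple group of even order is trivial. -/
theorem oddCore_eq_bot {Y : Type*} [Group Y] [Finite Y] [IsSimpleGroup Y] (hY : Even (Nat.card Y)) :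
    Cfsg.oddCore Y = ⊥ := by
  unfold Cfsg.oddCore
  refine eq_bot_iff.2 (sSup_le fun N hN => ?_)
  obtain ⟨hn, hodd⟩ := hN
  rcases hn.eq_bot_or_eq_top with h | h
  · exact h.le
  · subst h
    rw [Nat.card_congr topEquiv.toEquiv] at hodd
    exact absurd hY (Nat.not_even_iff_odd.2 (Nat.coprime_two_right.1 hodd))

variable {X : Type*} [Group X] [Finite X]

/-- The image of the Sylow two-subgroup is abelian, or we have a dihedral configuration. -/
def DihShape (S : Sylow 2 X) : Prop :=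
  ∃ (t : X) (n : ℕ), t ∈ (S : Subgroup X) ∧ t ∉ center X ∧ 2 ≤ n ∧
    (∃ s ∈ (S : Subgroup X), ¬ Commute s t) ∧
    (∀ a ∈ (S : Subgroup X), ∀ b ∈ (S : Subgroup X), Commute a t → Commute b t → Commute a b) ∧
    (∀ a ∈ (S : Subgroup X), ∀ b ∈ (S : Subgroup X), Commute a t → a * a ∈ center X → a ∉ center X →
      Commute b t → b * b ∈ center X → b ∉ center X → a⁻¹ * b ∈ center X) ∧
    (∀ a ∈ (S : Subgroup X), ¬ Commute a t → a * a ∈ center X) ∧
    (∀ a ∈ (S : Subgroup X), ¬ Commute a t → ∀ b ∈ (S : Subgroup X), ¬ Commute b t → Commute (a * b) t) ∧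
    Nonempty (↥((S : Subgroup X).map (QuotientGroup.mk' (center X))) ≃* DihedralGroup n)

theorem QS.dihShape (h : QS X) (S : Sylow 2 X)
    (hS : ∃ a ∈ (S : Subgroup X), ∃ b ∈ (S : Subgroup X), ⁅a, b⁆ ∉ center X) : DihShape S := by
  haveI := h.simple
  set π := QuotientGroup.mk' (center X) with hπ
  have hone : ∀ {x : X}, π x = 1 ↔ x ∈ center X := fun {x} => QuotientGroup.eq_one_iff x
  obtain ⟨a₀, ha₀, b₀, hb₀, hab₀⟩ := hS
  have hSne : ∃ a ∈ (S : Subgroup X), ∃ b ∈ (S : Subgroup X), ¬ Commute a b :=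
    ⟨a₀, ha₀, b₀, hb₀, fun hc => hab₀ (by rw [commutatorElement_eq_one_iff_commute.2 hc]; exact one_mem _)⟩
  have hST : (S : Subgroup X) ≠ ⊤ := fun e => h.nsol (sv_iff_top.1 (e ▸ sv_of_twoGroup S.2))
  set P := (S : Subgroup X).map π with hP
  have hPp : IsPGroup 2 P := S.2.map π
  haveI : Nontrivial P := by
    refine (nontrivial_iff_ne_bot P).2 fun hb => hab₀ (hone.1 ?_)
    have hm : ⁅π a₀, π b₀⁆ ∈ (⊥ : Subgroup (X ⧸ center X)) := hb ▸ (by
      rw [← map_commutatorElement]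
      exact mem_map_of_mem π ((S : Subgroup X).mul_mem ((S : Subgroup X).mul_mem
        ((S : Subgroup X).mul_mem ha₀ hb₀) ((S : Subgroup X).inv_mem ha₀)) ((S : Subgroup X).inv_mem hb₀)))
    rw [map_commutatorElement]; exact mem_bot.1 hm
  haveI := hPp.center_nontrivial
  obtain ⟨⟨⟨_, t, ht, rfl⟩, htc'⟩, ht'⟩ := exists_prime_orderOf_dvd_card' (G := center P) 2
    ((IsPGroup.to_subgroup hPp _).card_eq_or_dvd.resolve_left
      (Finite.one_lt_card_iff_nontrivial.2 inferInstance).ne')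
  rw [← Subgroup.orderOf_coe, ← Subgroup.orderOf_coe] at ht'
  change orderOf (π t) = 2 at ht'
  have htc : t ∉ center X := fun hc => by rw [hone.2 hc, orderOf_one] at ht'; norm_num at ht'
  have ht2 : t * t ∈ center X := hone.1 (by rw [map_mul, ← sq, ← ht']; exact pow_orderOf_eq_one _)
  have tcen : ∀ s ∈ (S : Subgroup X), π s * π t = π t * π s := fun s hs =>
    congrArg Subtype.val (mem_center_iff.1 htc' ⟨π s, mem_map_of_mem π hs⟩)
  obtain ⟨s₀, hs₀, hs₀t⟩ : ∃ s ∈ (S : Subgroup X), ¬ Commute s t := by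
    by_contra hn
    push Not at hn
    exact htc (h.center_sylow S hSne ht hn)
  have Ac : ∀ a ∈ (S : Subgroup X), ∀ b ∈ (S : Subgroup X), Commute a t → Commute b t → Commute a b :=
    fun a ha b hb => h.ca_on hST ht hs₀ (fun c => hs₀t c.symm) ha hb
  have sqA : ∀ s ∈ (S : Subgroup X), Commute (s * s) t := fun s hs => by
    set ζ := s * t * s⁻¹ * t⁻¹ with hζ
    have hζc : ζ ∈ center X := hone.1 (by simp only [hζ, map_mul, map_inv, tcen s hs]; group)
    have e1 : s * t * s⁻¹ = ζ * t := by rw [hζ]; group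
    have hsq : ζ * ζ = 1 := by
      have e2 : s * (t * t) * s⁻¹ = t * t := by rw [mem_center_iff.1 ht2 s, mul_inv_cancel_right]
      have e3 : s * (t * t) * s⁻¹ = ζ * ζ * (t * t) := by
        calc s * (t * t) * s⁻¹ = (s * t * s⁻¹) * (s * t * s⁻¹) := by group
          _ = ζ * (t * ζ) * t := by rw [e1]; group
          _ = ζ * ζ * (t * t) := by rw [mem_center_iff.1 hζc t]; group
      exact mul_eq_right.1 (e3.symm.trans e2)
    refine mul_inv_eq_iff_eq_mul.1 ?_
    calc s * s * t * (s * s)⁻¹ = s * (s * t * s⁻¹) * s⁻¹ := by group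
      _ = (s * ζ) * t * s⁻¹ := by rw [e1]; group
      _ = ζ * (s * t * s⁻¹) := by rw [mem_center_iff.1 hζc s]; group
      _ = t := by rw [e1, ← mul_assoc, hsq, one_mul]
  have outside : ∀ s ∈ (S : Subgroup X), ¬ Commute s t → s * s ∈ center X := fun s hs hst => by
    by_contra hc
    obtain ⟨y, hy, hy'⟩ : ∃ y ∈ (S : Subgroup X), ¬ Commute y (s * s) := by
      by_contra hn
      push Not at hn
      exact hc (h.center_sylow S hSne (mul_mem hs hs) hn)
    exact hst (h.ca_on hST (mul_mem hs hs) hy (fun c => hy' c.symm) hs ht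
      ((Commute.refl s).mul_right (Commute.refl s)) (sqA s hs).symm)
  have sinv : ∀ s ∈ (S : Subgroup X), ¬ Commute s t → π s * π s = 1 := fun s hs hst => by
    rw [← map_mul]; exact hone.2 (outside s hs hst)
  have inv : ∀ s ∈ (S : Subgroup X), ¬ Commute s t → ∀ a ∈ (S : Subgroup X), Commute a t →
      π s * π a * (π s)⁻¹ = (π a)⁻¹ := fun s hs hst a ha hat => by
    have h1 := sinv _ (mul_mem hs ha) fun c => hst (by simpa using c.mul_left hat.inv_left)
    have h2 : (π s)⁻¹ = π s := inv_eq_of_mul_eq_one_right (sinv s hs hst)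
    rw [map_mul] at h1
    refine eq_inv_of_mul_eq_one_left ?_
    rw [h2]; exact (by group : π s * π a * π s * π a = π s * π a * (π s * π a)).trans h1
  have index2 : ∀ s ∈ (S : Subgroup X), ¬ Commute s t → ∀ r ∈ (S : Subgroup X), ¬ Commute r t →
      Commute (s * r) t := fun s hs hst r hr hrt => by
    by_contra hsr
    refine hab₀ ?_
    have hexp : ∀ a ∈ (S : Subgroup X), π a * π a = 1 := fun a ha => by
      by_cases hat : Commute a t
      · have h1 := inv _ (mul_mem hs hr) hsr a ha hat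
        rw [map_mul, mul_inv_rev, ← mul_assoc] at h1
        have h2 : π s * (π r * π a * (π r)⁻¹) * (π s)⁻¹ = (π a)⁻¹ := by rw [← h1]; group
        rw [inv r hr hrt a ha hat] at h2
        have h3 : (π s * π a * (π s)⁻¹)⁻¹ = (π a)⁻¹ := by rw [← h2]; group
        rw [inv s hs hst a ha hat, inv_inv] at h3
        rw [mul_eq_one_iff_eq_inv]; exact h3
      · exact sinv a ha hat
    refine hone.1 ?_
    rw [map_commutatorElement, commutatorElement_def]
    have i1 := inv_eq_of_mul_eq_one_right (hexp a₀ ha₀)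
    have i2 := inv_eq_of_mul_eq_one_right (hexp b₀ hb₀)
    rw [i1, i2, mul_assoc, ← map_mul]; exact hexp _ (mul_mem ha₀ hb₀)
  set A : Subgroup X := (S : Subgroup X) ⊓ centralizer ({t} : Set X) with hA
  set C := (A.map π).subgroupOf P with hC
  have AP : A.map π ≤ P := map_mono inf_le_left
  have memAm : ∀ {x : X}, x ∈ (S : Subgroup X) → π x ∈ A.map π → Commute x t := fun {x} _ hm => by
    obtain ⟨a, ha, e⟩ := hm
    have hz : a⁻¹ * x ∈ center X := hone.1 (by rw [map_mul, map_inv, e, inv_mul_cancel])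
    rw [show x = a * (a⁻¹ * x) by group]
    exact (mem_C.1 ha.2).mul_left ((mem_center_iff.1 hz t).symm)
  have hrel : (A.map π).relIndex P = 2 := by
    show C.index = 2
    rw [index_eq_two_iff]
    refine ⟨⟨π s₀, mem_map_of_mem π hs₀⟩, ?_⟩
    rintro ⟨_, b, hb, rfl⟩
    show Xor (π b * π s₀ ∈ A.map π) (π b ∈ A.map π)
    rw [← map_mul]
    by_cases hbt : Commute b t
    · refine Or.inr ⟨mem_map_of_mem π ⟨hb, mem_C.2 hbt⟩, fun hm => hs₀t ?_⟩
      have := hbt.inv_left.mul_left (memAm (mul_mem hb hs₀) hm)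
      simpa using this
    · exact Or.inl ⟨mem_map_of_mem π ⟨mul_mem hb hs₀, mem_C.2 (index2 b hb hbt s₀ hs₀ hs₀t)⟩,
        fun hm => hbt (memAm hb hm)⟩
  -- elementary elements of `A` are unique modulo the centre
  have runique : ∀ a ∈ (S : Subgroup X), ∀ b ∈ (S : Subgroup X), Commute a t → a * a ∈ center X →
      a ∉ center X → Commute b t → b * b ∈ center X → b ∉ center X → a⁻¹ * b ∈ center X := by
    intro a ha b hb hat ha2 hac hbt hb2 hbc
    by_contra hab
    let PY : Sylow 2 (X ⧸ center X) := S.mapSurjective (f := π) (QuotientGroup.mk'_surjective _)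
    have ho : orderOf (π s₀) = 2 := orderOf_eq_prime (by rw [sq]; exact sinv s₀ hs₀ hs₀t)
      fun e => hs₀t ((mem_center_iff.1 (hone.1 e) t).symm)
    obtain ⟨M, hMn, hMi, -⟩ | ⟨g, hg⟩ := S0111.result PY (A.map π) AP hrel (π s₀) ho
      (mem_map_of_mem π hs₀) (fun hm => hs₀t (memAm hs₀ hm))
    · rcases hMn.eq_bot_or_eq_top with h1 | h1
      · rw [h1, index_bot] at hMi
        refine h.not_comm ?_
        haveI := Fact.mk Nat.prime_two
        haveI : IsCyclic (X ⧸ center X) := isCyclic_of_prime_card hMi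
        exact fun x y => (IsCyclic.commGroup (α := X ⧸ center X)).mul_comm x y
      · rw [h1, index_top] at hMi; norm_num at hMi
    obtain ⟨g, rfl⟩ := QuotientGroup.mk'_surjective (center X) g
    set t₁ := g * s₀ * g⁻¹ with ht₁
    have ht₁m : π t₁ ∈ A.map π := by rw [ht₁, map_mul, map_mul, map_inv]; exact hg
    obtain ⟨k₀, hk₀⟩ := sylow_mem_two S hs₀
    have ht₁S : t₁ ∈ (S : Subgroup X) :=
      mem_of_image_mem S ⟨k₀, by rw [ht₁, conj_pow, hk₀]; group⟩ (AP ht₁m)
    have ht₁t : Commute t₁ t := memAm ht₁S ht₁m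
    have ht₁2 : π t₁ * π t₁ = 1 := by
      rw [← map_mul]; refine hone.2 ?_
      rw [show t₁ * t₁ = g * (s₀ * s₀) * g⁻¹ by rw [ht₁]; group]
      exact (inferInstance : (center X).Normal).conj_mem _ (outside s₀ hs₀ hs₀t) g
    have ht₁cen : ∀ y ∈ (S : Subgroup X), π y * π t₁ = π t₁ * π y := fun y hy => by
      by_cases hyt : Commute y t
      · rw [← map_mul, ← map_mul, (Ac y hy t₁ ht₁S hyt ht₁t).eq]
      · have h1 := inv y hy hyt t₁ ht₁S ht₁t
        rw [inv_eq_of_mul_eq_one_right ht₁2] at h1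
        exact mul_inv_eq_iff_eq_mul.1 h1
    set H := (centralizer ({π s₀} : Set (X ⧸ center X))).comap π with hH
    have memH : ∀ {y : X}, y ∈ H ↔ π y * π s₀ = π s₀ * π y := fun {y} => by
      rw [hH, mem_comap]; exact mem_centralizer_singleton_iff
    have T0H : ((g⁻¹ • S : Sylow 2 X) : Subgroup X) ≤ H := fun y hy => by
      rw [Small.sylow_smul_mem_iff, inv_inv] at hy
      refine memH.2 ?_
      have h1 := ht₁cen _ hy
      simp only [ht₁, map_mul, map_inv] at h1
      calc π y * π s₀ = (π g)⁻¹ * ((π g * π y * (π g)⁻¹) * (π g * π s₀ * (π g)⁻¹)) * π g := by group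
        _ = (π g)⁻¹ * ((π g * π s₀ * (π g)⁻¹) * (π g * π y * (π g)⁻¹)) * π g := by rw [h1]
        _ = π s₀ * π y := by group
    obtain ⟨k, hk, hle⟩ := Small.exists_smul_sylow_ge_inside ((S : Subgroup X) ⊓ H)
      (S.2.to_le inf_le_left) inf_le_right (g⁻¹ • S) T0H
    set K := k * g⁻¹ with hK
    rw [← mul_smul, ← hK] at hle
    have memK : ∀ e ∈ (S : Subgroup X), e ∈ H → K⁻¹ * e * K ∈ (S : Subgroup X) := fun e he heH =>
      (Small.sylow_smul_mem_iff S K e).1 (hle ⟨he, heH⟩)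
    have eH : ∀ e ∈ (S : Subgroup X), Commute e t → e * e ∈ center X → e ∈ H := fun e he het he2 => by
      refine memH.2 ?_
      have h1 := inv s₀ hs₀ hs₀t e he het
      rw [inv_eq_of_mul_eq_one_right (show π e * π e = 1 by rw [← map_mul]; exact hone.2 he2)] at h1
      exact (mul_inv_eq_iff_eq_mul.1 h1).symm
    -- an element of `A` whose image is in the conjugate abelian part
    obtain ⟨u, huS, hut, hu2, huc, huK⟩ : ∃ u ∈ (S : Subgroup X), Commute u t ∧ u * u ∈ center X ∧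
        u ∉ center X ∧ Commute (K⁻¹ * u * K) t := by
      have hka := memK a ha (eH a ha hat ha2)
      have hkb := memK b hb (eH b hb hbt hb2)
      by_cases h1 : Commute (K⁻¹ * a * K) t
      · exact ⟨a, ha, hat, ha2, hac, h1⟩
      by_cases h2 : Commute (K⁻¹ * b * K) t
      · exact ⟨b, hb, hbt, hb2, hbc, h2⟩
      refine ⟨a * b, mul_mem ha hb, hat.mul_left hbt, ?_, fun hc => hab ?_, ?_⟩
      · refine hone.1 ?_
        have hcm : π a * π b = π b * π a := by rw [← map_mul, ← map_mul, (Ac a ha b hb hat hbt).eq]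
        simp only [map_mul]
        calc π a * π b * (π a * π b) = π a * (π b * π a) * π b := by group
          _ = π a * π a * (π b * π b) := by rw [← hcm]; group
          _ = 1 := by rw [← map_mul, ← map_mul, hone.2 ha2, hone.2 hb2, one_mul]
      · rw [show a⁻¹ * b = (a * a)⁻¹ * (a * b) by group]
        exact mul_mem (inv_mem ha2) hc
      · rw [show K⁻¹ * (a * b) * K = (K⁻¹ * a * K) * (K⁻¹ * b * K) by group]
        exact index2 _ hka h1 _ hkb h2
    have hs' : K * t₁ * K⁻¹ = k * s₀ * k⁻¹ := by rw [hK, ht₁]; group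
    have hus : Commute u (k * s₀ * k⁻¹) := by
      rw [← hs']
      have := (Commute.conj_iff K).2 (Ac _ (memK u huS (eH u huS hut hu2)) t₁ ht₁S huK ht₁t)
      rwa [show K * (K⁻¹ * u * K) * K⁻¹ = u by group] at this
    have hζ : (k * s₀ * k⁻¹)⁻¹ * s₀ ∈ center X := hone.1 (by
      simp only [map_mul, map_inv, memH.1 hk]; group)
    have hus₀ : Commute u s₀ := by
      rw [show s₀ = k * s₀ * k⁻¹ * ((k * s₀ * k⁻¹)⁻¹ * s₀) by group]
      exact hus.mul_right (mem_center_iff.1 hζ u)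
    refine huc (h.center_sylow S hSne huS fun y hy => ?_)
    by_cases hyt : Commute y t
    · exact Ac y hy u huS hyt hut
    · have hc := Ac _ (mul_mem hs₀ hy) u huS (index2 s₀ hs₀ hs₀t y hy hyt) hut
      have := hus₀.symm.inv_left.mul_left hc
      simpa using this
  -- the dihedral isomorphism
  have Acomm : ∀ x ∈ A.map π, ∀ y ∈ A.map π, x * y = y * x := by
    rintro _ ⟨x, hx, rfl⟩ _ ⟨y, hy, rfl⟩
    rw [← map_mul, ← map_mul, (Ac x hx.1 y hy.1 (mem_C.1 hx.2) (mem_C.1 hy.2)).eq]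
  have hu : Solv.UniqueOrderP 2 (A.map π) := by
    rintro ⟨_, a, ha, rfl⟩ ⟨_, b, hb, rfl⟩ ha2 hb2 hb1
    have ha2' : a * a ∈ center X := hone.1 (by
      rw [map_mul, ← sq]; simpa using congrArg Subtype.val ha2)
    have hb2' : b * b ∈ center X := hone.1 (by
      rw [map_mul, ← sq]; simpa using congrArg Subtype.val hb2)
    have hbc : b ∉ center X := fun hc => hb1 (Subtype.ext (hone.2 hc))
    by_cases hac : a ∈ center X
    · exact mem_zpowers_iff.2 ⟨0, Subtype.ext (by rw [zpow_zero]; exact (hone.2 hac).symm)⟩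
    · have := runique a ha.1 b hb.1 (mem_C.1 ha.2) ha2' hac (mem_C.1 hb.2) hb2' hbc
      have e : π a = π b := QuotientGroup.eq.2 this
      exact mem_zpowers_iff.2 ⟨1, Subtype.ext (by rw [zpow_one]; exact e.symm)⟩
  obtain ⟨c, -, hc⟩ := Solv.abelian_cyclic_of_unique ((hPp.to_le AP)) hu ⊤
    fun x _ y _ => Subtype.ext (Acomm _ x.2 _ y.2)
  haveI : IsCyclic (A.map π) := ⟨⟨c, fun x => (hc ▸ mem_top x : x ∈ zpowers c)⟩⟩
  have hCcyc : IsCyclic C := (MulEquiv.isCyclic (subgroupOfEquivOfLe AP)).2 inferInstance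
  have hs₀C : (⟨π s₀, mem_map_of_mem π hs₀⟩ : P) ∉ C := fun hm => hs₀t (memAm hs₀ hm)
  obtain ⟨e⟩ := Classical.Dickson.dihedral_of hCcyc hs₀C (Subtype.ext (sinv s₀ hs₀ hs₀t))
    (fun x hx => by
      obtain ⟨a, ha, e⟩ := mem_subgroupOf.1 hx
      refine Subtype.ext ?_
      show π s₀ * (x : X ⧸ center X) * (π s₀)⁻¹ = (x : X ⧸ center X)⁻¹
      rw [← e]; exact inv s₀ hs₀ hs₀t a ha.1 (mem_C.1 ha.2))
    (by rw [← C.index_mul_card, show C.index = 2 from hrel])
  refine ⟨t, Nat.card C, ht, htc, ?_, ⟨s₀, hs₀, hs₀t⟩, Ac, runique, outside, index2, ⟨e⟩⟩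
  refine Finite.one_lt_card_iff_nontrivial.2 ⟨⟨⟨⟨π t, mem_map_of_mem π ht⟩, ?_⟩, 1, fun e => ?_⟩⟩
  · exact mem_map_of_mem π ⟨ht, mem_C.2 (Commute.refl t)⟩
  · exact htc (hone.1 (congrArg (fun w : C => ((w : P) : X ⧸ center X)) e))

end Cfsg.Agent.MinNonCA
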